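import Cfsg.Agent.Lib.Chev.Over.Cert
import Cfsg.Agent.Lib.Chev.SL2

/-!
Leading coordinates of commutators in the positive unipotent subgroup.
-/

set_option autoImplicit false
set_option linter.unusedSectionVars false

namespace Cfsg.Agent.Lib.Chev

open Cfsg.Lie

variable {D : ChevalleyDatum} {T : Tables} {K : Type*} [Field K]

namespace Good

variable (G : Good D T)
include G

/-- `x` conjugated into the commutator with `X_γ(u)`. -/
def kom (γ : ℕ) (u : K) (x : GL D.Idx K) : GL D.Idx K :=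
  (G.X K γ u)⁻¹ * x⁻¹ * G.X K γ u * x

theorem kom_mul (γ : ℕ) (u : K) (x y : GL D.Idx K) :
    G.kom γ u (x * y) = G.kom γ u y * (y⁻¹ * G.kom γ u x * y) := by
  unfold Good.kom; group

theorem kom_inv (γ : ℕ) (u : K) (x : GL D.Idx K) :
    G.kom γ u x⁻¹ = x * (G.kom γ u x)⁻¹ * x⁻¹ := by
  unfold Good.kom; group

theorem tail_le_pos (k : ℕ) : G.tailU K k ≤ D.posUnipotent K := by
  rw [Good.tailU, Subgroup.closure_le]
  rintro g ⟨q, t, hq, hp, -, rfl⟩
  exact G.X_mem_posUnipotent hq hp t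

theorem tail_anti {k k' : ℕ} (h : k ≤ k') : G.tailU K k' ≤ G.tailU K k := by
  rw [Good.tailU, Subgroup.closure_le]
  rintro g ⟨q, t, hq, hp, hk, rfl⟩
  exact G.X_mem_tail hq hp (h.trans hk) t

theorem tail_normal (k : ℕ) {x g : GL D.Idx K} (hx : x ∈ D.posUnipotent K)
    (hg : g ∈ G.tailU K k) : x * g * x⁻¹ ∈ G.tailU K k := by
  have gen : ∀ p, p < D.nroots → npos D ≤ p → ∀ t : K, ∀ y ∈ G.tailU K k,
      G.X K p t * y * (G.X K p t)⁻¹ ∈ G.tailU K k := by
    intro p hp hpp t y hy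
    have h : G.tailU K k ≤ (G.tailU K k).comap (MulAut.conj (G.X K p t)).toMonoidHom := by
      refine (Subgroup.closure_le _).2 ?_
      rintro z ⟨q, v, hq, hpq, hkq, rfl⟩
      show G.X K p t * G.X K q v * (G.X K p t)⁻¹ ∈ G.tailU K k
      by_cases e : q = p
      · subst e
        rw [G.X_add, G.X_inv, G.X_add, add_comm t v, add_neg_cancel_right]
        exact G.X_mem_tail hq hpq hkq v
      have hne : q ≠ ng D p := by have := G.even_n; unfold ng; omega
      have hc := G.commAt (F := K) p q hp hq e hne (-t) v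
      have e2 : G.X K p t * G.X K q v * (G.X K p t)⁻¹ =
          G.X K q v * G.wordG (cw T p q (-t) v) := by
        rw [G.X_inv, mul_assoc, hc, ← mul_assoc, ← mul_assoc, G.X_add, add_neg_cancel, G.X_zero,
          one_mul]
      rw [e2]
      refine mul_mem (G.X_mem_tail hq hpq hkq v) (G.wordG_mem fun w hw => ?_)
      simp only [cw, List.mem_map] at hw
      obtain ⟨⟨j, C, a, b⟩, hc', rfl⟩ := hw
      obtain ⟨hj, h1, h2⟩ := G.terms_gt hp hq hpp hpq hc'
      exact G.X_mem_tail hj (by omega) (by omega) _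
    exact h hy
  rw [← G.tail_npos] at hx
  revert g
  induction hx using Subgroup.closure_induction_left with
  | one => intro g hg; simpa using hg
  | mul_left a ha b _ ih =>
    intro g hg
    obtain ⟨p, t, hp, hpp, -, rfl⟩ := ha
    have := gen p hp hpp t _ (ih hg)
    simpa [mul_assoc] using this
  | inv_mul_cancel a ha b _ ih =>
    intro g hg
    obtain ⟨p, t, hp, hpp, -, rfl⟩ := ha
    have := gen p hp hpp (-t) _ (ih hg)
    rw [G.X_inv]
    simpa [mul_assoc, G.X_inv] using this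

theorem index_lt_of_code {a b : ℕ} (ha : a < D.nroots)
    (h : code D T a < code D T b) : a < b := by
  by_contra hc
  rcases Nat.lt_or_eq_of_le (Nat.le_of_not_lt hc) with h' | h'
  · have := G.code_strictMono h' ha; omega
  · subst h'; exact lt_irrefl _ h

/-- Later coordinates give later commutators. -/
theorem kom_tail {γ δ k : ℕ} (hγ : γ < D.nroots) (hpγ : npos D ≤ γ) (hδ : δ < D.nroots)
    (hpδ : npos D ≤ δ) (hk : k < D.nroots)
    (hcode : code D T k = code D T γ + code D T δ) (u : K) {d : GL D.Idx K}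
    (hd : d ∈ G.tailU K (δ + 1)) : G.kom γ u d ∈ G.tailU K (k + 1) := by
  have gen : ∀ q, q < D.nroots → npos D ≤ q → δ + 1 ≤ q → ∀ v : K,
      G.kom γ u (G.X K q v) ∈ G.tailU K (k + 1) := by
    intro q hq hpq hδq v
    by_cases e : q = γ
    · subst e
      unfold Good.kom
      rw [G.X_inv, G.X_inv, G.X_add, G.X_add, G.X_add,
        show -u + -v + u + v = 0 by ring, G.X_zero]
      exact one_mem _
    have hne : q ≠ ng D γ := by have := G.even_n; unfold ng; omega
    have hc := G.commAt (F := K) γ q hγ hq e hne u v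
    have hW : G.kom γ u (G.X K q v) = (G.wordG (cw T γ q u v))⁻¹ := by
      unfold Good.kom
      have e2 : G.X K γ u * G.X K q v = G.X K q v * G.X K γ u * (G.wordG (cw T γ q u v))⁻¹ := by
        rw [hc]; group
      rw [mul_assoc, e2]; group
    rw [hW]
    refine inv_mem (G.wordG_mem fun w hw => ?_)
    simp only [cw, List.mem_map] at hw
    obtain ⟨⟨j, C, a, b⟩, hc', rfl⟩ := hw
    obtain ⟨hj, ha, hb, hlin⟩ := G.mem_terms hγ hq hc'
    have h1 := G.code_pos hγ hpγ
    have h2 := G.code_pos hq hpq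
    have h3 := G.code_strictMono (show δ < q by omega) hq
    have e1 := code_lin (D := D) hlin
    have ha' : (1 : ℤ) ≤ (a : ℤ) := by exact_mod_cast ha
    have hb' : (1 : ℤ) ≤ (b : ℤ) := by exact_mod_cast hb
    have hlt : code D T k < code D T j := by rw [e1, hcode]; nlinarith
    have hkj := G.index_lt_of_code hk hlt
    refine G.X_mem_tail hj ?_ (by omega) _
    exact G.pos_of_code_pos hj (by
      have := G.code_pos hδ hpδ
      omega)
  induction hd using Subgroup.closure_induction_left with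
  | one => simp [Good.kom]
  | mul_left a ha b hb ih =>
    obtain ⟨q, v, hq, hpq, hδq, rfl⟩ := ha
    rw [G.kom_mul]
    refine mul_mem ih ?_
    have := G.tail_normal (k + 1) (inv_mem (G.tail_le_pos (δ + 1) hb)) (gen q hq hpq hδq v)
    simpa [mul_assoc] using this
  | inv_mul_cancel a ha b hb ih =>
    obtain ⟨q, v, hq, hpq, hδq, rfl⟩ := ha
    rw [G.X_inv, G.kom_mul]
    refine mul_mem ih ?_
    have := G.tail_normal (k + 1) (inv_mem (G.tail_le_pos (δ + 1) hb)) (gen q hq hpq hδq (-v))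
    simpa [mul_assoc] using this

theorem kom_self {k : ℕ} (hk : k < D.nroots) (hpk : npos D ≤ k) (u : K) {e : GL D.Idx K}
    (he : e ∈ D.posUnipotent K) : G.kom k u e ∈ G.tailU K (k + 1) := by
  have gen : ∀ q, q < D.nroots → npos D ≤ q → ∀ v : K,
      G.kom k u (G.X K q v) ∈ G.tailU K (k + 1) := by
    intro q hq hpq v
    by_cases e : q = k
    · subst e
      unfold Good.kom
      rw [G.X_inv, G.X_inv, G.X_add, G.X_add, G.X_add,
        show -u + -v + u + v = 0 by ring, G.X_zero]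
      exact one_mem _
    have hne : q ≠ ng D k := by have := G.even_n; unfold ng; omega
    have hc := G.commAt (F := K) k q hk hq e hne u v
    have hW : G.kom k u (G.X K q v) = (G.wordG (cw T k q u v))⁻¹ := by
      unfold Good.kom
      have e2 : G.X K k u * G.X K q v = G.X K q v * G.X K k u * (G.wordG (cw T k q u v))⁻¹ := by
        rw [hc]; group
      rw [mul_assoc, e2]; group
    rw [hW]
    refine inv_mem (G.wordG_mem fun w hw => ?_)
    simp only [cw, List.mem_map] at hw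
    obtain ⟨⟨j, C, a, b⟩, hc', rfl⟩ := hw
    obtain ⟨hj, h1, h2⟩ := G.terms_gt hk hq hpk hpq hc'
    exact G.X_mem_tail hj (by omega) (by omega) _
  rw [← G.tail_npos] at he
  induction he using Subgroup.closure_induction_left with
  | one => simp [Good.kom]
  | mul_left a ha b hb ih =>
    obtain ⟨q, v, hq, hpq, -, rfl⟩ := ha
    rw [G.kom_mul]
    refine mul_mem ih ?_
    have := G.tail_normal (k + 1) (inv_mem (G.tail_le_pos _ hb)) (gen q hq hpq v)
    simpa [mul_assoc] using this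
  | inv_mul_cancel a ha b hb ih =>
    obtain ⟨q, v, hq, hpq, -, rfl⟩ := ha
    rw [G.X_inv, G.kom_mul]
    refine mul_mem ih ?_
    have := G.tail_normal (k + 1) (inv_mem (G.tail_le_pos _ hb)) (gen q hq hpq (-v))
    simpa [mul_assoc] using this

/-- Only the first term has weights one and one. -/
theorem terms_rest {γ δ k : ℕ} {C : ℤ} {rest : List (ℕ × ℤ × ℕ × ℕ)}
    (h : T.terms γ δ = (k, C, 1, 1) :: rest) : ∀ e ∈ rest, 3 ≤ e.2.2.1 + e.2.2.2 := by
  have hsplit : ∃ tl : List (ℕ × ℤ × ℕ × ℕ), (∀ e ∈ tl, 3 ≤ e.2.2.1 + e.2.2.2) ∧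
      T.terms γ δ = (((T.chRoot γ δ 1).map fun k => (k, T.chM γ δ 1, 1, 1)).toList ++ tl) := by
    refine ⟨[(T.chRoot γ δ 2, T.chM γ δ 2, 2, 1),
      (T.chRoot δ γ 2, T.chM δ γ 2, 1, 2),
      (T.chRoot γ δ 3, T.chM γ δ 3, 3, 1),
      (T.chRoot δ γ 3, - T.chM δ γ 3, 1, 3),
      ((T.chRoot γ δ 3).bind fun k => T.chRoot k δ 1,
        ((T.chRoot γ δ 1).map fun k => T.chM k γ 2 / 3).getD 0, 3, 2),
      ((T.chRoot δ γ 3).bind fun k => T.chRoot k γ 1,
        ((T.chRoot γ δ 1).map fun k => -2 * T.chM k δ 2 / 3).getD 0, 2, 3)].filterMap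
        (fun c : Option ℕ × ℤ × ℕ × ℕ => c.1.map fun k => (k, c.2)), ?_, ?_⟩
    · intro e he
      simp only [List.mem_filterMap, List.mem_cons, List.not_mem_nil, or_false,
        Option.map_eq_some_iff] at he
      obtain ⟨c, hc, k', -, rfl⟩ := he
      rcases hc with rfl | rfl | rfl | rfl | rfl | rfl <;> simp
    · simp only [Tables.terms, List.filterMap_cons]
      cases T.chRoot γ δ 1 <;> simp
  obtain ⟨tl, htl, e⟩ := hsplit
  intro x hx
  rw [h] at e
  cases hr : T.chRoot γ δ 1 with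
  | none =>
    simp only [hr, Option.map_none, Option.toList_none, List.nil_append] at e
    exact htl x (e ▸ List.mem_cons_of_mem _ hx)
  | some k' =>
    simp only [hr, Option.map_some, Option.toList_some, List.singleton_append,
      List.cons.injEq] at e
    exact htl x (e.2 ▸ hx)

/-- The leading coordinate of a commutator. -/
theorem lead {γ δ k : ℕ} {C : ℤ} {rest : List (ℕ × ℤ × ℕ × ℕ)} (hγ : γ < D.nroots)
    (hpγ : npos D ≤ γ) (hδ : δ < D.nroots) (hpδ : npos D ≤ δ) (hne : δ ≠ γ)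
    (hT : T.terms γ δ = (k, C, 1, 1) :: rest) (u t : K) {d : GL D.Idx K}
    (hd : d ∈ G.tailU K (δ + 1)) :
    k < D.nroots ∧ δ < k ∧ ∃ h ∈ G.tailU K (k + 1),
      G.kom γ u (G.X K δ t * d) = G.X K k ((C : K) * (u * t)) * h := by
  obtain ⟨hk, -, -, hlin⟩ := G.mem_terms hγ hδ (hT ▸ List.mem_cons_self)
  have hgt := G.terms_gt hγ hδ hpγ hpδ (hT ▸ List.mem_cons_self)
  have hcode : code D T k = code D T γ + code D T δ := by
    have := code_lin (D := D) hlin; simpa using this
  have hn : δ ≠ ng D γ := by have := G.even_n; unfold ng; omega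
  have hc := G.commAt (F := K) γ δ hγ hδ hne hn u t
  have hK : G.kom γ u (G.X K δ t) = (G.wordG (cw T γ δ u t))⁻¹ := by
    unfold Good.kom
    have e2 : G.X K γ u * G.X K δ t = G.X K δ t * G.X K γ u * (G.wordG (cw T γ δ u t))⁻¹ := by
      rw [hc]; group
    rw [mul_assoc, e2]; group
  set R := G.wordG (rest.map fun c => (c.1, (c.2.1 : K) * (-u) ^ c.2.2.1 * t ^ c.2.2.2)) with hR
  have hRt : R ∈ G.tailU K (k + 1) := by
    refine G.wordG_mem fun w hw => ?_
    obtain ⟨⟨j, M, a, b⟩, hm, rfl⟩ := List.mem_map.1 hw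
    obtain ⟨hj, ha, hb, hl⟩ := G.mem_terms hγ hδ (hT ▸ List.mem_cons_of_mem _ hm)
    have h3 := G.terms_rest hT _ hm
    have h1 := G.code_pos hγ hpγ
    have h2 := G.code_pos hδ hpδ
    have e1 := code_lin (D := D) hl
    have ha' : (1 : ℤ) ≤ (a : ℤ) := by exact_mod_cast ha
    have hb' : (1 : ℤ) ≤ (b : ℤ) := by exact_mod_cast hb
    have h3' : (3 : ℤ) ≤ (a : ℤ) + b := by exact_mod_cast h3
    have hlt : code D T k < code D T j := by rw [e1, hcode]; nlinarith
    have hkj := G.index_lt_of_code hk hlt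
    exact G.X_mem_tail hj (by omega) (by omega) _
  have hw : G.wordG (cw T γ δ u t) = G.X K k (-((C : K) * (u * t))) * R := by
    simp only [hR, cw, hT, List.map_cons, Good.wordG, List.map_map, List.prod_cons]
    congr 2
    simp; ring
  refine ⟨hk, hgt.2.2, ?_⟩
  rw [G.kom_mul, hK, hw, mul_inv_rev, G.X_inv, neg_neg]
  have hdU : d ∈ D.posUnipotent K := G.tail_le_pos _ hd
  have h1 := G.kom_tail hγ hpγ hδ hpδ hk hcode u hd
  set Kd := G.kom γ u d
  set Xk := G.X K k ((C : K) * (u * t)) with hXk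
  have hXU : Xk ∈ D.posUnipotent K := G.X_mem_posUnipotent hk (by omega) _
  -- `d⁻¹ Xk d ≡ Xk` modulo the tail
  have h4 : Xk⁻¹ * d⁻¹ * Xk * d ∈ G.tailU K (k + 1) := G.kom_self hk (by omega) _ hdU
  refine ⟨Xk⁻¹ * (Kd * (d⁻¹ * (R⁻¹ * Xk) * d)), ?_, by group⟩
  have e5 : Xk⁻¹ * (Kd * (d⁻¹ * (R⁻¹ * Xk) * d)) =
      (Xk⁻¹ * Kd * Xk) * ((Xk⁻¹ * (d⁻¹ * R⁻¹ * d) * Xk) * (Xk⁻¹ * d⁻¹ * Xk * d)) := by group
  rw [e5]
  refine mul_mem ?_ (mul_mem ?_ h4)
  · simpa using G.tail_normal (k + 1) (inv_mem hXU) h1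
  · have := G.tail_normal (k + 1) (inv_mem hXU)
      (G.tail_normal (k + 1) (inv_mem hdU) (inv_mem hRt))
    simpa [mul_assoc] using this

/-- A fixed element of a tail has fixed coordinates. -/
theorem fix_split (f : K →+* K) {k : ℕ} (hk : k < D.nroots) (hpk : npos D ≤ k) {t : K}
    {h : GL D.Idx K} (hh : h ∈ G.tailU K (k + 1))
    (hfix : gmap f (G.X K k t * h) = G.X K k t * h) : f t = t ∧ gmap f h = h := by
  have hh' : gmap f h ∈ G.tailU K (k + 1) := by
    have hle : G.tailU K (k + 1) ≤ (G.tailU K (k + 1)).comap (gmap f) := by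
      refine (Subgroup.closure_le _).2 ?_
      rintro z ⟨q, v, hq, hpq, hkq, rfl⟩
      show gmap f (G.X K q v) ∈ G.tailU K (k + 1)
      rw [G.gmap_X]
      exact G.X_mem_tail hq hpq hkq _
    exact hle hh
  rw [map_mul, G.gmap_X] at hfix
  have e : G.X K k (-t + f t) = h * (gmap f h)⁻¹ := by
    rw [← G.X_add, ← G.X_inv, eq_mul_inv_iff_mul_eq, mul_assoc, hfix, inv_mul_cancel_left]
  have h0 : -t + f t = 0 := G.X_tail_eq_zero hk hpk (e ▸ mul_mem hh (inv_mem hh'))
  have ht : f t = t := by linear_combination h0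
  rw [ht, mul_right_inj] at hfix
  exact ⟨ht, hfix⟩

end Good

end Cfsg.Agent.Lib.Chev
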