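import Cfsg.Agent.Lib.Chev.Over.Point

/-!
The overgroup meets the Borel subgroup in fixed elements.
-/

set_option autoImplicit false
set_option linter.unusedSectionVars false

namespace Cfsg.Agent.Lib.Chev

open Cfsg.Lie

variable {D : ChevalleyDatum} {T : Tables} {c : OCfg} {K : Type*} [Field K] {G : Good D T}
  {f : K →+* K} {H : Subgroup (GL D.Idx K)}

namespace OverH

variable (S : OverH G f H) (O : OverFacts D T c)
include S O

/-- The diagonal part of a Borel element of the group is fixed. -/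
theorem diag_fixed {v h : GL D.Idx K} (hv : v ∈ D.posUnipotent K) (hh : h ∈ D.diagonalSubgroup K)
    (hb : v * h ∈ H) : gmap f h = h := by
  obtain ⟨cc, hcc, e⟩ := G.exists_tor hh
  have hχ := G.isChar_tor (c := cc) fun i _ => hcc i
  set χ := tor D T cc
  have hconj : ∀ r < D.nroots, ∀ t : K, h * G.X K r t * h⁻¹ = G.X K r (χ r * t) :=
    fun r hr t => G.diag_conj_X e hχ hr t
  have hsim : ∀ i < D.rank, f (χ (sim D i)) = χ (sim D i) := by
    intro i hi
    have hsi := G.sim_lt hi
    have hpi := G.sim_pos hi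
    have hw := mul_mem (mul_mem hb (S.mem_X_one (sim D i))) (inv_mem hb)
    rw [show v * h * G.X K (sim D i) 1 * (v * h)⁻¹ =
      v * (h * G.X K (sim D i) 1 * h⁻¹) * v⁻¹ by group, hconj _ hsi, mul_one] at hw
    set x := G.X K (sim D i) (χ (sim D i))
    have hw' : v * x * v⁻¹ = x * G.kom (sim D i) (χ (sim D i)) v⁻¹ := by
      simp only [Good.kom, inv_inv, x]; group
    rw [hw'] at hw
    exact S.coord_fixed O hsi hpi (G.kom_self hsi hpi _ (inv_mem hv)) hw
  set d := h⁻¹ * gmap f h with hd
  have hdd : d ∈ D.diagonalSubgroup K := mul_mem (inv_mem hh) (G.gmap_diag f hh)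
  have hcs : ∀ i < D.rank, ∀ r, r = sim D i ∨ r = ng D (sim D i) →
      Commute d (G.X K r 1) := by
    intro i hi r hr
    have hrl : r < D.nroots := by
      rcases hr with rfl | rfl
      exacts [G.sim_lt hi, G.ng_lt (G.sim_lt hi)]
    have hfix : f (χ r) = χ r := by
      rcases hr with rfl | rfl
      · exact hsim i hi
      · have h1 := hconj _ (G.ng_lt (G.sim_lt hi)) (1 : K)
        have hneg : χ (ng D (sim D i)) = (χ (sim D i))⁻¹ := by
          refine eq_inv_of_mul_eq_one_left ?_
          show tor D T cc (ng D (sim D i)) * tor D T cc (sim D i) = 1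
          unfold tor
          rw [← Finset.prod_mul_distrib]
          refine Finset.prod_eq_one fun j hj => ?_
          rw [G.A_ng (G.sim_lt hi) (Finset.mem_range.1 hj), ← zpow_add₀ (hcc j), neg_add_cancel,
            zpow_zero]
        rw [hneg, map_inv₀, hsim i hi]
    have h1 := congrArg (gmap f) (hconj r hrl 1)
    rw [map_mul, map_mul, map_inv, G.gmap_X, G.gmap_X, map_one, mul_one, hfix] at h1
    have h2 := hconj r hrl 1
    rw [mul_one, ← h1] at h2
    show d * G.X K r 1 = G.X K r 1 * d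
    calc d * G.X K r 1 = h⁻¹ * (gmap f h * G.X K r 1 * (gmap f h)⁻¹) * gmap f h := by
          rw [hd]; group
      _ = _ := by rw [← h2, hd]; group
  have hall : ∀ r < D.nroots, ∀ s : ℤ, Commute d (G.X K r (s : K)) := by
    have hint : ∀ r, Commute d (G.X K r 1) → ∀ s : ℤ, Commute d (G.X K r (s : K)) := by
      intro r h s
      induction s with
      | zero => rw [Int.cast_zero, G.X_zero]; exact Commute.one_right d
      | succ n ih => rw [Int.cast_add, Int.cast_one, ← G.X_add]; exact ih.mul_right h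
      | pred n ih =>
        rw [Int.cast_sub, Int.cast_one, sub_eq_add_neg, ← G.X_add, ← G.X_inv r (1 : K)]
        exact ih.mul_right h.inv_right
    have hni : ∀ i < D.rank, Commute d (G.ni K i) := fun i hi => by
      have h1 := hint _ (hcs i hi _ (Or.inl rfl)) 1
      have h2 := hint _ (hcs i hi _ (Or.inr rfl)) (-1)
      rw [Int.cast_one] at h1
      rw [Int.cast_neg, Int.cast_one] at h2
      rw [Good.ni, Good.Ng, inv_one]
      exact (h1.mul_right h2).mul_right h1
    refine G.root_induction (fun i hi => hint _ (hcs i hi _ (Or.inl rfl))) fun i r hi hr hC s => ?_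
    have h3 := ((hni i hi).mul_right (hC (T.eta i r * s))).mul_right (hni i hi).inv_right
    rwa [G.ni_conj_X hi hr, Int.cast_mul, ← mul_assoc, ← Int.cast_mul, Tables.eta_mul_self,
      Int.cast_one, one_mul] at h3
  have h1 := G.eq_one_of_commute_X_one (G.borel_le_group (Subgroup.mem_sup_right hdd)) fun r hr => by
      have := (hall r hr 1).eq; rw [Int.cast_one] at this; exact this.symm
  exact (inv_mul_eq_one.1 h1).symm

/-- Conjugates of positive root elements read off a coordinate. -/
theorem borel_step {e γ k : ℕ} {C : ℤ} {rest : List (ℕ × ℤ × ℕ × ℕ)} (he : e < D.nroots)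
    (hpe : npos D ≤ e) (hγ : γ < D.nroots) (hpγ : npos D ≤ γ) (hne : γ ≠ e)
    (hT : T.terms γ e = (k, C, 1, 1) :: rest) {u : K} (hu : f u = u) (hu0 : u ≠ 0)
    {t : K} {d : GL D.Idx K} (hd : d ∈ G.tailU K (e + 1))
    (hw : (G.X K e t * d) * G.X K γ u * (G.X K e t * d)⁻¹ ∈ H) :
    f ((C : K) * t) = (C : K) * t := by
  have hd' : G.X K e t * d⁻¹ * (G.X K e t)⁻¹ ∈ G.tailU K (e + 1) :=
    G.tail_normal (e + 1) (G.X_mem_posUnipotent he hpe t) (inv_mem hd)
  set d' := G.X K e t * d⁻¹ * (G.X K e t)⁻¹ with hd''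
  have e' : (G.X K e t * d)⁻¹ = G.X K e (-t) * d' := by rw [hd'', ← G.X_inv e t]; group
  have hk := mul_mem (inv_mem (S.mem_X (r := γ) hu)) hw
  have e3 : (G.X K γ u)⁻¹ * ((G.X K e t * d) * G.X K γ u * (G.X K e t * d)⁻¹) =
      G.kom γ u ((G.X K e t * d)⁻¹) := by
    unfold Good.kom; group
  rw [e3, e'] at hk
  obtain ⟨hkn, hlt, h, hh, e4⟩ := G.lead hγ hpγ he hpe (Ne.symm hne) hT u (-t) hd'
  rw [e4] at hk
  have := S.coord_fixed O hkn (by omega) hh hk
  rw [map_mul, map_mul, map_neg, map_intCast, hu] at this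
  rw [map_mul, map_intCast]
  exact mul_left_cancel₀ hu0 (by linear_combination -this)

/-- A fixed diagonal element moves the root elements by fixed scalars. -/
theorem conj_mem {h : GL D.Idx K} (hh : h ∈ D.diagonalSubgroup K) (hfix : gmap f h = h) {r : ℕ}
    (hr : r < D.nroots) : ∃ u : K, f u = u ∧ u ≠ 0 ∧
      ∀ v, v * h ∈ H → v * G.X K r u * v⁻¹ ∈ H := by
  obtain ⟨-, u, hu, e⟩ := G.act_diag hh r hr
  have e1 := e 1
  simp only [id_eq, mul_one] at e1
  refine ⟨u, G.X_injective hr ?_, hu, fun v hv => ?_⟩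
  · have := congrArg (gmap f) e1
    rw [map_mul, map_mul, map_inv, hfix, G.gmap_X, G.gmap_X, map_one, e1] at this
    exact this.symm
  · rw [← e1]
    have := mul_mem (mul_mem hv (S.mem_X_one r)) (inv_mem hv)
    rwa [show v * (h * G.X K r 1 * h⁻¹) * v⁻¹ = v * h * G.X K r 1 * (v * h)⁻¹ by group]

theorem borel_top_case {h : GL D.Idx K} (hh : h ∈ D.diagonalSubgroup K) (hfix : gmap f h = h)
    {t : K} (hm : G.X K (topR D) t * h ∈ H) : f t = t := by
  obtain ⟨b, hb⟩ := O.pair
  obtain ⟨C, rest, hT, hC, hrest⟩ := hb.neg_top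
  have ha := G.sim_lt O.a0
  have hR := S.topR_lt O
  have hRp := S.topR_pos O
  have hna := G.ng_lt ha
  have hn : ng D (sim D c.a0) < npos D := by
    have := G.even_n; have := G.sim_pos O.a0; unfold ng; omega
  obtain ⟨u, hu, hu0, hconj⟩ := S.conj_mem O hh hfix hna
  have hne' : topR D ≠ ng D (ng D (sim D c.a0)) := by
    rw [G.ng_ng ha]
    intro e
    have h1 := hb.add c.a0 O.a0
    rw [← e] at h1
    have h2 : T.k c.a0 b = 0 := by linear_combination h1
    have h3 : code D T b = 0 * code D T b + 0 * code D T b := Good.code_lin (D := D) fun i hi => by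
      have := hb.add i hi
      rw [← e] at this
      have : T.k i b = 0 := by linear_combination this
      rw [this]; ring
    have := G.code_pos hb.b_lt hb.b_pos
    omega
  have hc := G.commAt (F := K) (ng D (sim D c.a0)) (topR D) hna hR (by omega) hne' u t
  set W := G.wordG (Good.cw T (ng D (sim D c.a0)) (topR D) u t) with hW
  have hWpos : W ∈ D.posUnipotent K := by
    refine G.wordG_mem fun w hw => ?_
    simp only [Good.cw, hT, List.map_cons, List.mem_cons, List.mem_map] at hw
    rcases hw with rfl | ⟨x, hx, rfl⟩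
    · exact G.X_mem_posUnipotent hb.b_lt hb.b_pos _
    · obtain ⟨k, M, a, b', d⟩ : ∃ k M a b', x = (k, M, a, b') := ⟨_, _, _, _, rfl⟩
      subst d
      obtain ⟨hk, -, -, -⟩ := G.mem_terms hna hR (hT ▸ List.mem_cons_of_mem _ hx)
      cases h : c.a2 with
      | true => simp [h] at hrest; simp [hrest] at hx
      | false =>
        simp only [h, Bool.false_eq_true, if_false] at hrest
        obtain ⟨k', M', x', y', rfl, -, hp, -⟩ := hrest
        simp only [List.mem_singleton, Prod.mk.injEq] at hx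
        exact G.X_mem_posUnipotent hk (hx.1 ▸ hp) _
  have hWH : W ∈ H := by
    have := mul_mem (inv_mem (S.mem_X (r := ng D (sim D c.a0)) hu)) (hconj _ hm)
    rwa [hc, mul_assoc _ W, mul_assoc _ (G.X K (topR D) t), ← mul_assoc (G.X K (topR D) t) W,
      ← (O.commute_top G hWpos t).eq, mul_inv_cancel_right, inv_mul_cancel_left] at this
  have hfx : ∀ {x : K}, G.X K b x ∈ H → f x = x := fun h => S.par b hb.b_lt _ h
  have hgoal : f ((C : K) * -u * t) = (C : K) * -u * t → f t = t := fun h => by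
    refine fix_of_unit hC ?_
    rw [map_mul, map_mul, map_intCast, map_neg, hu] at h
    rw [map_mul, map_intCast]
    exact mul_left_cancel₀ (neg_ne_zero.2 hu0) (by linear_combination h)
  cases h : c.a2 with
  | true =>
    simp only [h, if_pos] at hrest
    subst hrest
    refine hgoal (hfx ?_)
    simpa [hW, Good.cw, hT, Good.wordG] using hWH
  | false =>
    simp only [h, Bool.false_eq_true, if_false] at hrest
    obtain ⟨k, M, x', y', rfl, hkb, hkp, hcm⟩ := hrest
    have hk : k < D.nroots := by have := hb.b_lt; omega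
    have hne : b ≠ ng D k := by have := G.even_n; have := hb.b_lt; unfold ng; omega
    have hWe : W = G.X K k ((M : K) * (-u) ^ x' * t ^ y') * G.X K b ((C : K) * -u * t) := by
      rw [(G.commute_of_terms hk hb.b_lt (by omega) hne hcm _ _).eq]
      simp [hW, Good.cw, hT, Good.wordG]
    rw [hWe] at hWH
    have h1 := S.coord_fixed O hk hkp (G.X_mem_tail hb.b_lt hb.b_pos (by omega) _) hWH
    refine hgoal (hfx ?_)
    have := mul_mem (inv_mem (S.mem_X (r := k) h1)) hWH
    rwa [inv_mul_cancel_left] at this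

theorem borel_strip (hne : c.rs ≠ topR D) {h : GL D.Idx K} (hh : h ∈ D.diagonalSubgroup K)
    (hfix : gmap f h = h) {t : K} :
    ∀ (n e : ℕ), e + n = topR D → c.rs < e → ∀ d ∈ G.tailU K e,
      d * G.X K c.rs t * h ∈ H → ∃ s, G.X K (topR D) s * G.X K c.rs t * h ∈ H := by
  have hR := S.topR_lt O
  have hrs := O.rs_lt
  have hrp := O.rs_pos
  intro n
  induction n with
  | zero =>
    intro e he _ d hd hm
    rw [Nat.add_zero] at he; subst he
    obtain ⟨s, d', hd', rfl⟩ := G.tail_decomp hR (S.topR_pos O) hd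
    rw [S.top_tail O hd', mul_one] at hm
    exact ⟨s, hm⟩
  | succ n ihn =>
    intro e he hlt d hd hm
    have hel : e < D.nroots := by omega
    obtain ⟨u', d', hd', rfl⟩ := G.tail_decomp hel (by omega) hd
    obtain ⟨g, hg, hgp, hgd, k, C, rest, hT, hcase⟩ :=
      O.up e hel (by omega) (by omega) (by omega)
    rcases hcase with ⟨hC, h' | h' | hcm⟩ | ⟨h', -⟩
    · omega
    · exact absurd h' hne
    swap
    · omega
    obtain ⟨u, hu, hu0, hconj⟩ := S.conj_mem O hh hfix hg
    have hw := hconj _ hm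
    have hc : Commute (G.X K c.rs t) (G.X K g u) := by
      by_cases e' : c.rs = g
      · subst e'
        show _ * _ = _ * _
        rw [G.X_add, G.X_add, add_comm]
      · exact (G.commute_of_terms hg hrs e' (by have := G.even_n; unfold ng; omega) hcm u t).symm
    rw [mul_assoc (G.X K e u' * d'), hc.eq, mul_inv_rev, ← mul_assoc, ← mul_assoc _ (G.X K g u),
      mul_inv_cancel_right] at hw
    have hu' := fix_of_unit hC (S.borel_step O hel (by omega) hg hgp hgd hT hu hu0 hd' hw)
    refine ihn (e + 1) (by omega) (by omega) d' hd' ?_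
    have := mul_mem (inv_mem (S.mem_X (r := e) hu')) hm
    rwa [show (G.X K e u')⁻¹ * (G.X K e u' * d' * G.X K c.rs t * h) = d' * G.X K c.rs t * h by
      group] at this

theorem borel_rs_case (hne : c.rs ≠ topR D) (hd0 : DownFacts D T c) {h : GL D.Idx K}
    (hh : h ∈ D.diagonalSubgroup K) (hfix : gmap f h = h) {t : K} {d : GL D.Idx K}
    (hd : d ∈ G.tailU K (c.rs + 1)) (hm : G.X K c.rs t * d * h ∈ H) : f t = t := by
  have hR := S.topR_lt O
  have hrs := O.rs_lt
  have hrp := O.rs_pos
  obtain ⟨g, hg, hgp, hgd, k₁, C, rest₁, k, C', rest, hT, hT', hkp, hrest, hgcd, h23⟩ := hd0.step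
  obtain ⟨u, hu, hu0, hconj⟩ := S.conj_mem O hh hfix hg
  have hC : f ((C : K) * t) = (C : K) * t :=
    S.borel_step O hrs hrp hg hgp hgd hT hu hu0 hd (hconj _ hm)
  refine fix_of_coeff hgcd hC ?_
  by_cases hC0 : (C : K) = 0
  swap
  · rw [map_mul, map_intCast] at hC
    rw [map_mul, map_intCast, mul_left_cancel₀ hC0 hC]
  have hd' : G.X K c.rs t * d * (G.X K c.rs t)⁻¹ ∈ G.tailU K (c.rs + 1) :=
    G.tail_normal _ (G.X_mem_posUnipotent hrs hrp t) hd
  obtain ⟨s, hs⟩ := S.borel_strip O hne hh hfix (t := t) (topR D - (c.rs + 1)) (c.rs + 1)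
    (by unfold topR at hne ⊢; omega) (by omega) _ hd' (by
      rwa [inv_mul_cancel_right])
  set z := G.X K (topR D) s * G.X K c.rs t
  have hj := G.sim_lt O.j_lt
  obtain ⟨x, hx, hx0, hconj'⟩ := S.conj_mem O hh hfix (G.ng_lt hj)
  have hz := hconj' _ hs
  have hjp := G.sim_pos O.j_lt
  have hev := G.even_n
  have hneg : ng D (sim D c.j) < npos D := by unfold ng; omega
  have hne1 : c.rs ≠ ng D (ng D (sim D c.j)) := by rw [G.ng_ng hj]; exact hd0.ne_sim
  have hne2 : topR D ≠ ng D (ng D (sim D c.j)) := by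
    rw [G.ng_ng hj]; intro e
    have h1 := hd0.Aj_top
    rw [e, G.A_sim O.j_lt] at h1
    exact two_ne_zero h1
  have hc1 := G.commAt (F := K) (ng D (sim D c.j)) c.rs (G.ng_lt hj) hrs (by omega) hne1 x t
  have hc2 := G.commute_of_terms (F := K) (G.ng_lt hj) hR (by have := S.topR_pos O; omega)
    hne2 hd0.comm_top x s
  set W := G.wordG (Good.cw T (ng D (sim D c.j)) c.rs x t) with hW
  have hk : k < D.nroots := (G.mem_terms (G.ng_lt hj) hrs (hT' ▸ List.mem_cons_self)).1
  have hWe : ∃ w ∈ G.tailU K (k + 1), W = G.X K k ((C' : K) * -x * t) * w := by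
    refine ⟨G.wordG (rest.map fun c => (c.1, (c.2.1 : K) * (-x) ^ c.2.2.1 * t ^ c.2.2.2)), ?_,
      by simp [hW, Good.cw, hT', Good.wordG, List.map_map, Function.comp_def]⟩
    refine list_prod_mem fun y hy => ?_
    obtain ⟨p, hp, rfl⟩ := List.mem_map.1 hy
    obtain ⟨q, hq, rfl⟩ := List.mem_map.1 hp
    rcases hrest q hq with h1 | h1
    · obtain ⟨hqn, -⟩ := G.mem_terms (r := ng D (sim D c.j)) (s := c.rs) (G.ng_lt hj) hrs
        (show (q.1, q.2.1, q.2.2.1, q.2.2.2) ∈ _ from hT' ▸ List.mem_cons_of_mem _ hq)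
      exact G.X_mem_tail hqn (by omega) (by omega) _
    · obtain ⟨m, hm'⟩ := Int.dvd_of_emod_eq_zero h1
      have hn0 : ((C.natAbs : ℤ) : K) = 0 := by
        rcases Int.natAbs_eq C with e | e
        · rw [← e, hC0]
        · rw [show (C.natAbs : ℤ) = -C by omega, Int.cast_neg, hC0, neg_zero]
      rw [hm', Int.cast_mul, hn0, zero_mul, zero_mul, zero_mul, G.X_zero]
      exact one_mem _
  obtain ⟨w, hw, hWe⟩ := hWe
  have hzU : z ∈ D.posUnipotent K :=
    mul_mem (G.X_mem_posUnipotent hR (S.topR_pos O) s) (G.X_mem_posUnipotent hrs hrp t)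
  have key : (G.X K (ng D (sim D c.j)) x)⁻¹ * (z * G.X K (ng D (sim D c.j)) x * z⁻¹) =
      z * W * z⁻¹ := by
    rw [show z * G.X K (ng D (sim D c.j)) x = G.X K (topR D) s *
      (G.X K c.rs t * G.X K (ng D (sim D c.j)) x) from mul_assoc _ _ _, hc1,
      ← mul_assoc (G.X K (topR D) s), ← mul_assoc (G.X K (topR D) s), ← hc2.eq]
    simp only [z]; group
  have hzW := mul_mem (inv_mem (S.mem_X (r := ng D (sim D c.j)) hx)) hz
  rw [key, hWe, show z * (G.X K k ((C' : K) * -x * t) * w) * z⁻¹ =
    G.X K k ((C' : K) * -x * t) * (G.kom k ((C' : K) * -x * t) z⁻¹ * (z * w * z⁻¹)) by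
      simp only [Good.kom, inv_inv]; group] at hzW
  have h := S.coord_fixed O hk hkp
    (mul_mem (G.kom_self hk hkp _ (inv_mem hzU)) (G.tail_normal _ hzU hw)) hzW
  rw [map_mul, map_mul, map_intCast, map_neg, hx] at h
  rw [map_mul, map_intCast]
  exact mul_left_cancel₀ (neg_ne_zero.2 hx0) (by linear_combination h)

theorem borel_tail {h : GL D.Idx K} (hh : h ∈ D.diagonalSubgroup K) (hfix : gmap f h = h) :
    ∀ (n δ : ℕ), δ + n = D.nroots → npos D ≤ δ → ∀ v ∈ G.tailU K δ, v * h ∈ H →
      gmap f v = v := by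
  intro n
  induction n with
  | zero =>
    intro δ he _ v hv _
    rw [G.tail_bot (by omega), Subgroup.mem_bot] at hv
    rw [hv, map_one]
  | succ n ihn =>
    intro δ he hpδ v hv hm
    have hδ : δ < D.nroots := by omega
    obtain ⟨t, d, hd, rfl⟩ := G.tail_decomp hδ hpδ hv
    suffices ht : f t = t by
      have hd' : d * h ∈ H := by
        have := mul_mem (inv_mem (S.mem_X (r := δ) ht)) hm
        rwa [show (G.X K δ t)⁻¹ * (G.X K δ t * d * h) = d * h by group] at this
      rw [map_mul, gmap_X_fix (G := G) ht, ihn (δ + 1) (by omega) (by omega) d hd hd']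
    by_cases hR : δ = topR D
    · subst hR
      rw [S.top_tail O hd, mul_one] at hm
      exact S.borel_top_case O hh hfix hm
    by_cases hrs : δ = c.rs
    · subst hrs
      rcases O.down with h' | h'
      · exact absurd h' hR
      · exact S.borel_rs_case O hR h' hh hfix hd hm
    obtain ⟨γ, hγ, hγp, hne, k, C, rest, hT, hcase⟩ := O.up δ hδ hpδ hR hrs
    obtain ⟨u, hu, hu0, hconj⟩ := S.conj_mem O hh hfix hγ
    have h1 := S.borel_step O hδ hpδ hγ hγp hne hT hu hu0 hd (hconj _ hm)
    rcases hcase with ⟨hC, -⟩ | ⟨-, γ', hγ', hγp', hne', k', C', rest', hT', hgcd⟩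
    · exact fix_of_unit hC h1
    · obtain ⟨u', hu', hu0', hconj'⟩ := S.conj_mem O hh hfix hγ'
      exact fix_of_coeff hgcd h1
        (S.borel_step O hδ hpδ hγ' hγp' hne' hT' hu' hu0' hd (hconj' _ hm))

/-- Elements of the overgroup in the Borel subgroup are fixed. -/
theorem borel_fixed {b : GL D.Idx K} (hb : b ∈ H) (hB : b ∈ D.borelSubgroup K) :
    gmap f b = b := by
  obtain ⟨v, hv, h, hh, rfl⟩ := G.mem_borel.1 hB
  have hfix := S.diag_fixed O hv hh hb
  rw [map_mul, hfix, S.borel_tail O hh hfix (npos D) (npos D) (by have := G.even_n; omega) le_rfl v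
    (by rw [G.tail_npos]; exact hv) hb]

end OverH

end Cfsg.Agent.Lib.Chev
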