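import Cfsg.Agent.Lib.Chev.LongRoot
import Cfsg.Agent.Lib.Chev.NormalForm
import Cfsg.Agent.Lib.Chev.All
import Cfsg.Agent.Lib.Chev.Subfield

/-!
Certificates for the study of finite overgroups of a subfield Chevalley group.
-/

set_option autoImplicit false

namespace Cfsg.Agent.Lib.Chev

open Cfsg.Lie

/-- Fixed choices for a datum. -/
structure OCfg where
  /-- fundamental index not orthogonal to the highest root -/
  a0 : ℕ
  /-- fundamental index orthogonal to the highest root but not to `rs` -/
  j : ℕ
  /-- highest short root (highest root when all roots have one length) -/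
  rs : ℕ
  /-- a word for the reflection in the highest root -/
  lR : List ℕ
  /-- a word fixing the highest root exchanging the two lowest ways to it -/
  n0 : List ℕ
  /-- word and two fundamental indices of a rank two subsystem of type B -/
  lb : List ℕ
  ia : ℕ
  ib : ℕ
  /-- whether the fundamental root at `a0` is long -/
  a2 : Bool

variable (D : ChevalleyDatum) (T : Tables)

/-- the highest root -/
def topR : ℕ := D.nroots - 1

/-- a root all of whose pairings with other roots are at most one -/
def isLong (g : ℕ) : Bool :=
  allLt D.nroots fun s => s == g || s == ng D g ||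
    decide ((isum D.rank fun j => T.c g j * T.A j s).natAbs ≤ 1)

/-- long roots; all roots count when there is no special short root -/
def lng (c : OCfg) (g : ℕ) : Bool := c.rs == topR D || isLong D T g

/-- positive roots moved by the reflection in the highest root -/
def inQ (c : OCfg) (q : ℕ) : Bool := decide (wl T c.lR q < npos D)

/-- the first term of a commutator is a single new root with coefficient `C` -/
def firstTerm (g d k : ℕ) (C : ℤ) : Bool :=
  match T.terms g d with
  | [] => false
  | e :: _ => e == (k, C, 1, 1)

/-- unit up steps, or two of coprime coefficients -/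
def chkUpOver (c : OCfg) : Bool :=
  allLt D.nroots fun d => decide (d < npos D) || d == topR D || d == c.rs ||
    anyLt D.nroots fun g => decide (npos D ≤ g) && g != d &&
      match T.terms g d with
      | [] => false
      | (_, C, a, b) :: _ => decide (a = 1) && decide (b = 1) &&
        (if C.natAbs = 1 then decide (d ≤ c.rs) || c.rs == topR D || (T.terms g c.rs).isEmpty
         else decide (d ≤ c.rs) && anyLt D.nroots fun g' => decide (npos D ≤ g') && g' != d &&
           match T.terms g' d with
           | [] => false
           | (_, C', a', b') :: _ => decide (a' = 1) && decide (b' = 1) &&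
               decide (Nat.gcd C.natAbs C'.natAbs = 1))

/-- the special short root -/
def chkRs (c : OCfg) : Bool :=
  decide (c.j < D.rank) && decide (npos D ≤ c.rs) && decide (c.rs < D.nroots) &&
  (c.rs == topR D ||
    (T.A c.j (topR D) == 0) && (T.A c.j c.rs == 1) &&
    (T.terms (ng D (sim D c.j)) (topR D)).isEmpty &&
    (c.rs != sim D c.j) &&
    anyLt D.nroots fun g => decide (npos D ≤ g) && g != c.rs &&
      match T.terms g c.rs, T.terms (ng D (sim D c.j)) c.rs with
      | (_, C, a, b) :: _, (k, C', a', b') :: rest =>
          decide (a = 1) && decide (b = 1) && decide (a' = 1) && decide (b' = 1) &&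
          decide (npos D ≤ k) && rest.all (fun e => decide (k < e.1) || decide (e.2.1 % (C.natAbs : ℤ) = 0)) &&
          decide (Nat.gcd C.natAbs C'.natAbs = 1) &&
          (if C.natAbs = 2 then
            c.lb.all (fun i => decide (i < D.rank)) && decide (c.ia < D.rank) && decide (c.ib < D.rank) &&
            (match T.terms (sim D c.ia) (sim D c.ib) with
              | [(k1, C1, 1, 1), (k2, C2, 2, 1)] =>
                  decide (C1.natAbs = 1) && decide (C2.natAbs = 1) &&
                  (wl T c.lb c.rs == k1) && (wl T c.lb (topR D) == k2) &&
                  (T.w c.ib k1 == sim D c.ia) && (T.w c.ib k2 == k2) &&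
                  (T.w c.ia k1 == k1) && (T.w c.ia (sim D c.ib) == k2) &&
                  (T.terms (ng D (sim D c.ia)) k1 |>.all fun e => e.2.1 % 2 == 0) &&
                  (match T.terms (ng D (sim D c.ia)) k2 with
                    | [(m1, M1, 1, 1), (m2, M2, 2, 1)] => decide (M1.natAbs = 1) && decide (M2.natAbs = 1) &&
                        (m1 == k1) && (m2 == sim D c.ib)
                    | _ => false) &&
                  (T.terms k2 (sim D c.ib)).isEmpty && (T.terms k2 (ng D (sim D c.ib))).isEmpty &&
                  (T.terms k1 k2).isEmpty && (k2 != k1) && (k2 != ng D k1) &&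
                  (k2 != sim D c.ib) && (k2 != ng D (sim D c.ib))
              | _ => false)
           else decide (C.natAbs = 3))
      | _, _ => false)

/-- the highest root and its reflection -/
def chkTopOver (c : OCfg) : Bool :=
  decide (0 < npos D) && c.lR.all (fun i => decide (i < D.rank)) && inQ D T c (topR D) &&
  (wl T c.lR (topR D) == ng D (topR D)) && lng D T c (topR D) &&
  (allLt D.nroots fun q => decide (q < npos D) ||
    ((q == topR D || ((T.terms q (topR D)).isEmpty && (T.terms (topR D) q).isEmpty)) &&
     (decide ((isum D.rank fun j => T.c (topR D) j * T.A j q) ≠ 0) == inQ D T c q) &&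
     (inQ D T c q || ((T.terms q (ng D (topR D))).isEmpty && q != topR D)))) &&
  (allLt D.nroots fun q => decide (0 < isum D.rank fun j => T.c (topR D) j * T.A j q) ==
     (decide (npos D ≤ q) && inQ D T c q)) &&
  (allLt D.nroots fun g => (!lng D T c g) || g == ng D (topR D) ||
     anyLt D.rank fun i => decide (T.w i g < g) &&
       (g == sim D i || (g != ng D (sim D i) && (T.terms (sim D i) g).isEmpty))) &&
  (allLt D.nroots fun g => allLt D.rank fun i => lng D T c g == lng D T c (T.w i g)) &&
  (allLt D.rank fun i => inQ D T c (sim D i) ||
    anyLt D.nroots fun d => decide (npos D ≤ d) && inQ D T c d &&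
      anyLt D.nroots fun d' => decide (npos D ≤ d') && inQ D T c d' &&
        allLt D.rank fun m => T.k m d' == T.k m d + T.k m (sim D i))

/-- the step out of the highest root and the pair `α, β` -/
def chkPair (c : OCfg) : Bool :=
  decide (c.a0 < D.rank) && inQ D T c (sim D c.a0) &&
  (c.n0.all fun i => decide (i < D.rank)) && (wl T c.n0 (topR D) == topR D) &&
  anyLt D.nroots fun b => decide (npos D ≤ b) && inQ D T c b && b != sim D c.a0 && b != topR D &&
    (allLt D.rank fun m => T.k m b + T.k m (sim D c.a0) == T.k m (topR D)) &&
    (wl T c.n0 b == sim D c.a0) &&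
    (match T.terms b (sim D c.a0) with
      | [(k, C, 1, 1)] => (k == topR D) && (C.natAbs == if c.a2 then 1 else 2)
      | _ => false) &&
    (allLt D.nroots fun d => decide (d < npos D) || !(inQ D T c d) || d == sim D c.a0 || d == b ||
      (T.terms b d).isEmpty) &&
    (T.terms b (topR D)).isEmpty &&
    (match T.terms (ng D (sim D c.a0)) (topR D) with
      | (k, C, a, e) :: rest => (k == b) && decide (C.natAbs = 1) && decide (a = 1) && decide (e = 1) &&
          if c.a2 then rest.isEmpty else match rest with
            | [x] => decide (x.1 < b) && decide (npos D ≤ x.1) && (T.terms x.1 b).isEmpty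
            | _ => false
      | _ => false) &&
    (if c.a2 then
      (T.w c.a0 b == topR D) &&
      (match T.terms (ng D (topR D)) b with
        | [(k, C, 1, 1)] => (k == ng D (sim D c.a0)) && decide (C.natAbs = 1)
        | _ => false) &&
      (T.terms b (ng D (sim D c.a0))).isEmpty && b != ng D (sim D c.a0) &&
      (T.terms (ng D (sim D c.a0)) (ng D (topR D))).isEmpty
     else
      anyLt D.rank fun ib => !(inQ D T c (sim D ib)) &&
        (match T.terms (sim D c.a0) (sim D ib) with
          | [(k1, C1, 1, 1), (k2, C2, 2, 1)] => (k1 == b) && (k2 == topR D) &&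
              decide (C1.natAbs = 1) && decide (C2.natAbs = 1)
          | _ => false) &&
        (match T.terms (ng D (topR D)) b with
          | [(k, C, 1, 1), (k', C', 1, 2)] => (k == ng D (sim D c.a0)) && (k' == sim D ib) &&
              decide (C.natAbs = 1) && decide (C'.natAbs = 1)
          | _ => false))

/-- the word is the conjugate of a fundamental reflection -/
def chkRefR (c : OCfg) : Bool :=
  let m := c.lR.length / 2
  match c.lR.drop m with
  | [] => false
  | i :: _ => (c.lR == c.lR.take m ++ i :: (c.lR.take m).reverse) &&
      (wl T (c.lR.take m) (sim D i) == topR D)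

/-- all the certificates -/
def chkOver (c : OCfg) : Bool :=
  chkUpOver D T c && chkRs D T c && chkTopOver D T c && chkPair D T c && chkRefR D T c

end Cfsg.Agent.Lib.Chev
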