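import Cfsg.Agent.Lib.Chev.Over.Cert

/-! The certificates for the seven tabulated data. -/

set_option autoImplicit false
set_option maxRecDepth 100000
set_option maxHeartbeats 1000000

namespace Cfsg.Agent.Lib.Chev

open Cfsg.Lie

def ovG2 : OCfg := ⟨1, 0, 9, [1, 0, 1, 0, 1], [0], [], 0, 1, true⟩
def ovB2 : OCfg := ⟨0, 1, 6, [0, 1, 0], [1], [], 0, 1, false⟩
def ovF4 : OCfg := ⟨3, 0, 44, [3, 2, 1, 0, 2, 1, 2, 3, 2, 1, 2, 0, 1, 2, 3], [2, 1, 0, 2, 1, 2],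
  [0, 1, 3, 2, 1, 0, 2, 3], 1, 2, true⟩
def ovD4 : OCfg := ⟨1, 0, 23, [1, 0, 2, 1, 3, 1, 2, 0, 1], [3, 0, 2], [], 0, 0, true⟩
def ovE6 : OCfg := ⟨1, 0, 71, [1, 3, 2, 0, 4, 3, 1, 2, 3, 4, 5, 4, 3, 2, 1, 3, 4, 0, 2, 3, 1],
  [3, 2, 0, 4, 5, 3, 2, 4, 3], [], 0, 0, true⟩
def ovE7 : OCfg := ⟨0, 1, 125, [0, 2, 3, 1, 4, 3, 2, 0, 5, 4, 3, 1, 2, 3, 4, 5, 6, 5, 4, 3, 2, 1, 3, 4,
  5, 0, 2, 3, 4, 1, 3, 2, 0], [2, 3, 1, 4, 3, 2, 5, 6, 4, 5, 3, 1, 4, 3, 2], [], 0, 0, true⟩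
def ovE8 : OCfg := ⟨7, 0, 239, [7, 6, 5, 4, 3, 1, 2, 0, 3, 2, 4, 3, 1, 5, 4, 3, 2, 0, 6, 5, 4, 3, 1, 2, 3,
  4, 5, 6, 7, 6, 5, 4, 3, 2, 1, 3, 4, 5, 6, 0, 2, 3, 4, 5, 1, 3, 4, 2, 3, 0, 2, 1, 3, 4, 5, 6, 7],
  [6, 5, 4, 3, 1, 2, 0, 3, 2, 4, 3, 1, 5, 6, 4, 5, 3, 4, 2, 0, 3, 1, 2, 3, 4, 5, 6], [], 0, 0, true⟩

theorem overG2 : chkOver chevG2 tabG2 ovG2 = true := by decide +kernel
theorem overB2 : chkOver chevB2 tabB2 ovB2 = true := by decide +kernel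
theorem overD4 : chkOver chevD4 tabD4 ovD4 = true := by decide +kernel
theorem overF4 : chkOver chevF4 tabF4 ovF4 = true := by decide +kernel
theorem overE6 : chkOver chevE6 tabE6 ovE6 = true := by decide +kernel
theorem overE7 : chkOver chevE7 tabE7 ovE7 = true := by decide +kernel
theorem overE8 : chkOver chevE8 tabE8 ovE8 = true := by decide +kernel

theorem exists_good_over {D : ChevalleyDatum}
    (hD : D ∈ [chevG2, chevB2, chevD4, chevF4, chevE6, chevE7, chevE8]) :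
    ∃ T c, Good D T ∧ chkOver D T c = true := by
  simp only [List.mem_cons, List.not_mem_nil, or_false] at hD
  rcases hD with rfl | rfl | rfl | rfl | rfl | rfl | rfl
  exacts [⟨_, _, goodG2, overG2⟩, ⟨_, _, goodB2, overB2⟩, ⟨_, _, goodD4, overD4⟩, ⟨_, _, goodF4, overF4⟩,
    ⟨_, _, goodE6, overE6⟩, ⟨_, _, goodE7, overE7⟩, ⟨_, _, goodE8, overE8⟩]

end Cfsg.Agent.Lib.Chev
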