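import Cfsg.Agent.Lib.Chev.Over.Facts
import Cfsg.Agent.Lib.Chev.Over.Data

/-!
Further certificates: the special rank two case and adjacency of the fundamental roots.
-/

set_option autoImplicit false
set_option maxRecDepth 100000
set_option maxHeartbeats 1000000

namespace Cfsg.Agent.Lib.Chev

open Cfsg.Lie

variable (D : ChevalleyDatum) (T : Tables)

/-- The two short lowest steps in type `B`. -/
def chkMore (c : OCfg) : Bool :=
  c.a2 || allLt D.rank fun ib => inQ D T c (sim D ib) ||
    ((T.w c.a0 (sim D ib) == topR D) &&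
      (allLt D.nroots fun d => decide (d < npos D) || !(inQ D T c d) || d == sim D c.a0 ||
        (T.terms (sim D ib) d).isEmpty) &&
      (match T.terms (ng D (sim D c.a0)) (topR D) with
        | [(_, M, 1, 1), (k, M', 2, 1)] => (k == sim D ib) && decide (M.natAbs = 1) && decide (M'.natAbs = 1)
        | _ => false) &&
      (T.terms (ng D (sim D c.a0)) (ng D (topR D))).isEmpty)

/-- Adjacent fundamental roots allow the transfer of parameters. -/
def chkOvAdj : Bool :=
  allLt D.rank fun i => allLt D.rank fun j => i == j || T.A i (sim D j) == 0 || (T.A i (sim D j) == -1 && T.A j (sim D i) != 0) ||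
    ((T.A j (sim D i) == -1) && (decide ((T.A i (sim D j)).natAbs = 2) || decide ((T.A i (sim D j)).natAbs = 3)) &&
      [T.w j (sim D i), T.w i (T.w j (sim D i))].any fun d =>
        d != sim D i && d != ng D (sim D i) &&
          match T.terms (sim D i) d with
          | [(k, C, 1, 1)] => (k == T.w i (sim D j)) && (C.natAbs == (T.A i (sim D j)).natAbs)
          | _ => false)

/-- The fundamental indices reachable from the first within a number of steps. -/
def reachAdj : ℕ → ℕ → Bool
  | 0, i => i == 0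
  | n + 1, i => reachAdj n i || anyLt D.rank fun j => T.A i (sim D j) != 0 && reachAdj n j

/-- All the further certificates. -/
def chkExtra (c : OCfg) : Bool :=
  chkMore D T c && chkOvAdj D T && allLt D.rank fun i => reachAdj D T D.rank i

theorem extraG2 : chkExtra chevG2 tabG2 ovG2 = true := by decide +kernel
theorem extraB2 : chkExtra chevB2 tabB2 ovB2 = true := by decide +kernel
theorem extraD4 : chkExtra chevD4 tabD4 ovD4 = true := by decide +kernel
theorem extraF4 : chkExtra chevF4 tabF4 ovF4 = true := by decide +kernel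
theorem extraE6 : chkExtra chevE6 tabE6 ovE6 = true := by decide +kernel
theorem extraE7 : chkExtra chevE7 tabE7 ovE7 = true := by decide +kernel
theorem extraE8 : chkExtra chevE8 tabE8 ovE8 = true := by decide +kernel

theorem exists_good_over_extra {D : ChevalleyDatum}
    (hD : D ∈ [chevG2, chevB2, chevD4, chevF4, chevE6, chevE7, chevE8]) :
    ∃ T c, Good D T ∧ chkOver D T c = true ∧ chkExtra D T c = true := by
  simp only [List.mem_cons, List.not_mem_nil, or_false] at hD
  rcases hD with rfl | rfl | rfl | rfl | rfl | rfl | rfl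
  exacts [⟨_, _, goodG2, overG2, extraG2⟩, ⟨_, _, goodB2, overB2, extraB2⟩,
    ⟨_, _, goodD4, overD4, extraD4⟩, ⟨_, _, goodF4, overF4, extraF4⟩, ⟨_, _, goodE6, overE6, extraE6⟩,
    ⟨_, _, goodE7, overE7, extraE7⟩, ⟨_, _, goodE8, overE8, extraE8⟩]

variable {D T} {c : OCfg}

/-- The extra facts about the special rank two case. -/
structure MoreFacts (D : ChevalleyDatum) (T : Tables) (c : OCfg) (ib : ℕ) : Prop where
  w_ib : T.w c.a0 (sim D ib) = topR D
  comm_flip : ∀ d < D.nroots, npos D ≤ d → wl T c.lR d < npos D → d ≠ sim D c.a0 →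
    T.terms (sim D ib) d = []
  neg_top : ∃ x M M', T.terms (ng D (sim D c.a0)) (topR D) = [(x, M, 1, 1), (sim D ib, M', 2, 1)] ∧
    Int.natAbs M = 1 ∧ Int.natAbs M' = 1
  neg_neg : T.terms (ng D (sim D c.a0)) (ng D (topR D)) = []

theorem moreFacts (h : chkExtra D T c = true) (ha : c.a2 = false) {ib : ℕ} (hib : ib < D.rank)
    (hk : npos D ≤ wl T c.lR (sim D ib)) : MoreFacts D T c ib := by
  simp only [chkExtra, chkMore, Bool.and_eq_true, ha, Bool.false_or] at h
  have h' := allLt_eq_true h.1.1 ib hib
  simp only [Bool.or_eq_true, inQ, decide_eq_true_eq] at h'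
  rcases h' with h' | h'
  · omega
  simp only [Bool.and_eq_true, beq_iff_eq, List.isEmpty_iff] at h'
  obtain ⟨⟨⟨c1, c2⟩, c3⟩, c4⟩ := h'
  refine ⟨c1, fun d hd hpd hfd hne => ?_, ?_, c4⟩
  · have := allLt_eq_true c2 d hd
    simp only [Bool.or_eq_true, Bool.not_eq_true', decide_eq_true_eq, decide_eq_false_iff_not,
      beq_iff_eq, List.isEmpty_iff, inQ] at this
    rcases this with ((h' | h') | h') | h'
    · omega
    · exact absurd hfd h'
    · exact absurd h' hne
    · exact h'
  · split at c3
    next x M k M' hT =>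
      simp only [Bool.and_eq_true, beq_iff_eq, decide_eq_true_eq] at c3
      obtain ⟨⟨rfl, c5⟩, c6⟩ := c3
      exact ⟨x, M, M', hT, c5, c6⟩
    next => simp at c3

theorem adjFacts (h : chkExtra D T c = true) {i j : ℕ} (hi : i < D.rank) (hj : j < D.rank)
    (hne : i ≠ j) (hA : T.A i (sim D j) ≠ 0) : (T.A i (sim D j) = -1 ∧ T.A j (sim D i) ≠ 0) ∨
    (T.A j (sim D i) = -1 ∧ (Int.natAbs (T.A i (sim D j)) = 2 ∨ Int.natAbs (T.A i (sim D j)) = 3) ∧
      ∃ d, (d = T.w j (sim D i) ∨ d = T.w i (T.w j (sim D i))) ∧ d ≠ sim D i ∧ d ≠ ng D (sim D i) ∧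
        ∃ C, T.terms (sim D i) d = [(T.w i (sim D j), C, 1, 1)] ∧
          Int.natAbs C = Int.natAbs (T.A i (sim D j))) := by
  simp only [chkExtra, chkOvAdj, Bool.and_eq_true] at h
  have h' := allLt_eq_true (allLt_eq_true h.1.2 i hi) j hj
  simp only [Bool.or_eq_true, beq_iff_eq, Bool.and_eq_true, decide_eq_true_eq, List.any_eq_true,
    List.mem_cons, List.not_mem_nil, or_false, bne_iff_ne, ne_eq] at h'
  rcases h' with ((h' | h') | h') | ⟨⟨h1, h2⟩, d, hd, ⟨h3, h4⟩, h5⟩
  · exact absurd h' hne
  · exact absurd h' hA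
  · exact Or.inl h'
  refine Or.inr ⟨h1, h2, d, hd, h3, h4, ?_⟩
  split at h5
  next k C hT =>
    simp only [Bool.and_eq_true, beq_iff_eq] at h5
    obtain ⟨rfl, h5⟩ := h5
    exact ⟨C, hT, h5⟩
  next => simp at h5

theorem connected (h : chkExtra D T c = true) {C : ℕ → Prop} (h0 : C 0)
    (hstep : ∀ i < D.rank, ∀ j < D.rank, T.A i (sim D j) ≠ 0 → C j → C i) : ∀ i < D.rank, C i := by
  simp only [chkExtra, Bool.and_eq_true] at h
  have key : ∀ n i, i < D.rank → reachAdj D T n i = true → C i := by
    intro n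
    induction n with
    | zero => intro i _ hr; simp only [reachAdj, beq_iff_eq] at hr; exact hr ▸ h0
    | succ n ih =>
      intro i hi hr
      simp only [reachAdj, Bool.or_eq_true] at hr
      rcases hr with hr | hr
      · exact ih i hi hr
      obtain ⟨j, hj, hr⟩ := anyLt_eq_true hr
      simp only [Bool.and_eq_true, bne_iff_ne, ne_eq] at hr
      exact hstep i hi j hj hr.1 (ih j hj hr.2)
  exact fun i hi => key _ i hi (allLt_eq_true h.2 i hi)

end Cfsg.Agent.Lib.Chev
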