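import Cfsg.Agent.Lib.Geometry.Dickson.Generate
import Cfsg.Agent.Lib.Geometry.Dickson.Subfield

/-!
Finite subgroups of `SL₂` over any field with many upper transvections and one lower transvection.
-/

set_option autoImplicit false
set_option linter.unusedSectionVars false

namespace Cfsg.Agent.Lib.Chev

open Matrix
open scoped Matrix MatrixGroups
open Cfsg.Agent.Lib.Geometry.Dickson
open Cfsg.Agent.Lib.SL2Trace (tr tr_eq mem_center_iff)

section Finite

variable {E : Type*} [Field E] [Fintype E] {p : ℕ} [Fact p.Prime] [CharP E p]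
  (G : Subgroup (Matrix.SpecialLinearGroup (Fin 2) E))

local notation "SLE" => Matrix.SpecialLinearGroup (Fin 2) E
local notation "zE" => Nat.card (Subgroup.center (Matrix.SpecialLinearGroup (Fin 2) E))

theorem zz_dvd_two : zE ∣ 2 := by
  have h0 : 0 < zE := Nat.card_pos
  have h2 : zE ≤ 2 := by
    have hsub : (Subgroup.center SLE : Set SLE) ⊆ {1, -1} := fun z hz => by
      rcases mem_center_iff.mp hz with h | h <;> simp [h]
    calc zE = (Subgroup.center SLE : Set SLE).ncard := Nat.card_coe_set_eq _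
      _ ≤ ({1, -1} : Set SLE).ncard := Set.ncard_le_ncard hsub (Set.toFinite _)
      _ ≤ ({-1} : Set SLE).ncard + 1 := Set.ncard_insert_le _ _
      _ = 2 := by rw [Set.ncard_singleton]
  obtain h | h : zE = 1 ∨ zE = 2 := by omega
  all_goals rw [h]
  all_goals norm_num

theorem zz_eq_one (h2 : (2 : E) = 0) : zE = 1 := by
  rw [Nat.card_eq_one_iff_unique]
  have key : ∀ z : Subgroup.center SLE, z.1 = 1 := fun z => by
    rcases mem_center_iff.mp z.2 with h | h
    · exact h
    · rw [h]
      refine sl_ext ?_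
      ext i j
      fin_cases i <;> fin_cases j <;> simp [Matrix.SpecialLinearGroup.coe_neg] <;> linear_combination -h2
  exact ⟨⟨fun a b => Subtype.ext ((key a).trans (key b).symm)⟩, ⟨1⟩⟩

theorem tr_sq_two (g : SLE) : tr (g * g) = tr g ^ 2 - 2 := by
  have hd := Cfsg.Agent.Lib.SL2Trace.det_eq g
  simp only [tr_eq, Matrix.SpecialLinearGroup.coe_mul, Matrix.mul_apply, Fin.sum_univ_two]
  linear_combination -2 * hd

theorem tr_cube (g : SLE) : tr (g * g * g) = tr g ^ 3 - 3 * tr g := by
  have hd := Cfsg.Agent.Lib.SL2Trace.det_eq g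
  simp only [tr_eq, Matrix.SpecialLinearGroup.coe_mul, Matrix.mul_apply, Fin.sum_univ_two]
  linear_combination -3 * ((g : Matrix (Fin 2) (Fin 2) E) 0 0 + (g : Matrix (Fin 2) (Fin 2) E) 1 1) * hd

/-- The parameters are a subfield once their number is divisible by `p²`. -/
theorem subfield_of_params (hZ : Subgroup.center SLE ≤ G) (hlo : lower 1 ∈ G)
    (hA : p ^ 2 ∣ Nat.card (upperParams G)) :
    ∃ S : Subfield E, (∀ x, upper x ∈ G ↔ x ∈ S) ∧ ∀ x, lower x ∈ G ↔ x ∈ S := by
  classical
  have hp := (Fact.out : p.Prime)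
  have h4 : 4 ≤ Nat.card (upperParams G) :=
    (show 4 ≤ p ^ 2 by nlinarith [hp.two_le]).trans (Nat.le_of_dvd Nat.card_pos hA)
  obtain ⟨lam, hup, hlam⟩ : ∃ lam, upper lam ∈ G ∧ lam ≠ 0 := by
    by_contra h
    push Not at h
    haveI : Subsingleton (upperParams G) := ⟨fun a b => Subtype.ext ((h a.1 a.2).trans (h b.1 b.2).symm)⟩
    have := (Finite.card_le_one_iff_subsingleton (α := upperParams G)).mpr inferInstance
    omega
  have huZ := upper_notMem_center hlam
  have hwZ := lower_notMem_center (one_ne_zero (α := E))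
  have htr : ∀ x : E, tr (upper x) ^ 2 = 4 := fun x => by rw [tr_upper]; norm_num
  let ι : upperParams G →+ Additive G :=
    { toFun := fun x => Additive.ofMul ⟨upper x.1, x.2⟩
      map_zero' := by
        apply Additive.toMul.injective
        exact Subtype.ext upper_zero
      map_add' := fun x y => by
        apply Additive.toMul.injective
        exact Subtype.ext (upper_mul x.1 y.1).symm }
  have hι : Function.Injective ι := fun x y h => by
    have := congrArg (fun g : Additive G => ((Additive.toMul g).1 : Matrix (Fin 2) (Fin 2) E) 0 1) h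
    exact Subtype.ext (by simpa [ι, coe_upper] using this)
  have hdvd : Nat.card (upperParams G) ∣ Nat.card G := by
    have := AddSubgroup.card_dvd_of_injective ι hι
    rwa [Nat.card_congr Additive.toMul] at this
  have htorus : ∀ y, y ∉ Subgroup.center SLE → tr y ^ 2 ≠ 4 →
      Nat.card (upperParams G) * Nat.card (cell G y) ≤ Nat.card G := by
    intro y hy ht
    rw [← Nat.card_prod]
    refine Nat.card_le_card_of_injective
      (fun z => (⟨upper z.1.1 * z.2.1, G.mul_mem z.1.2 z.2.2.2⟩ : G)) ?_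
    rintro ⟨a, c⟩ ⟨b, d⟩ h
    have h1 : upper (a.1 - b.1) = d.1 * c.1⁻¹ := by
      have e : upper a.1 * c.1 = upper b.1 * d.1 := congrArg Subtype.val h
      rw [eq_mul_inv_iff_mul_eq, sub_eq_neg_add, ← upper_mul, ← upper_inv, mul_assoc, e, inv_mul_cancel_left]
    have h2 : a.1 = b.1 := by
      by_contra hne
      exact tr_sq_ne_of_cell G hy ht (h1 ▸ (cell G y).mul_mem d.2 ((cell G y).inv_mem c.2))
        (upper_notMem_center (sub_ne_zero.mpr hne)) (htr _)
    rw [h2, sub_self, upper_zero, eq_comm, mul_inv_eq_one] at h1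
    exact Prod.ext (Subtype.ext h2) (Subtype.ext h1.symm)
  have h2cases : ∀ n, (n = 12 ∨ n = 24) → Nat.card G = zE * n → False := by
    intro n hn h
    have hdd : p ^ 2 ∣ 2 * n :=
      (hA.trans hdvd).trans (h ▸ Nat.mul_dvd_mul_right zz_dvd_two n)
    have hp2 : p = 2 := by
      by_contra hne
      have h3 : 3 ≤ p := by have := hp.two_le; omega
      have hle : p ^ 2 ≤ 48 := (Nat.le_of_dvd (by omega) hdd).trans (by omega)
      have : p ≤ 7 := by nlinarith
      rcases hn with rfl | rfl <;> interval_cases p <;> revert hdd hp <;> decide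
    subst hp2
    have h2 : (2 : E) = 0 := by exact_mod_cast CharP.cast_eq_zero E 2
    rw [zz_eq_one h2, one_mul] at h
    have hsmall : ∀ x, upper x ∈ G → x = 0 ∨ x = 1 := by
      intro x hx
      set g := upper x * lower (1 : E) with hg
      have ht : tr g = x := by
        rw [hg, tr_eq, Matrix.SpecialLinearGroup.coe_mul, coe_upper, coe_lower]
        simp [Matrix.mul_apply, Fin.sum_univ_two]
        linear_combination h2
      have hpow : g ^ 24 = 1 := by
        have h' : (⟨g, G.mul_mem hx hlo⟩ : G) ^ Nat.card G = 1 := pow_card_eq_one'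
        have h'' : g ^ Nat.card G = 1 := congrArg Subtype.val h'
        rcases hn with rfl | rfl
        · rw [h] at h''
          rw [show (24 : ℕ) = 12 * 2 from rfl, pow_mul, h'', one_pow]
        · rwa [h] at h''
      have h8 : tr (g ^ 8) = x ^ 8 := by
        rw [show g ^ 8 = g * g * (g * g) * (g * g * (g * g)) by simp [pow_succ, mul_assoc],
          tr_sq_two, tr_sq_two, tr_sq_two, ht]
        linear_combination (-x ^ 6 + x ^ 4 * 1 + 0) * 0 + (-4 * x ^ 6 + 10 * x ^ 4 - 8 * x ^ 2 + 1) * h2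
      have h3 := tr_cube (g ^ 8)
      rw [← pow_add, ← pow_add, hpow, h8, tr_eq] at h3
      simp at h3
      have h5 : x ^ 8 * (x ^ 8 + 1) ^ 2 = 0 := by linear_combination -h3 + (x ^ 16 + 2 * x ^ 8 + 1) * h2
      rcases mul_eq_zero.mp h5 with h6 | h6
      · exact Or.inl (eq_zero_of_pow_eq_zero h6)
      · right
        have h7 : (x + 1) ^ 8 = 0 := by
          haveI : CharP E 2 := CharTwo.of_one_ne_zero_of_two_eq_zero one_ne_zero h2
          rw [show (8 : ℕ) = 2 ^ 3 from rfl, add_pow_char_pow, one_pow]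
          exact eq_zero_of_pow_eq_zero h6
        have := eq_zero_of_pow_eq_zero h7
        linear_combination this - h2
    have hle : Nat.card (upperParams G) ≤ 2 := by
      have hsub : (upperParams G : Set E) ⊆ {0, 1} := fun x hx => by
        rcases hsmall x hx with h | h <;> simp [h]
      calc Nat.card (upperParams G) = (upperParams G : Set E).ncard := Nat.card_coe_set_eq _
        _ ≤ ({0, 1} : Set E).ncard := Set.ncard_le_ncard hsub (Set.toFinite _)
        _ = 2 := Set.ncard_pair zero_ne_one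
    omega
  rcases shape G p hZ with h | ⟨y, hy, hyZ, ht, h⟩ | ⟨y, a, hy, ht, h⟩ | ⟨y, hy, hyZ, ht, h⟩ | ⟨y, hy, ht, h⟩ |
    ⟨y, hy, ht, h⟩ | ⟨y₂, y₃, y₅, hy₂, hy₃, hy₅, hcover, h⟩ | ⟨y, r, k, hy, hyZ, ht, hr, hc, h⟩
  · exact absurd (h hup) huZ
  · exfalso
    have h1 := htorus y hyZ ht
    rw [h] at h1
    have := Nat.le_of_mul_le_mul_right (h1.trans_eq (one_mul _).symm) Nat.card_pos
    omega
  · exfalso
    obtain ⟨-, hyZ, hc, hn⟩ := hy
    have h1 := htorus y hyZ ht
    rw [h] at hn
    rw [hn, show zE * (2 * a) = 2 * Nat.card (cell G y) by rw [hc]; ring] at h1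
    have := Nat.le_of_mul_le_mul_right h1 Nat.card_pos
    omega
  · exfalso
    obtain ⟨v, ε, hv, hε, hty, hyv⟩ := exists_fixed_vector ht
    have hN := mem_cellNorm_unipotent_iff G hy hyZ hv hε hty hyv
    rw [h] at hN
    obtain ⟨-, d, hd⟩ := (hN _).mp hup
    obtain ⟨-, e, he⟩ := (hN _).mp hlo
    obtain ⟨s, hs⟩ := mem_line_of_eigen huZ (show (![1, 0] : Fin 2 → E) ≠ 0 from
      fun h => one_ne_zero (α := E) (congrFun h 0)) (one_mul 1) (by rw [tr_upper, mul_one]) (upper_mulVec lam) hd
    obtain ⟨t, ht'⟩ := mem_line_of_eigen hwZ (show (![0, 1] : Fin 2 → E) ≠ 0 from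
      fun h => one_ne_zero (α := E) (congrFun h 1)) (one_mul 1) (by rw [tr_lower, mul_one]) (lower_mulVec 1) he
    apply hv
    rw [hs] at ht' ⊢
    have := congrFun ht' 0
    simp at this
    rw [this, zero_smul]
  · exact (h2cases 12 (Or.inl rfl) h).elim
  · exact (h2cases 24 (Or.inr rfl) h).elim
  · exfalso
    obtain ⟨a, ha, hcell⟩ : ∃ a, (a = 2 ∨ a = 3 ∨ a = 5) ∧ Nat.card (cell G (upper lam)) = zE * a := by
      rcases hcover _ hup huZ with e | e | e
      · exact ⟨2, by simp, (data_of_cls_eq G e).1.trans hy₂.2.2.1⟩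
      · exact ⟨3, by simp, (data_of_cls_eq G e).1.trans hy₃.2.2.1⟩
      · exact ⟨5, by simp, (data_of_cls_eq G e).1.trans hy₅.2.2.1⟩
    let κ : upperParams G →+ Additive (cell G (upper lam)) :=
      { toFun := fun x => Additive.ofMul ⟨upper x.1, mem_centralizer_iff.mpr (by
          rw [upper_mul, upper_mul, add_comm]), x.2⟩
        map_zero' := by
          apply Additive.toMul.injective
          exact Subtype.ext upper_zero
        map_add' := fun x y => by
          apply Additive.toMul.injective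
          exact Subtype.ext (upper_mul x.1 y.1).symm }
    have hκ : Function.Injective κ := fun x y h => by
      have := congrArg (fun g : Additive (cell G (upper lam)) =>
        ((Additive.toMul g).1 : Matrix (Fin 2) (Fin 2) E) 0 1) h
      exact Subtype.ext (by simpa [κ, coe_upper] using this)
    have hd := AddSubgroup.card_dvd_of_injective κ hκ
    rw [Nat.card_congr Additive.toMul, hcell] at hd
    have hdd : p ^ 2 ∣ zE * a := hA.trans hd
    have hdd' : p ^ 2 ∣ 2 * a := hdd.trans (Nat.mul_dvd_mul_right zz_dvd_two a)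
    by_cases hp2 : p = 2
    · subst hp2
      have h2 : (2 : E) = 0 := by exact_mod_cast CharP.cast_eq_zero E 2
      rw [zz_eq_one h2, one_mul] at hdd
      rcases ha with rfl | rfl | rfl <;> norm_num at hdd
    · have h3 : 3 ≤ p := by have := hp.two_le; omega
      have hle := Nat.le_of_dvd (by rcases ha with rfl | rfl | rfl <;> norm_num) hdd'
      have : p ≤ 3 := by rcases ha with rfl | rfl | rfl <;> nlinarith
      obtain rfl : p = 3 := by omega
      rcases ha with rfl | rfl | rfl <;> norm_num at hdd'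
  · have e := unipotent_cls_eq G p hZ hy hup hyZ huZ ht (htr lam)
    obtain ⟨S, -, -, hu, hl, -⟩ :=
      subfield_normal G p hZ hlam hup hlo ((data_of_cls_eq G e).1.symm.trans hc) (e ▸ h)
    exact ⟨S, hu, hl⟩

/-- In odd characteristic such a subgroup has order divisible by four once it contains the centre. -/
theorem four_dvd_card (hp2 : p ≠ 2) (hZ : Subgroup.center SLE ≤ G) {x y : E} (hx : x ≠ 0)
    (hy : y ≠ 0) (hup : upper x ∈ G) (hlo : lower y ∈ G) : 4 ∣ Nat.card G := by
  classical
  have hp := (Fact.out : p.Prime)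
  have h2 : (2 : E) ≠ 0 := fun h => hp2 (by
    have := (CharP.cast_eq_zero_iff E p 2).mp (by exact_mod_cast h)
    exact (Nat.prime_dvd_prime_iff_eq hp Nat.prime_two).mp this)
  have hzz : zE = 2 := by
    rw [show zE = Nat.card ({1, -1} : Set SLE) from Nat.card_congr (Equiv.setCongr (Set.ext fun g => by
      simpa using mem_center_iff)), Nat.card_coe_set_eq, Set.ncard_pair]
    intro h
    have := congrArg (fun g : SLE => (g : Matrix (Fin 2) (Fin 2) E) 0 0) h
    simp at this
    exact h2 (by linear_combination this)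
  have huZ := upper_notMem_center hx
  have hwZ := lower_notMem_center hy
  have htu : tr (upper x) ^ 2 = 4 := by rw [tr_upper]; norm_num
  rcases shape G p hZ with h | ⟨z, hz, hzZ, ht, h⟩ | ⟨z, a, hz, ht, h⟩ | ⟨z, hz, hzZ, ht, h⟩ | ⟨z, hz, ht, h⟩ |
    ⟨z, hz, ht, h⟩ | ⟨y₂, y₃, y₅, hy₂, hy₃, hy₅, hcover, h⟩ | ⟨z, r, k, hz, hzZ, ht, hr, hc, h⟩
  · exact absurd (h hup) huZ
  · exact absurd htu (tr_sq_ne_of_cell G hzZ ht (h.symm ▸ hup : upper x ∈ cell G z) huZ)
  · obtain ⟨-, -, -, hn⟩ := hz
    rw [h] at hn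
    rw [hn, hzz, ← mul_assoc]
    exact dvd_mul_right 4 a
  · exfalso
    obtain ⟨v, ε, hv, hε, hty, hyv⟩ := exists_fixed_vector ht
    have hN := mem_cellNorm_unipotent_iff G hz hzZ hv hε hty hyv
    rw [h] at hN
    obtain ⟨-, d, hd⟩ := (hN _).mp hup
    obtain ⟨-, e, he⟩ := (hN _).mp hlo
    obtain ⟨s, hs⟩ := mem_line_of_eigen huZ (show (![1, 0] : Fin 2 → E) ≠ 0 from
      fun h => one_ne_zero (α := E) (congrFun h 0)) (one_mul 1) (by rw [tr_upper, mul_one]) (upper_mulVec x) hd
    obtain ⟨t, ht'⟩ := mem_line_of_eigen hwZ (show (![0, 1] : Fin 2 → E) ≠ 0 from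
      fun h => one_ne_zero (α := E) (congrFun h 1)) (one_mul 1) (by rw [tr_lower, mul_one]) (lower_mulVec y) he
    apply hv
    rw [hs] at ht' ⊢
    have := congrFun ht' 0
    simp at this
    rw [this, zero_smul]
  · rw [h, hzz]; norm_num
  · rw [h, hzz]; norm_num
  · rw [h, hzz]; norm_num
  · have e := unipotent_cls_eq G p hZ hz hup hzZ huZ ht htu
    obtain ⟨r', k', hr', -, ⟨s, hs⟩, -, hcr, -, -⟩ := unipotent_norm_data G p hZ hup huZ htu
    have hrr : r = r' := by
      rw [← (data_of_cls_eq G e).1, hc] at hcr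
      exact Nat.eq_of_mul_eq_mul_left Nat.card_pos hcr
    have hodd : Odd r := by rw [hrr, hs]; exact (hp.odd_of_ne_two hp2).pow
    have hmul := card_cls_mul G z
    rw [h] at hmul
    rw [← hmul]
    have hN : zE ∣ Nat.card (cellNorm G z) := Subgroup.card_dvd_of_le
      (le_inf (((center_le_cell G hZ z)).trans Subgroup.le_normalizer) hZ)
    rw [hzz] at hN
    exact Nat.mul_dvd_mul (show 2 ∣ r + 1 from hodd.add_one.two_dvd) hN

end Finite

section AnyField

variable {K : Type*} [Field K] {p : ℕ} [Fact p.Prime] [CharP K p]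

local notation "SLK" => Matrix.SpecialLinearGroup (Fin 2) K

/-- A product of an upper and a lower transvection of finite order has integral parameter. -/
theorem isIntegral_of_fin_order [Algebra (ZMod p) K] {x c : K}
    (h : IsOfFinOrder (upper x * lower c)) : IsIntegral (ZMod p) (x * c) := by
  obtain ⟨n, hn, hd⟩ := isOfFinOrder_iff_pow_eq_one.mp h
  set L := AlgebraicClosure K
  set M : Matrix (Fin 2) (Fin 2) L := !![1 + algebraMap K L (x * c), algebraMap K L x; algebraMap K L c, 1]
    with hM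
  have hdet : M.det = 1 := by rw [hM, Matrix.det_fin_two_of, map_mul]; ring
  set t : L := algebraMap K L (x * c) + 2 with ht
  obtain ⟨μ, hμ⟩ : ∃ μ : L, μ * μ - t * μ + 1 = 0 := by
    obtain ⟨μ, hμ⟩ := IsAlgClosed.exists_root
      (Polynomial.X ^ 2 - Polynomial.C t * Polynomial.X + 1 : Polynomial L) (by
        rw [show (Polynomial.X ^ 2 - Polynomial.C t * Polynomial.X + 1 : Polynomial L) =
          Polynomial.C 1 * Polynomial.X ^ 2 + Polynomial.C (-t) * Polynomial.X + Polynomial.C 1 by
          simp; ring, Polynomial.degree_quadratic one_ne_zero]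
        decide)
    exact ⟨μ, by simpa [Polynomial.IsRoot, pow_two] using hμ⟩
  have hev : ∃ v : Fin 2 → L, v ≠ 0 ∧ M *ᵥ v = μ • v := by
    obtain ⟨v, hv, hv'⟩ := Matrix.exists_mulVec_eq_zero_iff.mpr (show (M - μ • 1).det = 0 by
      rw [hM, Matrix.det_fin_two]
      simp [map_mul]
      rw [ht, map_mul] at hμ
      linear_combination hμ)
    exact ⟨v, hv, by rwa [Matrix.sub_mulVec, Matrix.smul_mulVec, Matrix.one_mulVec, sub_eq_zero] at hv'⟩
  obtain ⟨v, hv, hMv⟩ := hev
  have hpow : ∀ m : ℕ, M ^ m *ᵥ v = μ ^ m • v := by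
    intro m
    induction m with
    | zero => simp
    | succ m ih => rw [pow_succ', ← Matrix.mulVec_mulVec, ih, Matrix.mulVec_smul, hMv, smul_smul, ← pow_succ]
  have hMn : M ^ n = 1 := by
    have e : M = (algebraMap K L).mapMatrix ((upper x * lower c : SLK) : Matrix (Fin 2) (Fin 2) K) := by
      rw [hM, Matrix.SpecialLinearGroup.coe_mul, coe_upper, coe_lower]
      ext i j
      fin_cases i <;> fin_cases j <;> simp [Matrix.mul_apply, Fin.sum_univ_two]
    rw [e, ← map_pow, ← Matrix.SpecialLinearGroup.coe_pow, hd, Matrix.SpecialLinearGroup.coe_one, map_one]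
  have hμn : μ ^ n = 1 := by
    have := hpow n
    rw [hMn, Matrix.one_mulVec] at this
    have h2 : (μ ^ n - 1) • v = 0 := by rw [sub_smul, one_smul, ← this, sub_self]
    exact sub_eq_zero.mp ((smul_eq_zero.mp h2).resolve_right hv)
  have hμi : IsIntegral (ZMod p) μ := IsIntegral.of_pow hn (hμn ▸ isIntegral_one)
  have hμ0 : μ ≠ 0 := fun h => by simp [h] at hμ
  have htμ : algebraMap K L (x * c) = μ + μ ^ (n - 1) - 2 := by
    have e : μ ^ (n - 1) = μ⁻¹ := eq_inv_of_mul_eq_one_left (by
      rw [← pow_succ, Nat.sub_add_cancel hn, hμn])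
    have hinv : μ⁻¹ = t - μ := inv_eq_of_mul_eq_one_right (by linear_combination -hμ)
    rw [e, hinv, ht]; ring
  have h2i : IsIntegral (ZMod p) (2 : L) := by
    have := isIntegral_algebraMap (R := ZMod p) (A := L) (x := 2)
    rwa [map_ofNat] at this
  have hi : IsIntegral (ZMod p) (algebraMap K L (x * c)) := htμ ▸ ((hμi.add (hμi.pow _)).sub h2i)
  exact (isIntegral_algebraMap_iff (algebraMap K L).injective).mp hi

/-- A finite set of integral elements lies in a finite subfield. -/
theorem exists_finite_subfield [Algebra (ZMod p) K] {S : Set K} (hS : S.Finite)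
    (hi : ∀ x ∈ S, IsIntegral (ZMod p) x) :
    ∃ E : Subfield K, Finite E ∧ S ⊆ E := by
  haveI := hS.to_subtype
  haveI : FiniteDimensional (ZMod p) (IntermediateField.adjoin (ZMod p) S) :=
    IntermediateField.finiteDimensional_adjoin hi
  haveI : Finite (IntermediateField.adjoin (ZMod p) S) := Module.finite_of_finite (ZMod p)
  exact ⟨(IntermediateField.adjoin (ZMod p) S).toSubfield, ‹_›,
    fun x hx => IntermediateField.subset_adjoin (ZMod p) S hx⟩

/-- Scaling so that a given lower transvection gets parameter one. -/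
theorem exists_scale (E : Subfield K) {c : K} (hc : c ≠ 0) :
    ∃ ψ : Matrix.SpecialLinearGroup (Fin 2) E →* SLK, Function.Injective ψ ∧
      (∀ x, ψ (upper x) = upper ((x : K) / c)) ∧ (∀ y, ψ (lower y) = lower ((y : K) * c)) ∧
      ψ (-1) = -1 := by
  let P : GL (Fin 2) K := Matrix.GeneralLinearGroup.mkOfDetNeZero !![c, 0; 0, 1]
    (by simp [Matrix.det_fin_two, hc])
  have hPi : ((P⁻¹ : GL (Fin 2) K) : Matrix (Fin 2) (Fin 2) K) = !![c⁻¹, 0; 0, 1] := by
    rw [Matrix.coe_units_inv]
    refine Matrix.inv_eq_right_inv ?_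
    show (!![c, 0; 0, 1] : Matrix (Fin 2) (Fin 2) K) * !![c⁻¹, 0; 0, 1] = 1
    ext i j
    fin_cases i <;> fin_cases j <;> simp [Matrix.mul_apply, Fin.sum_univ_two, hc]
  refine ⟨(glConj P).toMonoidHom.comp (Matrix.SpecialLinearGroup.map E.subtype), ?_, fun x => ?_,
    fun y => ?_, ?_⟩
  · intro a b h
    have h' := (glConj P).injective h
    refine sl_ext (Matrix.map_injective (f := (E.subtype : E → K)) Subtype.val_injective ?_)
    exact congrArg Subtype.val h'
  · refine sl_ext ?_
    show ((P⁻¹ : GL (Fin 2) K) : Matrix (Fin 2) (Fin 2) K) * (upper x).1.map E.subtype * !![c, 0; 0, 1] = _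
    rw [hPi, coe_upper]
    ext i j
    fin_cases i <;> fin_cases j <;> simp [Matrix.mul_apply, Matrix.vecMul, dotProduct, Fin.sum_univ_two, coe_upper, hc, div_eq_inv_mul]
  · refine sl_ext ?_
    show ((P⁻¹ : GL (Fin 2) K) : Matrix (Fin 2) (Fin 2) K) * (lower y).1.map E.subtype * !![c, 0; 0, 1] = _
    rw [hPi, coe_lower]
    ext i j
    fin_cases i <;> fin_cases j <;> simp [Matrix.mul_apply, Matrix.vecMul, dotProduct, Fin.sum_univ_two, coe_lower, hc]
  · refine sl_ext ?_
    show ((P⁻¹ : GL (Fin 2) K) : Matrix (Fin 2) (Fin 2) K) *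
      ((-1 : Matrix.SpecialLinearGroup (Fin 2) E).1.map E.subtype) * !![c, 0; 0, 1] = _
    rw [hPi]
    ext i j
    fin_cases i <;> fin_cases j <;>
      simp [Matrix.mul_apply, Matrix.vecMul, dotProduct, Fin.sum_univ_two, hc, Matrix.SpecialLinearGroup.coe_neg]

/-- Subgroups of finite exponent with many upper transvections. -/
theorem exists_subfield_params {D : Subgroup SLK} (hord : ∀ d ∈ D, IsOfFinOrder d) (hneg : -1 ∈ D)
    {c : K} (hc : c ≠ 0) (hlo : lower c ∈ D) (h1 : upper 1 ∈ D) [Finite (upperParams D)]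
    (hA : p ^ 2 ∣ Nat.card (upperParams D)) :
    ∃ S : Subfield K, Finite S ∧ c ∈ S ∧ (∀ x, upper x ∈ D ↔ x ∈ S) ∧
      ∀ x ∈ S, lower x ∈ D := by
  classical
  letI : Algebra (ZMod p) K := ZMod.algebra K p
  have hic : IsIntegral (ZMod p) c := by
    simpa using isIntegral_of_fin_order (p := p) (hord _ (D.mul_mem h1 hlo))
  set S : Set K := insert c ((fun x => x * c) '' (upperParams D : Set K)) with hS
  obtain ⟨E, hE, hSE⟩ := exists_finite_subfield (p := p) (S := S)
    (((Set.toFinite (upperParams D : Set K)).image _).insert c) (by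
      rintro z (rfl | ⟨x, hx, rfl⟩)
      · exact hic
      · exact isIntegral_of_fin_order (hord _ (D.mul_mem hx hlo)))
  haveI := hE
  haveI := Fintype.ofFinite E
  have hxE : ∀ x, upper x ∈ D → x * c ∈ E := fun x hx => hSE (Or.inr ⟨x, hx, rfl⟩)
  have hcE : c ∈ E := hSE (Or.inl rfl)
  haveI : CharP E p := (RingHom.charP_iff E.subtype Subtype.val_injective p).mpr inferInstance
  obtain ⟨ψ, hψ, hψu, hψl, hψn⟩ := exists_scale E hc
  set G := D.comap ψ with hG
  have hZ : Subgroup.center (Matrix.SpecialLinearGroup (Fin 2) E) ≤ G := fun z hz => by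
    rcases mem_center_iff.mp hz with rfl | rfl
    · exact G.one_mem
    · show ψ (-1) ∈ D
      rw [hψn]; exact hneg
  have hlo1 : lower 1 ∈ G := by show ψ _ ∈ D; rw [hψl]; simpa using hlo
  have hcard : Nat.card (upperParams G) = Nat.card (upperParams D) := by
    refine Nat.card_congr
      { toFun := fun z => ⟨(z.1 : K) / c, by have := z.2; show upper _ ∈ D; rw [← hψu]; exact this⟩
        invFun := fun x => ⟨⟨x.1 * c, hxE x.1 x.2⟩, by
          show ψ (upper _) ∈ D
          rw [hψu]
          have e : x.1 * c / c = x.1 := by field_simp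
          simp only [e]; exact x.2⟩
        left_inv := fun z => by ext; simp [hc]
        right_inv := fun x => by ext; simp [hc] }
  obtain ⟨S₀, hu, hl⟩ := subfield_of_params (p := p) G hZ hlo1 (hcard ▸ hA)
  have hcS : (⟨c, hcE⟩ : E) ∈ S₀ := by
    rw [← hu]; show ψ _ ∈ D; rw [hψu]
    simpa [div_self hc] using h1
  haveI : Finite (S₀.map E.subtype) := by
    refine Set.Finite.to_subtype ((Set.toFinite (S₀ : Set E)).image E.subtype |>.subset ?_)
    intro x hx; exact hx
  refine ⟨S₀.map E.subtype, ‹_›, ⟨_, hcS, rfl⟩, fun x => ⟨fun hx => ?_, ?_⟩, ?_⟩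
  · have h' : (⟨x * c, hxE x hx⟩ : E) ∈ S₀ := by
      rw [← hu]; show ψ _ ∈ D; rw [hψu]
      simpa [hc] using hx
    exact ⟨_, S₀.mul_mem h' (S₀.inv_mem hcS), by simp [hc]⟩
  · rintro ⟨y, hy, rfl⟩
    have h' := (hu _).mpr (S₀.mul_mem hy hcS)
    have h'' : ψ (upper (y * ⟨c, hcE⟩)) ∈ D := h'
    rw [hψu] at h''
    simpa [hc] using h''
  · rintro x ⟨y, hy, rfl⟩
    have h' := (hl _).mpr (S₀.mul_mem hy (S₀.inv_mem hcS))
    have h'' : ψ (lower (y * (⟨c, hcE⟩ : E)⁻¹)) ∈ D := h'
    rw [hψl] at h''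
    simpa [hc] using h''

/-- In odd characteristic two opposite transvections of finite exponent generate the centre. -/
theorem neg_one_mem_of_transvections (hp2 : p ≠ 2) {D : Subgroup SLK} (hord : ∀ d ∈ D, IsOfFinOrder d)
    {c : K} (hc : c ≠ 0) (hlo : lower c ∈ D) (h1 : upper 1 ∈ D) : -1 ∈ D := by
  classical
  letI : Algebra (ZMod p) K := ZMod.algebra K p
  obtain ⟨E, hE, hSE⟩ := exists_finite_subfield (p := p) (S := {c}) (Set.finite_singleton c) (by
    rintro z rfl; simpa using isIntegral_of_fin_order (p := p) (hord _ (D.mul_mem h1 hlo)))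
  haveI := hE
  haveI := Fintype.ofFinite E
  have hcE : c ∈ E := hSE rfl
  haveI : CharP E p := (RingHom.charP_iff E.subtype Subtype.val_injective p).mpr inferInstance
  obtain ⟨ψ, hψ, hψu, hψl, hψn⟩ := exists_scale E hc
  by_contra hneg
  set G₀ := D.comap ψ with hG0
  have hn0 : (-1 : Matrix.SpecialLinearGroup (Fin 2) E) ∉ G₀ := fun h => hneg (by
    have h' : ψ (-1) ∈ D := h
    rwa [hψn] at h')
  have hodd : ¬ 2 ∣ Nat.card G₀ := by
    intro h2
    haveI : Fact (Nat.Prime 2) := ⟨Nat.prime_two⟩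
    obtain ⟨⟨g, hg⟩, hgo⟩ := exists_prime_orderOf_dvd_card' 2 h2
    rw [Subgroup.orderOf_mk] at hgo
    have hgg : g * g = 1 := by
      have h' := pow_orderOf_eq_one g
      rwa [hgo, pow_two] at h'
    have hne : g ≠ 1 := fun h => by rw [h, orderOf_one] at hgo; norm_num at hgo
    have h20 : (2 : E) ≠ 0 := fun h => hp2 (by
      have := (CharP.cast_eq_zero_iff E p 2).mp (by exact_mod_cast h)
      exact (Nat.prime_dvd_prime_iff_eq Fact.out Nat.prime_two).mp this)
    apply hn0
    suffices g = -1 by rw [← this]; exact hg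
    have hgi : g⁻¹ = g := inv_eq_of_mul_eq_one_right hgg
    have e := congrArg (fun z : Matrix.SpecialLinearGroup (Fin 2) E => (z : Matrix (Fin 2) (Fin 2) E)) hgi
    simp only [Matrix.SpecialLinearGroup.coe_inv, Matrix.adjugate_fin_two] at e
    have e00 : (g : Matrix (Fin 2) (Fin 2) E) 1 1 = (g : Matrix (Fin 2) (Fin 2) E) 0 0 := by
      simpa using congrFun (congrFun e 0) 0
    have e01 : (g : Matrix (Fin 2) (Fin 2) E) 0 1 = 0 := by
      have := congrFun (congrFun e 0) 1; simp at this
      exact (mul_eq_zero.mp (show 2 * (g : Matrix (Fin 2) (Fin 2) E) 0 1 = 0 by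
        linear_combination -this)).resolve_left h20
    have e10 : (g : Matrix (Fin 2) (Fin 2) E) 1 0 = 0 := by
      have := congrFun (congrFun e 1) 0; simp at this
      exact (mul_eq_zero.mp (show 2 * (g : Matrix (Fin 2) (Fin 2) E) 1 0 = 0 by
        linear_combination -this)).resolve_left h20
    have hd := Cfsg.Agent.Lib.SL2Trace.det_eq g
    rw [e00, e01, zero_mul, sub_zero] at hd
    rcases mul_self_eq_one_iff.mp hd with h | h
    · exact absurd (sl_ext (by ext i j; fin_cases i <;> fin_cases j <;> simp [h, e00, e01, e10])) hne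
    · exact sl_ext (by ext i j; fin_cases i <;> fin_cases j <;>
        simp [h, e00, e01, e10, Matrix.SpecialLinearGroup.coe_neg])
  have hdis : Subgroup.center (Matrix.SpecialLinearGroup (Fin 2) E) ⊓ G₀ = ⊥ := by
    rw [eq_bot_iff]
    rintro z ⟨hz, hz'⟩
    rcases mem_center_iff.mp hz with rfl | rfl
    · exact Subgroup.one_mem _
    · exact absurd hz' hn0
  set G := G₀ ⊔ Subgroup.center (Matrix.SpecialLinearGroup (Fin 2) E)
  have hx : upper ⟨c, hcE⟩ ∈ G := Subgroup.mem_sup_left (by
    show ψ _ ∈ D; rw [hψu]; simpa [div_self hc] using h1)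
  have hy : lower 1 ∈ G := Subgroup.mem_sup_left (by show ψ _ ∈ D; rw [hψl]; simpa using hlo)
  have h4 := four_dvd_card (p := p) G hp2 le_sup_right
    (x := ⟨c, hcE⟩) (fun h => hc (congrArg Subtype.val h)) one_ne_zero hx hy
  have hmul : Nat.card G ∣ Nat.card G₀ * Nat.card (Subgroup.center (Matrix.SpecialLinearGroup (Fin 2) E)) := by
    rw [← Nat.card_prod]
    let μ : G₀ × Subgroup.center (Matrix.SpecialLinearGroup (Fin 2) E) →* G :=
      { toFun := fun z => ⟨z.1.1 * z.2.1, G.mul_mem (Subgroup.mem_sup_left z.1.2) (Subgroup.mem_sup_right z.2.2)⟩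
        map_one' := Subtype.ext (by simp)
        map_mul' := fun a b => Subtype.ext (by
          show a.1.1 * b.1.1 * (a.2.1 * b.2.1) = a.1.1 * a.2.1 * (b.1.1 * b.2.1)
          have := Subgroup.mem_center_iff.mp a.2.2 b.1.1
          rw [mul_assoc, ← mul_assoc b.1.1, this]; group) }
    refine Subgroup.card_dvd_of_surjective μ fun g => ?_
    obtain ⟨a, ha, b, hb, e⟩ := (Subgroup.mem_sup_of_normal_right).mp g.2
    exact ⟨(⟨a, ha⟩, ⟨b, hb⟩), Subtype.ext e⟩
  have := h4.trans (hmul.trans (Nat.mul_dvd_mul_left _ zz_dvd_two))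
  omega

end AnyField

end Cfsg.Agent.Lib.Chev
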