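import Cfsg.Agent.Lib.Chev.Over.Stab
import Cfsg.Agent.Lib.Chev.Over.Extra
import Cfsg.Agent.Lib.Chev.Over.Rank1

/-!
Coordinates of the short unipotent part with respect to the pair below the highest root, and the
kernel of the map from `SL₂`.
-/

set_option autoImplicit false
set_option linter.unusedSectionVars false

namespace Cfsg.Agent.Lib.Chev

open Cfsg.Lie

variable {D : ChevalleyDatum} {T : Tables} {c : OCfg} {K : Type*} [Field K]

/-- The roots moved by the reflection in the highest root, without the fundamental one. -/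
def flipRest (D : ChevalleyDatum) (T : Tables) (c : OCfg) : Set ℕ :=
  flipSet D T c.lR ∩ keepSet D T [c.a0]

/-- `v⁻¹ X_δ(j) v = X_δ(j) X_R(j a)`. -/
def Coef (G : Good D T) (v : GL D.Idx K) (δ : ℕ) (a : K) : Prop :=
  ∀ j : K, v⁻¹ * G.X K δ j * v = G.X K δ j * G.X K (topR D) (j * a)

namespace OverFacts

variable (O : OverFacts D T c) (G : Good D T) {b : ℕ} (hb : PairFacts D T c b)

theorem coef_unique {v : GL D.Idx K} {δ : ℕ} {a a' : K} (hR : topR D < D.nroots)
    (h : Coef G v δ a) (h' : Coef G v δ a') : a = a' := by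
  have e := (h 1).symm.trans (h' 1)
  rw [mul_right_inj, one_mul, one_mul] at e
  exact G.X_injective hR e

include O G hb

theorem P_pair : P D T (topR D) (sim D c.a0) = 1 ∧ P D T (topR D) b = 1 := by
  have ha := G.sim_lt O.a0
  have h1 := (O.flip_iff _ ha).2 ⟨G.sim_pos O.a0, O.a0_flip⟩
  have h2 := (O.flip_iff _ hb.b_lt).2 ⟨hb.b_pos, hb.b_flip⟩
  have h3 := G.P_lin (R := topR D) hb.b_lt ha O.R_lt (a := 1) (b := 1)
    (fun i hi => by rw [← hb.add i hi]; ring)
  rw [G.P_self O.R_lt] at h3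
  omega

theorem alpha_ne_top : sim D c.a0 ≠ topR D := by
  intro e
  have h := (O.P_pair G hb).1
  rw [e, G.P_self O.R_lt] at h
  omega

theorem alpha_lt_b : b ≠ sim D c.a0 ∧ b ≠ ng D (sim D c.a0) := by
  refine ⟨hb.b_ne, ?_⟩
  have := G.sim_lt O.a0; have := hb.b_lt; have := G.sim_pos O.a0; have := G.even_n; have := hb.b_pos
  unfold ng; omega

theorem commute_b {q : ℕ} (hq : q < D.nroots) (hp : npos D ≤ q) (hf : wl T c.lR q < npos D)
    (hne : q ≠ sim D c.a0) (s j : K) : Commute (G.X K q s) (G.X K b j) := by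
  by_cases e : q = b
  · subst e
    show _ * _ = _ * _
    rw [G.X_add, G.X_add, add_comm]
  have hn : q ≠ ng D b := by have := G.even_n; have := hb.b_pos; unfold ng; omega
  exact (G.commute_of_terms hb.b_lt hq e hn (hb.other q hq hp hf hne e) j s).symm

theorem rest_normal {s : K} {u : GL D.Idx K} (hu : u ∈ G.USub K (flipRest D T c)) :
    G.X K (sim D c.a0) s * u * (G.X K (sim D c.a0) s)⁻¹ ∈ G.USub K (flipRest D T c) := by
  have ha := G.sim_lt O.a0
  have hap := G.sim_pos O.a0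
  have h : G.USub K (flipRest D T c) ≤
      (G.USub K (flipRest D T c)).comap (MulAut.conj (G.X K (sim D c.a0) s)).toMonoidHom := by
    refine G.USub_le_of fun q hq hpq hqS v => ?_
    show G.X K (sim D c.a0) s * G.X K q v * (G.X K (sim D c.a0) s)⁻¹ ∈ G.USub K (flipRest D T c)
    have hqne : q ≠ sim D c.a0 := (G.keep_single_iff O.a0 hq hpq).1 hqS.2
    have hne : q ≠ ng D (sim D c.a0) := by have := G.even_n; unfold ng; omega
    have hc := G.commAt (F := K) (sim D c.a0) q ha hq hqne hne (-s) v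
    have e2 : G.X K (sim D c.a0) s * G.X K q v * (G.X K (sim D c.a0) s)⁻¹ =
        G.X K q v * G.wordG (Good.cw T (sim D c.a0) q (-s) v) := by
      rw [G.X_inv, mul_assoc, hc, ← mul_assoc, ← mul_assoc, G.X_add, add_neg_cancel, G.X_zero,
        one_mul]
    rw [e2]
    refine mul_mem (G.X_mem_USub hq hpq hqS v) (G.wordG_mem fun w hw => ?_)
    simp only [Good.cw, List.mem_map] at hw
    obtain ⟨x, hx, rfl⟩ := hw
    obtain ⟨hj, h1, -⟩ := G.terms_gt (k := x.1) (C := x.2.1) (a := x.2.2.1) (b := x.2.2.2)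
      ha hq hap hpq hx
    have hjp : npos D ≤ x.1 := by omega
    refine G.X_mem_USub (S := flipRest D T c) hj hjp
      ⟨(O.flip_term G ha hap hq hpq hqS.1 hx).1, (G.keep_single_iff O.a0 hj hjp).2 ?_⟩ _
    intro e
    omega
  exact h hu

/-- The coordinate at the fundamental root splits off. -/
theorem split_alpha {v : GL D.Idx K} (hv : v ∈ G.USub K (flipSet D T c.lR)) :
    ∃ t : K, ∃ u ∈ G.USub K (flipRest D T c), v = u * G.X K (sim D c.a0) t := by
  let J : Subgroup (GL D.Idx K) :=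
    { carrier := {v | ∃ t : K, ∃ u ∈ G.USub K (flipRest D T c), v = u * G.X K (sim D c.a0) t}
      one_mem' := ⟨0, 1, one_mem _, by rw [G.X_zero, one_mul]⟩
      mul_mem' := by
        rintro _ _ ⟨t, u, hu, rfl⟩ ⟨t', u', hu', rfl⟩
        refine ⟨t + t', u * (G.X K (sim D c.a0) t * u' * (G.X K (sim D c.a0) t)⁻¹),
          mul_mem hu (O.rest_normal G hb hu'), ?_⟩
        rw [← G.X_add]; group
      inv_mem' := by
        rintro _ ⟨t, u, hu, rfl⟩
        refine ⟨-t, G.X K (sim D c.a0) (-t) * u⁻¹ * (G.X K (sim D c.a0) (-t))⁻¹,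
          O.rest_normal G hb (inv_mem hu), ?_⟩
        rw [← G.X_inv]; group }
  refine (G.USub_le_of (K := J) fun q hq hp hqS s => ?_) hv
  by_cases e : q = sim D c.a0
  · subst e
    exact ⟨s, 1, one_mem _, by rw [one_mul]⟩
  · exact ⟨0, G.X K q s, G.X_mem_USub (S := flipRest D T c) hq hp ⟨hqS, (G.keep_single_iff O.a0 hq hp).2 e⟩ s,
      by rw [G.X_zero, mul_one]⟩

theorem rest_commute_b {u : GL D.Idx K} (hu : u ∈ G.USub K (flipRest D T c)) (j : K) :
    Commute u (G.X K b j) := by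
  have hle : G.USub K (flipRest D T c) ≤ Subgroup.centralizer {G.X K b j} :=
    G.USub_le_of fun q hq hp hqS s => Subgroup.mem_centralizer_singleton_iff.2
      (O.commute_b G hb hq hp hqS.1 ((G.keep_single_iff O.a0 hq hp).1 hqS.2) s j).eq
  exact Subgroup.mem_centralizer_singleton_iff.1 (hle hu)

theorem rest_le_flip : G.USub K (flipRest D T c) ≤ G.USub K (flipSet D T c.lR) :=
  G.USub_mono fun _ _ _ h => h.1

theorem coef_of_split {C : ℤ} (hC : T.terms b (sim D c.a0) = [(topR D, C, 1, 1)]) {t : K}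
    {u : GL D.Idx K} (hu : u ∈ G.USub K (flipRest D T c)) :
    Coef G (u * G.X K (sim D c.a0) t) b ((C : K) * t) := by
  intro j
  have ha := G.sim_lt O.a0
  obtain ⟨hne, hne2⟩ := O.alpha_lt_b G hb
  have hn : sim D c.a0 ≠ ng D b := by
    have := G.even_n; have := hb.b_pos; have := G.sim_pos O.a0; have := hb.b_lt; unfold ng; omega
  have hc := G.commAt (F := K) b (sim D c.a0) hb.b_lt ha (Ne.symm hne) hn j t
  have hw : (G.wordG (Good.cw T b (sim D c.a0) j t))⁻¹ = G.X K (topR D) (j * ((C : K) * t)) := by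
    simp only [Good.cw, hC, List.map_cons, List.map_nil, Good.wordG, List.prod_cons, List.prod_nil,
      mul_one, G.X_inv]
    congr 1
    ring
  have e1 : u⁻¹ * G.X K b j * u = G.X K b j := by
    rw [mul_assoc, ← (O.rest_commute_b G hb hu j).eq, inv_mul_cancel_left]
  rw [show (u * G.X K (sim D c.a0) t)⁻¹ * G.X K b j * (u * G.X K (sim D c.a0) t) =
    (G.X K (sim D c.a0) t)⁻¹ * (u⁻¹ * G.X K b j * u) * G.X K (sim D c.a0) t by group, e1, ← hw]
  calc (G.X K (sim D c.a0) t)⁻¹ * G.X K b j * G.X K (sim D c.a0) t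
      = (G.X K (sim D c.a0) t)⁻¹ * (G.X K b j * G.X K (sim D c.a0) t *
          G.wordG (Good.cw T b (sim D c.a0) j t)) * (G.wordG (Good.cw T b (sim D c.a0) j t))⁻¹ := by group
    _ = _ := by rw [← hc]; group

theorem coef_inv {v : GL D.Idx K} (hv : v ∈ D.posUnipotent K) {δ : ℕ} {a : K} (h : Coef G v δ a)
    (j : K) : v * G.X K δ j * v⁻¹ = G.X K δ j * G.X K (topR D) (-(j * a)) := by
  have e := h j
  have hcm := (O.commute_top G hv (j * a)).eq
  rw [← G.X_inv, eq_mul_inv_iff_mul_eq]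
  calc v * G.X K δ j * v⁻¹ * G.X K (topR D) (j * a)
      = v * G.X K δ j * (v⁻¹ * G.X K (topR D) (j * a) * v) * v⁻¹ := by group
    _ = v * G.X K δ j * G.X K (topR D) (j * a) * v⁻¹ := by
        rw [mul_assoc (v⁻¹), ← hcm, inv_mul_cancel_left]
    _ = v * (v⁻¹ * G.X K δ j * v) * v⁻¹ := by rw [e]; group
    _ = G.X K δ j := by group

/-- A rational Weyl element fixing the highest root preserves the moved roots. -/
theorem flip_conj_nl {l : List ℕ} (hl : IsW D l) (hlR : wl T l (topR D) = topR D) {v : GL D.Idx K}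
    (hv : v ∈ G.USub K (flipSet D T c.lR)) :
    (G.nl K l)⁻¹ * v * G.nl K l ∈ G.USub K (flipSet D T c.lR) := by
  have h : G.USub K (flipSet D T c.lR) ≤
      (G.USub K (flipSet D T c.lR)).comap (MulAut.conj (G.nl K l)⁻¹).toMonoidHom := by
    refine G.USub_le_of fun q hq hp hqS t => ?_
    show (G.nl K l)⁻¹ * G.X K q t * (G.nl K l)⁻¹⁻¹ ∈ G.USub K (flipSet D T c.lR)
    obtain ⟨s, hs⟩ := G.act_inv_X (G.rep_nl (F := K) hl) hq t
    rw [inv_inv, hs]
    have h1 := G.wl_lt hl.reverse hq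
    have hR' : wl T l.reverse (topR D) = topR D := by
      conv_lhs => rw [← hlR]
      exact G.wl_reverse_wl hl O.R_lt
    have h2 : 0 < P D T (topR D) (wl T l.reverse q) := by
      rw [← hR', G.P_wl hl.reverse O.R_lt hq]
      exact (O.flip_iff q hq).2 ⟨hp, hqS⟩
    obtain ⟨h3, h4⟩ := (O.flip_iff _ h1).1 h2
    exact G.X_mem_USub (S := flipSet D T c.lR) h1 h3 h4 s
  simpa using h hv

omit hb in
/-- The kernel of the map from `SL₂` at the highest root is central. -/
theorem phi_ker {d : Matrix.SpecialLinearGroup (Fin 2) K} (h : G.phi O.R_lt d = 1) :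
    d = 1 ∨ d = -1 := by
  have hR := O.R_lt
  have hRp := O.R_pos G
  obtain ⟨⟨x, hx⟩, e⟩ := (G.graph_fst_bijective (F := K) hR).2 d
  have e' : x.1 = d := e
  subst e'
  have hx2 : x.2 = 1 := (G.phi_of_mem hR hx).symm.trans h
  rcases (G.pairRel hR).normal_of_mem hx with ⟨a, cc, hcc, rfl⟩ | ⟨a, cc, bb, hcc, rfl⟩
  · have h1 : G.X K (topR D) a * G.Hg K (topR D) cc = 1 := hx2
    have hd : G.X K (topR D) a ∈ D.diagonalSubgroup K := by
      rw [eq_inv_of_mul_eq_one_left h1]; exact inv_mem (G.Hg_mem hR hcc)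
    have ha0 := Subgroup.mem_bot.1 (G.pos_inf_diag (F := K) ▸
      Subgroup.mem_inf.2 ⟨G.X_mem_posUnipotent hR hRp a, hd⟩)
    rw [ha0, one_mul] at h1
    have ha := (G.X_eq_one_iff hR a).1 ha0
    have h2 := G.Hg_conj_X hR hR hcc (1 : K)
    rw [h1, G.P_self hR, one_mul, inv_one, mul_one] at h2
    have h3 := G.X_injective hR h2
    simp [zpow_two] at h3
    subst ha
    rcases sq_eq_one_iff.1 h3.symm with rfl | rfl
    · left
      refine Subtype.ext ?_
      show ((su (0 : K) * sd 1 : Matrix.SpecialLinearGroup (Fin 2) K) : Matrix (Fin 2) (Fin 2) K) = _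
      rw [Matrix.SpecialLinearGroup.coe_mul, sd_val one_ne_zero]
      ext i j; fin_cases i <;> fin_cases j <;> simp [su, Matrix.mul_apply, Fin.sum_univ_two]
    · right
      refine Subtype.ext ?_
      show ((su (0 : K) * sd (-1) : Matrix.SpecialLinearGroup (Fin 2) K) : Matrix (Fin 2) (Fin 2) K) = _
      rw [Matrix.SpecialLinearGroup.coe_mul, sd_val (neg_ne_zero.2 one_ne_zero)]
      ext i j
      fin_cases i <;> fin_cases j <;>
        simp [su, Matrix.mul_apply, Fin.sum_univ_two, Matrix.SpecialLinearGroup.coe_neg, inv_neg]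
  · exfalso
    have h1 : G.X K (topR D) a * G.Ng K (topR D) 1 * G.Hg K (topR D) cc * G.X K (topR D) bb = 1 := hx2
    have hN : G.Ng K (topR D) 1 = (G.X K (topR D) a)⁻¹ * (G.X K (topR D) bb)⁻¹ *
        (G.Hg K (topR D) cc)⁻¹ := by
      calc G.Ng K (topR D) 1 = (G.X K (topR D) a)⁻¹ * (G.X K (topR D) a * G.Ng K (topR D) 1 *
            G.Hg K (topR D) cc * G.X K (topR D) bb) * (G.X K (topR D) bb)⁻¹ *
            (G.Hg K (topR D) cc)⁻¹ := by group
        _ = _ := by rw [h1, mul_one]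
    have hB : G.Ng K (topR D) 1 ∈ D.borelSubgroup K := by
      rw [hN]
      exact mul_mem (mul_mem
        (Subgroup.mem_sup_left (inv_mem (G.X_mem_posUnipotent hR hRp a)))
        (Subgroup.mem_sup_left (inv_mem (G.X_mem_posUnipotent hR hRp bb))))
        (Subgroup.mem_sup_right (inv_mem (G.Hg_mem hR hcc)))
    obtain ⟨y, -, hy⟩ := O.borel_top G hB
    have h2 := hy 1
    rw [G.Ng_conj_X_self _ hR] at h2
    have h3 := G.X_root_inj (G.ng_lt hR) hR (neg_ne_zero.2 (one_ne_zero (α := K))) h2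
    have := G.even_n
    unfold ng at h3; omega

omit hb in
theorem phi_neg_one : G.phi O.R_lt (-1 : Matrix.SpecialLinearGroup (Fin 2) K) =
    G.Hg K (topR D) (-1) := by
  have hR := O.R_lt
  have hn : (G.pairRel (F := K) hR).n ∈ G.graph (F := K) hR := Subgroup.subset_closure (Or.inr rfl)
  have h := G.phi_of_mem hR (mul_mem hn hn)
  rw [(G.pairRel (F := K) hR).n_sq] at h
  have e : (sd (-1 : K)) = (-1 : Matrix.SpecialLinearGroup (Fin 2) K) := by
    refine Subtype.ext ?_
    rw [sd_val (neg_ne_zero.2 (one_ne_zero (α := K)))]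
    ext i j
    fin_cases i <;> fin_cases j <;> simp [Matrix.SpecialLinearGroup.coe_neg, inv_neg]
  rw [← e]
  exact h

omit hb in
/-- Preimages of a finite group consist of elements of finite order. -/
theorem finOrder_of_phi (J : Subgroup (GL D.Idx K)) [Finite J]
    {d : Matrix.SpecialLinearGroup (Fin 2) K} (hd : G.phi O.R_lt d ∈ J) : IsOfFinOrder d := by
  have h1 : (⟨_, hd⟩ : J) ^ Nat.card J = 1 := pow_card_eq_one'
  have h2 : G.phi O.R_lt (d ^ Nat.card J) = 1 := by
    rw [map_pow]; exact congrArg Subtype.val h1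
  refine isOfFinOrder_iff_pow_eq_one.2 ⟨Nat.card J * 2, Nat.mul_pos Nat.card_pos two_pos, ?_⟩
  rw [pow_mul, pow_two]
  rcases O.phi_ker G h2 with h | h <;> rw [h] <;> simp

end OverFacts

end Cfsg.Agent.Lib.Chev
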