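import Cfsg.Agent.Lib.Chev.Over.Basic

/-!
The certificates in logical form, and the standing hypotheses on an overgroup.
-/

set_option autoImplicit false
set_option linter.unusedSectionVars false

namespace Cfsg.Agent.Lib.Chev

open Cfsg.Lie

variable {D : ChevalleyDatum} {T : Tables} {c : OCfg} {K : Type*} [Field K]

/-- The hypotheses on a group between the subfield group and the whole group. -/
structure OverH (G : Good D T) (f : K →+* K) (H : Subgroup (GL D.Idx K)) : Prop where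
  le : H ≤ D.group K
  fix_le : Good.fixX (D := D) K f ≤ H
  par : ∀ r < D.nroots, ∀ t : K, G.X K r t ∈ H → f t = t

/-- The rank two configuration at a short root with even coefficient. -/
structure BFacts (D : ChevalleyDatum) (T : Tables) (c : OCfg) : Prop where
  lb : IsW D c.lb
  ia : c.ia < D.rank
  ib : c.ib < D.rank
  rel : ∃ k1 C1 k2 C2, T.terms (sim D c.ia) (sim D c.ib) = [(k1, C1, 1, 1), (k2, C2, 2, 1)] ∧
    Int.natAbs C1 = 1 ∧ Int.natAbs C2 = 1 ∧
    wl T c.lb c.rs = k1 ∧ wl T c.lb (topR D) = k2 ∧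
    T.w c.ib k1 = sim D c.ia ∧ T.w c.ib k2 = k2 ∧ T.w c.ia k1 = k1 ∧
    T.w c.ia (sim D c.ib) = k2 ∧
    (∀ e ∈ T.terms (ng D (sim D c.ia)) k1, e.2.1 % 2 = 0) ∧
    (∃ M1 M2, T.terms (ng D (sim D c.ia)) k2 = [(k1, M1, 1, 1), (sim D c.ib, M2, 2, 1)] ∧
      Int.natAbs M1 = 1 ∧ Int.natAbs M2 = 1) ∧
    T.terms k2 (sim D c.ib) = [] ∧ T.terms k2 (ng D (sim D c.ib)) = [] ∧
    T.terms k1 k2 = [] ∧ k2 ≠ k1 ∧ k2 ≠ ng D k1 ∧
    k2 ≠ sim D c.ib ∧ k2 ≠ ng D (sim D c.ib)

/-- The step down from the highest short root. -/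
structure DownFacts (D : ChevalleyDatum) (T : Tables) (c : OCfg) : Prop where
  Aj_top : T.A c.j (topR D) = 0
  Aj_rs : T.A c.j c.rs = 1
  comm_top : T.terms (ng D (sim D c.j)) (topR D) = []
  ne_sim : c.rs ≠ sim D c.j
  step : ∃ g, g < D.nroots ∧ npos D ≤ g ∧ g ≠ c.rs ∧ ∃ k₁ C rest₁ k C' rest,
    T.terms g c.rs = (k₁, C, 1, 1) :: rest₁ ∧
    T.terms (ng D (sim D c.j)) c.rs = (k, C', 1, 1) :: rest ∧ npos D ≤ k ∧
    (∀ e ∈ rest, k < e.1 ∨ e.2.1 % (Int.natAbs C : ℤ) = 0) ∧
    Nat.gcd (Int.natAbs C) (Int.natAbs C') = 1 ∧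
    (Int.natAbs C = 3 ∨ Int.natAbs C = 2 ∧ BFacts D T c)

/-- A long root and the pair of lowest steps below the highest root. -/
structure PairFacts (D : ChevalleyDatum) (T : Tables) (c : OCfg) (b : ℕ) : Prop where
  b_lt : b < D.nroots
  b_pos : npos D ≤ b
  b_flip : wl T c.lR b < npos D
  b_ne : b ≠ sim D c.a0
  b_ne_top : b ≠ topR D
  add : ∀ m < D.rank, T.k m b + T.k m (sim D c.a0) = T.k m (topR D)
  n0_b : wl T c.n0 b = sim D c.a0
  pair : ∃ C, T.terms b (sim D c.a0) = [(topR D, C, 1, 1)] ∧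
    Int.natAbs C = if c.a2 then 1 else 2
  other : ∀ d < D.nroots, npos D ≤ d → wl T c.lR d < npos D → d ≠ sim D c.a0 → d ≠ b →
    T.terms b d = []
  b_top : T.terms b (topR D) = []
  neg_top : ∃ C rest, T.terms (ng D (sim D c.a0)) (topR D) = (b, C, 1, 1) :: rest ∧
    Int.natAbs C = 1 ∧
    (if c.a2 then rest = [] else ∃ k M x y, rest = [(k, M, x, y)] ∧ k < b ∧ npos D ≤ k ∧ T.terms k b = [])
  typeA : c.a2 = true → T.w c.a0 b = topR D ∧
    (∃ C, T.terms (ng D (topR D)) b = [(ng D (sim D c.a0), C, 1, 1)] ∧ Int.natAbs C = 1) ∧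
    T.terms b (ng D (sim D c.a0)) = [] ∧ b ≠ ng D (sim D c.a0) ∧
    T.terms (ng D (sim D c.a0)) (ng D (topR D)) = []
  typeB : c.a2 = false → ∃ ib < D.rank, npos D ≤ wl T c.lR (sim D ib) ∧
    (∃ C1 C2, T.terms (sim D c.a0) (sim D ib) = [(b, C1, 1, 1), (topR D, C2, 2, 1)] ∧
      Int.natAbs C1 = 1 ∧ Int.natAbs C2 = 1) ∧
    ∃ C C', T.terms (ng D (topR D)) b =
      [(ng D (sim D c.a0), C, 1, 1), (sim D ib, C', 1, 2)] ∧
      Int.natAbs C = 1 ∧ Int.natAbs C' = 1

/-- Everything the certificates say. -/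
structure OverFacts (D : ChevalleyDatum) (T : Tables) (c : OCfg) : Prop where
  npos_pos : 0 < npos D
  up : ∀ d < D.nroots, npos D ≤ d → d ≠ topR D → d ≠ c.rs →
    ∃ g, g < D.nroots ∧ npos D ≤ g ∧ g ≠ d ∧ ∃ k C rest, T.terms g d = (k, C, 1, 1) :: rest ∧
      ((Int.natAbs C = 1 ∧ (d ≤ c.rs ∨ c.rs = topR D ∨ T.terms g c.rs = [])) ∨
        (d ≤ c.rs ∧ ∃ g', g' < D.nroots ∧ npos D ≤ g' ∧ g' ≠ d ∧ ∃ k' C' rest',
          T.terms g' d = (k', C', 1, 1) :: rest' ∧ Nat.gcd (Int.natAbs C) (Int.natAbs C') = 1))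
  j_lt : c.j < D.rank
  rs_pos : npos D ≤ c.rs
  rs_lt : c.rs < D.nroots
  down : c.rs = topR D ∨ DownFacts D T c
  lR : IsW D c.lR
  lR_top : wl T c.lR (topR D) = ng D (topR D)
  long_top : lng D T c (topR D) = true
  top_comm : ∀ q < D.nroots, npos D ≤ q → q ≠ topR D →
    T.terms q (topR D) = [] ∧ T.terms (topR D) q = []
  keep_comm : ∀ q < D.nroots, npos D ≤ q → npos D ≤ wl T c.lR q →
    T.terms q (ng D (topR D)) = [] ∧ q ≠ topR D
  flip_iff : ∀ q < D.nroots, 0 < P D T (topR D) q ↔ npos D ≤ q ∧ wl T c.lR q < npos D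
  keep_P : ∀ q < D.nroots, npos D ≤ q → (P D T (topR D) q ≠ 0 ↔ wl T c.lR q < npos D)
  descent : ∀ g < D.nroots, lng D T c g = true → g ≠ ng D (topR D) → ∃ i < D.rank,
    T.w i g < g ∧ (g = sim D i ∨ g ≠ ng D (sim D i) ∧ T.terms (sim D i) g = [])
  long_w : ∀ g < D.nroots, ∀ i < D.rank, lng D T c g = lng D T c (T.w i g)
  spans : ∀ i < D.rank, wl T c.lR (sim D i) < npos D ∨ ∃ d < D.nroots, npos D ≤ d ∧
    wl T c.lR d < npos D ∧ ∃ d' < D.nroots, npos D ≤ d' ∧ wl T c.lR d' < npos D ∧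
      ∀ m < D.rank, T.k m d' = T.k m d + T.k m (sim D i)
  a0 : c.a0 < D.rank
  a0_flip : wl T c.lR (sim D c.a0) < npos D
  refR : ∃ d i, i < D.rank ∧ IsW D d ∧ c.lR = d ++ i :: d.reverse ∧ wl T d (sim D i) = topR D
  n0 : IsW D c.n0
  n0_top : wl T c.n0 (topR D) = topR D
  pair : ∃ b, PairFacts D T c b

theorem isum_P (r s : ℕ) : (isum D.rank fun j => T.c r j * T.A j s) = P D T r s := by
  rw [isum_eq]; rfl

theorem overFacts (h : chkOver D T c = true) : OverFacts D T c := by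
  simp only [chkOver, Bool.and_eq_true] at h
  obtain ⟨⟨⟨⟨hup, hrs⟩, htop⟩, hpair⟩, href⟩ := h
  simp only [chkTopOver, inQ, Bool.and_eq_true, decide_eq_true_eq, List.all_eq_true, beq_iff_eq] at htop
  obtain ⟨⟨⟨⟨⟨⟨⟨⟨⟨t1, t2⟩, t3⟩, t4⟩, t5⟩, t6⟩, t7⟩, t8⟩, t9⟩, t10⟩ := htop
  simp only [chkRs, Bool.and_eq_true, decide_eq_true_eq] at hrs
  obtain ⟨⟨⟨r1, r2⟩, r3⟩, r4⟩ := hrs
  simp only [chkPair, inQ, Bool.and_eq_true, decide_eq_true_eq, List.all_eq_true, beq_iff_eq] at hpair
  obtain ⟨⟨⟨⟨p1, p2⟩, p3⟩, p4⟩, p5⟩ := hpair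
  exact {
    npos_pos := t1
    up := fun d hd hpd h1 h2 => by
      have := allLt_eq_true hup d hd
      simp only [Bool.or_eq_true, decide_eq_true_eq, beq_iff_eq] at this
      rcases this with ((h' | h') | h') | h'
      · omega
      · exact absurd h' h1
      · exact absurd h' h2
      obtain ⟨g, hg, h'⟩ := anyLt_eq_true h'
      simp only [Bool.and_eq_true, decide_eq_true_eq, bne_iff_ne, ne_eq] at h'
      obtain ⟨⟨g1, g2⟩, g3⟩ := h'
      rcases hT : T.terms g d with _ | ⟨⟨k, C, a, b⟩, rest⟩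
      · simp [hT] at g3
      simp only [hT, Bool.and_eq_true, decide_eq_true_eq] at g3
      obtain ⟨⟨rfl, rfl⟩, g4⟩ := g3
      refine ⟨g, hg, g1, g2, k, C, rest, hT, ?_⟩
      by_cases hC : C.natAbs = 1
      · simp only [if_pos hC, Bool.or_eq_true, decide_eq_true_eq, beq_iff_eq, List.isEmpty_iff] at g4
        exact Or.inl ⟨hC, or_assoc.1 g4⟩
      simp only [if_neg hC, Bool.and_eq_true, decide_eq_true_eq] at g4
      obtain ⟨g', hg', h''⟩ := anyLt_eq_true g4.2
      simp only [Bool.and_eq_true, decide_eq_true_eq, bne_iff_ne, ne_eq] at h''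
      obtain ⟨⟨e1, e2⟩, e3⟩ := h''
      rcases hT' : T.terms g' d with _ | ⟨⟨k', C', a', b'⟩, rest'⟩
      · simp [hT'] at e3
      simp only [hT', Bool.and_eq_true, decide_eq_true_eq] at e3
      obtain ⟨⟨rfl, rfl⟩, e4⟩ := e3
      exact Or.inr ⟨g4.1, g', hg', e1, e2, k', C', rest', hT', e4⟩
    j_lt := r1
    rs_pos := r2
    rs_lt := r3
    down := by
      simp only [Bool.or_eq_true, beq_iff_eq, Bool.and_eq_true, List.isEmpty_iff, bne_iff_ne, ne_eq] at r4
      rcases r4 with h' | ⟨⟨⟨⟨q1, q2⟩, q3⟩, q4⟩, q5⟩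
      · exact Or.inl h'
      refine Or.inr ⟨q1, q2, q3, q4, ?_⟩
      obtain ⟨g, hg, h'⟩ := anyLt_eq_true q5
      simp only [Bool.and_eq_true, decide_eq_true_eq, bne_iff_ne, ne_eq] at h'
      obtain ⟨⟨g1, g2⟩, g3⟩ := h'
      rcases hT : T.terms g c.rs with _ | ⟨⟨k₁, C, a, b⟩, rest₁⟩
      · simp [hT] at g3
      rcases hT' : T.terms (ng D (sim D c.j)) c.rs with _ | ⟨⟨k, C', a', b'⟩, rest⟩
      · simp [hT, hT'] at g3
      simp only [hT, hT', Bool.and_eq_true, decide_eq_true_eq, List.all_eq_true, Bool.or_eq_true] at g3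
      obtain ⟨⟨⟨⟨⟨⟨⟨rfl, rfl⟩, rfl⟩, rfl⟩, g4⟩, g5⟩, g6⟩, g7⟩ := g3
      refine ⟨g, hg, g1, g2, k₁, C, rest₁, k, C', rest, hT, rfl, g4, g5, g6, ?_⟩
      by_cases hC : C.natAbs = 2
      · refine Or.inr ⟨hC, ?_⟩
        simp only [if_pos hC, Bool.and_eq_true, decide_eq_true_eq, List.all_eq_true] at g7
        obtain ⟨⟨⟨b1, b2⟩, b3⟩, b4⟩ := g7
        refine ⟨b1, b2, b3, ?_⟩
        split at b4
        next k1 C1 k2 C2 hT2 =>
          simp only [Bool.and_eq_true, decide_eq_true_eq, beq_iff_eq, List.all_eq_true,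
            List.isEmpty_iff, bne_iff_ne, ne_eq] at b4
          obtain ⟨⟨⟨⟨⟨⟨⟨⟨⟨⟨⟨⟨⟨⟨⟨⟨c1, c2⟩, c3⟩, c4⟩, c5⟩, c6⟩, c7⟩, c8⟩, c9⟩, c10⟩, c11⟩, c12⟩,
            c13⟩, c14⟩, c15⟩, c16⟩, c17⟩ := b4
          refine ⟨k1, C1, k2, C2, hT2, c1, c2, c3, c4, c5, c6, c7, c8, c9, ?_, c11, c12, c13, c14,
            c15, c16, c17⟩
          split at c10
          next m1 M1 m2 M2 hT3 =>
            simp only [Bool.and_eq_true, decide_eq_true_eq, beq_iff_eq] at c10
            obtain ⟨⟨⟨d1, d2⟩, rfl⟩, rfl⟩ := c10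
            exact ⟨M1, M2, hT3, d1, d2⟩
          next => simp at c10
        next => simp at b4
      · simp only [if_neg hC, decide_eq_true_eq] at g7
        exact Or.inl g7
    lR := t2
    lR_top := t4
    long_top := t5
    top_comm := fun q hq hp hne => by
      have := allLt_eq_true t6 q hq
      simp only [Bool.or_eq_true, decide_eq_true_eq, Bool.and_eq_true, beq_iff_eq,
        List.isEmpty_iff] at this
      rcases this with h' | ⟨⟨h' | h', -⟩, -⟩
      · omega
      · exact absurd h' hne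
      · exact h'
    keep_comm := fun q hq hp hk => by
      have := allLt_eq_true t6 q hq
      simp only [Bool.or_eq_true, decide_eq_true_eq, Bool.and_eq_true, beq_iff_eq,
        List.isEmpty_iff, bne_iff_ne, ne_eq] at this
      rcases this with h' | ⟨-, h' | h'⟩
      · omega
      · omega
      · exact h'
    keep_P := fun q hq hp => by
      have := allLt_eq_true t6 q hq
      simp only [Bool.or_eq_true, decide_eq_true_eq, Bool.and_eq_true, beq_iff_eq,
        decide_eq_decide, isum_P] at this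
      rcases this with h' | ⟨⟨-, h'⟩, -⟩
      · omega
      · exact h'
    flip_iff := fun q hq => by
      have := allLt_eq_true t7 q hq
      simp only [beq_iff_eq, isum_P, ← Bool.decide_and, decide_eq_decide] at this
      exact this
    descent := fun g hg hl hne => by
      have := allLt_eq_true t8 g hg
      simp only [Bool.or_eq_true, Bool.not_eq_true', hl, beq_iff_eq, Bool.true_eq_false,
        false_or] at this
      rcases this with h' | h'
      · exact absurd h' hne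
      obtain ⟨i, hi, h''⟩ := anyLt_eq_true h'
      simp only [Bool.and_eq_true, Bool.or_eq_true, decide_eq_true_eq, beq_iff_eq, bne_iff_ne,
        List.isEmpty_iff, ne_eq] at h''
      exact ⟨i, hi, h''.1, h''.2⟩
    long_w := fun g hg i hi => by
      simpa using allLt_eq_true (allLt_eq_true t9 g hg) i hi
    spans := fun i hi => by
      have := allLt_eq_true t10 i hi
      simp only [Bool.or_eq_true, decide_eq_true_eq] at this
      rcases this with h' | h'
      · exact Or.inl h'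
      obtain ⟨d, hd, h''⟩ := anyLt_eq_true h'
      simp only [Bool.and_eq_true, decide_eq_true_eq] at h''
      obtain ⟨d', hd', h3⟩ := anyLt_eq_true h''.2
      simp only [Bool.and_eq_true, decide_eq_true_eq] at h3
      exact Or.inr ⟨d, hd, h''.1.1, h''.1.2, d', hd', h3.1.1, h3.1.2,
        fun m hm => by simpa using allLt_eq_true h3.2 m hm⟩
    a0 := p1
    a0_flip := p2
    refR := by
      simp only [chkRefR] at href
      split at href
      next => simp at href
      next i tl heq =>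
        simp only [Bool.and_eq_true, beq_iff_eq] at href
        refine ⟨_, i, t2 i (List.mem_of_mem_drop (heq ▸ List.mem_cons_self)),
          fun x hx => t2 x (List.mem_of_mem_take hx), href.1, href.2⟩
    n0 := p3
    n0_top := p4
    pair := by
      obtain ⟨b, hb, h'⟩ := anyLt_eq_true p5
      simp only [Bool.and_eq_true, decide_eq_true_eq, bne_iff_ne, ne_eq, beq_iff_eq,
        List.isEmpty_iff] at h'
      obtain ⟨⟨⟨⟨⟨⟨⟨⟨⟨⟨b1, b2⟩, b3⟩, b4⟩, b5⟩, b6⟩, b7⟩, b8⟩, b9⟩, b10⟩, b11⟩ := h'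
      refine ⟨b, hb, b1, b2, b3, b4, fun m hm => by simpa using allLt_eq_true b5 m hm, b6, ?_,
        fun d hd hpd hfl h1 h2 => ?_, b9, ?_, fun ha => ?_, fun ha => ?_⟩
      · split at b7
        next k C hT =>
          simp only [Bool.and_eq_true, beq_iff_eq] at b7
          obtain ⟨rfl, b7⟩ := b7
          exact ⟨C, hT, b7⟩
        next => simp at b7
      · have := allLt_eq_true b8 d hd
        simp only [Bool.or_eq_true, Bool.not_eq_true', decide_eq_true_eq, decide_eq_false_iff_not,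
          beq_iff_eq, List.isEmpty_iff] at this
        rcases this with (((h' | h') | h') | h') | h'
        · omega
        · exact absurd hfl h'
        · exact absurd h' h1
        · exact absurd h' h2
        · exact h'
      · rcases hT : T.terms (ng D (sim D c.a0)) (topR D) with _ | ⟨⟨k, C, a, e⟩, rest⟩
        · simp [hT] at b10
        simp only [hT, Bool.and_eq_true, beq_iff_eq, decide_eq_true_eq] at b10
        obtain ⟨⟨⟨⟨rfl, b10⟩, rfl⟩, rfl⟩, b12⟩ := b10
        refine ⟨C, rest, rfl, b10, ?_⟩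
        cases h : c.a2 with
        | false =>
          simp only [h, Bool.false_eq_true, if_false] at b12 ⊢
          rcases rest with _ | ⟨⟨k, M, x, y⟩, _ | ⟨_, _⟩⟩ <;>
            simp [List.isEmpty_iff] at b12
          exact ⟨k, M, x, y, rfl, b12.1.1, b12.1.2, b12.2⟩
        | true => simpa [h] using b12
      · rw [if_pos ha] at b11
        simp only [Bool.and_eq_true, beq_iff_eq, List.isEmpty_iff, bne_iff_ne, ne_eq] at b11
        obtain ⟨⟨⟨⟨c1, c2⟩, c3⟩, c4⟩, c5⟩ := b11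
        refine ⟨c1, ?_, c3, c4, c5⟩
        split at c2
        next k C hT =>
          simp only [Bool.and_eq_true, beq_iff_eq, decide_eq_true_eq] at c2
          obtain ⟨rfl, c2⟩ := c2
          exact ⟨C, hT, c2⟩
        next => simp at c2
      · rw [if_neg (by simp [ha])] at b11
        obtain ⟨ib, hib, h'⟩ := anyLt_eq_true b11
        simp only [Bool.and_eq_true, Bool.not_eq_true', decide_eq_false_iff_not] at h'
        obtain ⟨⟨c1, c2⟩, c3⟩ := h'
        refine ⟨ib, hib, by omega, ?_, ?_⟩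
        · split at c2
          next k1 C1 k2 C2 hT =>
            simp only [Bool.and_eq_true, beq_iff_eq, decide_eq_true_eq] at c2
            obtain ⟨⟨⟨rfl, rfl⟩, c5⟩, c6⟩ := c2
            exact ⟨C1, C2, hT, c5, c6⟩
          next => simp at c2
        · split at c3
          next k C k' C' hT =>
            simp only [Bool.and_eq_true, beq_iff_eq, decide_eq_true_eq] at c3
            obtain ⟨⟨⟨rfl, rfl⟩, c5⟩, c6⟩ := c3
            exact ⟨C, C', hT, c5, c6⟩
          next => simp at c3 }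

end Cfsg.Agent.Lib.Chev
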