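import Cfsg.Agent.Lib.Chev.Over.Rank1
import Cfsg.Agent.Lib.Chev.Over.Extra
import Cfsg.Agent.Lib.Chev.SL2

/-!
The parameters of the root elements in a finite overgroup form one subfield.
-/

set_option autoImplicit false
set_option linter.unusedSectionVars false

namespace Cfsg.Agent.Lib.Chev

open Cfsg.Lie

variable {D : ChevalleyDatum} {T : Tables} {c : OCfg} {K : Type*} [Field K]

/-- The parameters of the elements of a root group in a subgroup. -/
def rootParam (G : Good D T) (H : Subgroup (GL D.Idx K)) (r : ℕ) : AddSubgroup K where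
  carrier := {t | G.X K r t ∈ H}
  add_mem' := fun {x y} hx hy => by
    show G.X K r (x + y) ∈ H
    rw [← G.X_add]; exact mul_mem hx hy
  zero_mem' := by
    show G.X K r 0 ∈ H
    rw [G.X_zero]; exact one_mem _
  neg_mem' := fun {x} hx => by
    show G.X K r (-x) ∈ H
    rw [← G.X_inv]; exact inv_mem hx

/-- The kernel of the map from `SL₂` at a positive root is central. -/
theorem phi_ker_pos (G : Good D T) {r : ℕ} (hr : r < D.nroots) (hp : npos D ≤ r)
    {d : Matrix.SpecialLinearGroup (Fin 2) K} (h : G.phi hr d = 1) : d = 1 ∨ d = -1 := by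
  obtain ⟨⟨x, hx⟩, e⟩ := (G.graph_fst_bijective (F := K) hr).2 d
  have e' : x.1 = d := e
  subst e'
  have hx2 : x.2 = 1 := (G.phi_of_mem hr hx).symm.trans h
  rcases (G.pairRel hr).normal_of_mem hx with ⟨a, cc, hcc, rfl⟩ | ⟨a, cc, bb, hcc, rfl⟩
  · have h1 : G.X K r a * G.Hg K r cc = 1 := hx2
    have hd : G.X K r a ∈ D.diagonalSubgroup K := by
      rw [eq_inv_of_mul_eq_one_left h1]; exact inv_mem (G.Hg_mem hr hcc)
    have ha0 := Subgroup.mem_bot.1 (G.pos_inf_diag (F := K) ▸
      Subgroup.mem_inf.2 ⟨G.X_mem_posUnipotent hr hp a, hd⟩)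
    rw [ha0, one_mul] at h1
    have ha := (G.X_eq_one_iff hr a).1 ha0
    have h2 := G.Hg_conj_X hr hr hcc (1 : K)
    rw [h1, G.P_self hr, one_mul, inv_one, mul_one] at h2
    have h3 := G.X_injective hr h2
    simp at h3
    subst ha
    rcases sq_eq_one_iff.1 h3.symm with rfl | rfl
    · left
      refine Subtype.ext ?_
      show ((su (0 : K) * sd 1 : Matrix.SpecialLinearGroup (Fin 2) K) : Matrix (Fin 2) (Fin 2) K) = _
      rw [Matrix.SpecialLinearGroup.coe_mul, sd_val one_ne_zero]
      ext i j; fin_cases i <;> fin_cases j <;> simp [su, Matrix.mul_apply, Fin.sum_univ_two]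
    · right
      refine Subtype.ext ?_
      show ((su (0 : K) * sd (-1) : Matrix.SpecialLinearGroup (Fin 2) K) : Matrix (Fin 2) (Fin 2) K) = _
      rw [Matrix.SpecialLinearGroup.coe_mul, sd_val (neg_ne_zero.2 one_ne_zero)]
      ext i j
      fin_cases i <;> fin_cases j <;>
        simp [su, Matrix.mul_apply, Fin.sum_univ_two, Matrix.SpecialLinearGroup.coe_neg, inv_neg]
  · exfalso
    have h1 : G.X K r a * G.Ng K r 1 * G.Hg K r cc * G.X K r bb = 1 := hx2
    have hN : G.Ng K r 1 = (G.X K r a)⁻¹ * (G.X K r bb)⁻¹ * (G.Hg K r cc)⁻¹ := by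
      calc G.Ng K r 1 = (G.X K r a)⁻¹ * (G.X K r a * G.Ng K r 1 *
            G.Hg K r cc * G.X K r bb) * (G.X K r bb)⁻¹ * (G.Hg K r cc)⁻¹ := by group
        _ = _ := by rw [h1, mul_one]
    have hB : G.Ng K r 1 ∈ D.borelSubgroup K := by
      rw [hN]
      exact mul_mem (mul_mem
        (Subgroup.mem_sup_left (inv_mem (G.X_mem_posUnipotent hr hp a)))
        (Subgroup.mem_sup_left (inv_mem (G.X_mem_posUnipotent hr hp bb))))
        (Subgroup.mem_sup_right (inv_mem (G.Hg_mem hr hcc)))
    have hm := mul_mem (mul_mem hB (Subgroup.mem_sup_left (T := D.diagonalSubgroup K)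
      (G.X_mem_posUnipotent hr hp (1 : K)))) (inv_mem hB)
    rw [G.Ng_conj_X_self _ hr] at hm
    have hn : ng D r < npos D := by have := G.even_n; unfold ng; omega
    have h2 := Subgroup.mem_bot.1 (G.borel_inf_neg (F := K) ▸
      Subgroup.mem_inf.2 ⟨hm, G.X_mem_negUnipotent (G.ng_lt hr) hn _⟩)
    rw [G.X_eq_one_iff (G.ng_lt hr), neg_eq_zero] at h2
    exact one_ne_zero h2

variable (G : Good D T) (f : K →+* K) (H : Subgroup (GL D.Idx K)) (hfix : Good.fixX (D := D) K f ≤ H)

include G hfix

theorem rootParam_one (r : ℕ) : (1 : K) ∈ rootParam G H r := hfix (G.X_mem_fixX f (map_one f))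

theorem rootParam_nl {l : List ℕ} (hl : IsW D l) {r : ℕ} (hr : r < D.nroots) :
    rootParam G H (wl T l r) = rootParam G H r := by
  have key : ∀ {l : List ℕ}, IsW D l → ∀ {r : ℕ}, r < D.nroots → ∀ t, t ∈ rootParam G H r →
      t ∈ rootParam G H (wl T l r) := by
    intro l hl r hr t ht
    have h := mul_mem (mul_mem (hfix (G.nl_mem_fixX f hl)) ht) (inv_mem (hfix (G.nl_mem_fixX f hl)))
    rw [G.nl_conj_X hl hr] at h
    rcases el_eq_or (T := T) l r with e | e
    · rwa [e, Int.cast_one, one_mul] at h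
    · rw [e, Int.cast_neg, Int.cast_one, neg_one_mul] at h
      have := (rootParam G H (wl T l r)).neg_mem h
      rwa [neg_neg] at this
  refine le_antisymm (fun t ht => ?_) (key hl hr)
  have := key hl.reverse (G.wl_lt hl hr) t ht
  rwa [G.wl_reverse_wl hl hr] at this

theorem rootParam_w {i : ℕ} (hi : i < D.rank) {r : ℕ} (hr : r < D.nroots) :
    rootParam G H (T.w i r) = rootParam G H r :=
  rootParam_nl G f H hfix (isW_single hi) hr

omit hfix in
theorem rootParam_finite [Finite H] {r : ℕ} (hr : r < D.nroots) :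
    Finite (rootParam G H r) :=
  Finite.of_injective (fun t : rootParam G H r => (⟨_, t.2⟩ : H)) fun a b h =>
    Subtype.ext (G.X_injective hr (congrArg Subtype.val h))

variable (p : ℕ) [hpf : Fact p.Prime] [hcp : CharP K p] [Finite H]
include p hpf hcp

/-- The parameters at a fundamental root form a subfield, also at its negative. -/
theorem rootParam_subfield {i : ℕ} (hi : i < D.rank) :
    ∃ E : Subfield K, Finite E ∧ (∀ t, t ∈ rootParam G H (sim D i) ↔ t ∈ E) ∧
      ∀ t ∈ E, t ∈ rootParam G H (ng D (sim D i)) := by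
  classical
  have hr := G.sim_lt hi
  have hp := (Fact.out : p.Prime)
  haveI := rootParam_finite G H hr
  set P := rootParam G H (sim D i)
  have hnp : rootParam G H (ng D (sim D i)) = P := by
    rw [← G.w_sim hi]; exact rootParam_w G f H hfix hi hr
  by_cases hbig : ∀ t ∈ P, f t = t
  · let E : Subfield K := f.eqLocusField (RingHom.id K)
    have hE : ∀ t, t ∈ P ↔ t ∈ E := fun t =>
      ⟨fun h => hbig t h, fun h => hfix (G.X_mem_fixX f (show f t = t from h))⟩
    refine ⟨E, ?_, hE, fun t ht => by rw [hnp]; exact (hE t).2 ht⟩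
    exact Finite.of_injective (fun t : E => (⟨t.1, (hE t.1).2 t.2⟩ : P))
      fun a b h => Subtype.ext (congrArg (fun z : P => (z : K)) h)
  push Not at hbig
  obtain ⟨t0, ht0, hft0⟩ := hbig
  set D0 := H.comap (G.phi (F := K) hr) with hD0
  have hmem : ∀ t, Cfsg.Agent.Lib.Geometry.Dickson.upper t ∈ D0 ↔ t ∈ P := fun t => by
    show G.phi hr (su t) ∈ H ↔ G.X K (sim D i) t ∈ H
    rw [G.phi_su hr]
  have hmemlo : ∀ t, Cfsg.Agent.Lib.Geometry.Dickson.lower t ∈ D0 ↔ t ∈ rootParam G H (ng D (sim D i)) :=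
    fun t => by
      show G.phi hr (sl t) ∈ H ↔ G.X K (ng D (sim D i)) t ∈ H
      rw [G.phi_sl hr]
  have hord : ∀ d ∈ D0, IsOfFinOrder d := by
    intro d hd
    have h1 : (⟨_, hd⟩ : H) ^ Nat.card H = 1 := pow_card_eq_one'
    have h2 : G.phi hr (d ^ Nat.card H) = 1 := by rw [map_pow]; exact congrArg Subtype.val h1
    refine isOfFinOrder_iff_pow_eq_one.2 ⟨Nat.card H * 2, Nat.mul_pos Nat.card_pos two_pos, ?_⟩
    rw [pow_mul, pow_two]
    rcases phi_ker_pos G hr (G.sim_pos hi) h2 with h | h <;> rw [h] <;> simp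
  have hone := rootParam_one G f H hfix
  have hl1 : Cfsg.Agent.Lib.Geometry.Dickson.lower (1 : K) ∈ D0 := (hmemlo 1).2 (hone _)
  have hneg : (-1 : Matrix.SpecialLinearGroup (Fin 2) K) ∈ D0 := by
    have e : (sn * sn : Matrix.SpecialLinearGroup (Fin 2) K) = -1 := by
      refine Subtype.ext ?_
      rw [Matrix.SpecialLinearGroup.coe_mul, sn_val]
      ext a b
      fin_cases a <;> fin_cases b <;>
        simp [Matrix.mul_apply, Fin.sum_univ_two, Matrix.SpecialLinearGroup.coe_neg]
    have hu : (su 1 : Matrix.SpecialLinearGroup (Fin 2) K) ∈ D0 := (hmem 1).2 (hone _)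
    have hs : (sn : Matrix.SpecialLinearGroup (Fin 2) K) ∈ D0 := by
      unfold sn
      refine mul_mem (mul_mem hu ?_) hu
      exact (hmemlo (-1)).2 ((rootParam G H _).neg_mem (hone _))
    rw [← e]
    exact mul_mem hs hs
  let ι : Cfsg.Agent.Lib.Geometry.Dickson.upperParams D0 ≃ P :=
    { toFun := fun z => ⟨z.1, (hmem z.1).1 z.2⟩
      invFun := fun z => ⟨z.1, (hmem z.1).2 z.2⟩
      left_inv := fun _ => rfl
      right_inv := fun _ => rfl }
  haveI : Finite (Cfsg.Agent.Lib.Geometry.Dickson.upperParams D0) := Finite.of_equiv _ ι.symm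
  have hdvd : p ^ 2 ∣ Nat.card P := by
    let F0 : AddSubgroup P :=
      { carrier := {t | f t.1 = t.1}
        add_mem' := fun {x y} hx hy => by
          show f (x.1 + y.1) = x.1 + y.1
          rw [map_add, show f x.1 = x.1 from hx, show f y.1 = y.1 from hy]
        zero_mem' := map_zero f
        neg_mem' := fun {x} hx => by
          show f (-x.1) = -x.1
          rw [map_neg, show f x.1 = x.1 from hx] }
    have hpP : ∀ x : P, p • x = 0 := fun x => Subtype.ext (by
      show p • (x : K) = 0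
      rw [nsmul_eq_mul, CharP.cast_eq_zero, zero_mul])
    have h1 : p ∣ Nat.card F0 := by
      set x1 : F0 := ⟨⟨1, hone _⟩, map_one f⟩
      have ho : addOrderOf x1 = p := addOrderOf_eq_prime (Subtype.ext (hpP _))
        fun h => one_ne_zero (congrArg (fun z : F0 => ((z : P) : K)) h)
      rw [← ho]; exact addOrderOf_dvd_natCard _
    have h2 : p ∣ Nat.card (P ⧸ F0) := by
      set q : P ⧸ F0 := QuotientAddGroup.mk ⟨t0, ht0⟩
      have hq : p • q = 0 := by
        rw [← QuotientAddGroup.mk_nsmul, hpP]; rfl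
      have ho : addOrderOf q = p := addOrderOf_eq_prime hq
        fun h => hft0 ((QuotientAddGroup.eq_zero_iff _).1 h)
      rw [← ho]; exact addOrderOf_dvd_natCard _
    rw [AddSubgroup.card_eq_card_quotient_mul_card_addSubgroup F0, pow_two]
    exact Nat.mul_dvd_mul h2 h1
  obtain ⟨E, hE, -, hu, -⟩ := exists_subfield_params (p := p) hord hneg one_ne_zero hl1
    ((hmem 1).2 (hone _)) (by rw [Nat.card_congr ι]; exact hdvd)
  exact ⟨E, hE, fun t => (hmem t).symm.trans (hu t),
    fun t ht => by rw [hnp]; exact ((hmem t).symm.trans (hu t)).2 ht⟩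

/-- All root parameters form one subfield. -/
theorem common_field (hx : chkExtra D T c = true) (h0 : 0 < D.rank) :
    ∃ E : Subfield K, Finite E ∧ ∀ r < D.nroots, ∀ t, G.X K r t ∈ H ↔ t ∈ E := by
  classical
  choose! E hE hP hN using fun i (hi : i < D.rank) => rootParam_subfield G f H hfix p hi
  have hone := rootParam_one G f H hfix
  have hHg : ∀ i < D.rank, ∀ l ∈ E i, G.Hg K (sim D i) l ∈ H := by
    intro i hi l hl
    have hNg : ∀ t ∈ E i, G.Ng K (sim D i) t ∈ H := fun t ht => by
      rw [Good.Ng]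
      exact mul_mem (mul_mem ((hP i hi t).2 ht)
        (hN i hi _ ((E i).neg_mem ((E i).inv_mem ht)))) ((hP i hi t).2 ht)
    rw [Good.Hg]
    exact mul_mem (hNg l hl) (hNg _ ((E i).neg_mem (E i).one_mem))
  have hpow : ∀ i < D.rank, ∀ j < D.rank, ∀ l ∈ E i, l ≠ 0 → l ^ T.A i (sim D j) ∈ E j := by
    intro i hi j hj l hl h0
    have h := mul_mem (mul_mem (hHg i hi l hl) (hone (sim D j))) (inv_mem (hHg i hi l hl))
    rw [G.Hg_conj_X (G.sim_lt hi) (G.sim_lt hj) h0, G.P_sim hi, mul_one] at h
    exact (hP j hj _).1 h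
  have hneg1 : ∀ i < D.rank, ∀ j < D.rank, T.A i (sim D j) = -1 → E i ≤ E j := by
    intro i hi j hj hA l hl
    by_cases h0 : l = 0
    · rw [h0]; exact (E j).zero_mem
    have := (E j).inv_mem (hpow i hi j hj l hl h0)
    rwa [hA, zpow_neg_one, inv_inv] at this
  have hadj : ∀ i < D.rank, ∀ j < D.rank, i ≠ j → T.A i (sim D j) ≠ 0 → E i ≤ E j := by
    intro i hi j hj hne hA
    rcases adjFacts hx hi hj hne hA with ⟨h, -⟩ | ⟨-, h23, d, hd, hd1, hd2, C, hT, hC⟩
    · exact hneg1 i hi j hj h
    have hr := G.sim_lt hi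
    have hdlt : d < D.nroots := by
      rcases hd with rfl | rfl
      · exact G.w_lt hj hr
      · exact G.w_lt hi (G.w_lt hj hr)
    have hdP : rootParam G H d = rootParam G H (sim D i) := by
      rcases hd with rfl | rfl
      · exact rootParam_w G f H hfix hj hr
      · rw [rootParam_w G f H hfix hi (G.w_lt hj hr), rootParam_w G f H hfix hj hr]
    set e := (T.A i (sim D j)).natAbs with he
    by_cases hC0 : (C : K) = 0
    · -- the exponent is the characteristic
      have he0 : (e : K) = 0 := by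
        rcases Int.natAbs_eq C with h | h
        · rw [h, hC] at hC0; simpa using hC0
        · rw [h, hC] at hC0; simpa using hC0
      have hep : e = p := by
        have hd' := (CharP.cast_eq_zero_iff K p e).mp he0
        have hprime : e.Prime := by rcases h23 with h | h <;> rw [h] <;> norm_num
        exact ((Nat.prime_dvd_prime_iff_eq Fact.out hprime).mp hd').symm
      intro x hx'
      haveI := hE i hi
      have hinj : Function.Injective (fun l : E i => (⟨(l : K) ^ p, (E i).pow_mem l.2 p⟩ : E i)) := by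
        intro a b h
        have h' : (a : K) ^ p = (b : K) ^ p := congrArg Subtype.val h
        exact Subtype.ext (frobenius_inj K p h')
      obtain ⟨⟨l, hl⟩, hlx⟩ := Finite.surjective_of_injective hinj ⟨x, hx'⟩
      have hlx' : l ^ p = x := congrArg Subtype.val hlx
      rw [← hlx']
      by_cases h0 : l = 0
      · rw [h0, zero_pow (Fact.out : p.Prime).ne_zero]; exact (E j).zero_mem
      have h1 := hpow i hi j hj l hl h0
      rcases Int.natAbs_eq (T.A i (sim D j)) with h | h
      · rw [h, ← he, hep, zpow_natCast] at h1; exact h1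
      · rw [h, ← he, hep, zpow_neg, zpow_natCast] at h1
        have := (E j).inv_mem h1
        rwa [inv_inv] at this
    · intro x hx'
      have hc := G.commAt (F := K) (sim D i) d hr hdlt hd1 hd2 x 1
      have hw : G.wordG (Good.cw T (sim D i) d x 1) = G.X K (T.w i (sim D j)) ((C : K) * -x) := by
        simp [Good.cw, hT, Good.wordG]
      rw [hw] at hc
      have hd1' : G.X K d 1 ∈ H := hone d
      have hxH : G.X K (sim D i) x ∈ H := (hP i hi x).2 hx'
      have hm : G.X K (T.w i (sim D j)) ((C : K) * -x) ∈ H := by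
        have := mul_mem (inv_mem (mul_mem hxH hd1')) (mul_mem hd1' hxH)
        rwa [hc, inv_mul_cancel_left] at this
      have hm' : (C : K) * -x ∈ E j := (hP j hj _).1 (by
        rw [← rootParam_w G f H hfix hi (G.sim_lt hj)]; exact hm)
      have hCE : (C : K) ∈ E j := intCast_mem (E j) C
      have := (E j).neg_mem ((E j).mul_mem ((E j).inv_mem hCE) hm')
      rwa [← mul_assoc, inv_mul_cancel₀ hC0, one_mul, neg_neg] at this
  have hsymm : ∀ i < D.rank, ∀ j < D.rank, T.A i (sim D j) ≠ 0 → T.A j (sim D i) ≠ 0 := by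
    intro i hi j hj hA
    by_cases hne : i = j
    · subst hne; exact hA
    rcases adjFacts hx hi hj hne hA with ⟨-, h⟩ | ⟨h, -⟩
    · exact h
    · rw [h]; norm_num
  have hall : ∀ i < D.rank, E i = E 0 := by
    refine connected hx (C := fun i => E i = E 0) rfl fun i hi j hj hA he => ?_
    by_cases hne : i = j
    · subst hne; exact he
    exact (le_antisymm (hadj i hi j hj hne hA) (hadj j hj i hi (Ne.symm hne) (hsymm i hi j hj hA))).trans he
  refine ⟨E 0, hE 0 h0, fun r hr t => ?_⟩
  have key : ∀ r < D.nroots, ∀ t, t ∈ rootParam G H r ↔ t ∈ E 0 := by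
    refine G.root_induction (fun i hi t => ?_) fun i r hi hr ih t => ?_
    · rw [← hall i hi]; exact hP i hi t
    · rw [rootParam_w G f H hfix hi hr]; exact ih t
  exact key r hr t

end Cfsg.Agent.Lib.Chev
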