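import Cfsg.Agent.Lib.Chev.Over.Fixed
import Cfsg.Agent.Lib.Chev.Over.Params

/-!
Finite groups between a subfield group and the whole group.
-/

set_option autoImplicit false
set_option linter.unusedSectionVars false

namespace Cfsg.Agent.Lib.Chev

open Cfsg.Lie

variable {D : ChevalleyDatum} {K : Type*} [Field K]

/-- A finite overgroup of a subfield group: its root parameters form a finite subfield, and the
group is fixed by every endomorphism with exactly that fixed field. -/
theorem overgroup_field (hD : D ∈ [chevG2, chevB2, chevD4, chevF4, chevE6, chevE7, chevE8])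
    (p : ℕ) [Fact p.Prime] [CharP K p] (f : K →+* K) (H : Subgroup (GL D.Idx K)) [Finite H]
    (hHG : H ≤ D.group K) (hfix : Good.fixX (D := D) K f ≤ H) :
    ∃ E : Subfield K, Finite E ∧ (∀ x, f x = x → x ∈ E) ∧
      (∀ (s : ℕ) (t : K), t ∈ E → ∀ g : GL D.Idx K, (g : Matrix D.Idx D.Idx K) = D.x K s t → g ∈ H) ∧
      (E = ⊤ → H = D.group K) ∧
      ∀ f' : K →+* K, (∀ x, f' x = x ↔ x ∈ E) → ∀ g ∈ H, gmap f' g = g := by
  obtain ⟨T, c, G, hc, hx⟩ := exists_good_over_extra hD
  have O := overFacts hc
  obtain ⟨E, hE, hP⟩ := common_field G f H hfix p hx (by have := O.a0; omega)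
  refine ⟨E, hE, fun x hx' => (hP _ O.R_lt x).1 (hfix (G.X_mem_fixX f hx')), fun s t ht g hg => ?_,
    fun hE' => le_antisymm hHG (G.group_le_of fun r hr t => (hP r hr t).2 (hE' ▸ Subfield.mem_top t)),
    fun f' hf' g hg => ?_⟩
  · rw [G.eq_X_of_val hg]
    by_cases hs : s < D.nroots
    · exact (hP s hs t).2 ht
    · have : G.X K s t = 1 := Units.ext (by simp [ChevalleyDatum.x, hs])
      rw [this]; exact one_mem _
  have S : OverH G f' H :=
    { le := hHG
      fix_le := by
        refine (Subgroup.closure_le _).2 ?_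
        rintro z ⟨s, t, ht, e⟩
        rw [SetLike.mem_coe, G.eq_X_of_val e]
        by_cases hs : s < D.nroots
        · exact (hP s hs t).2 ((hf' t).1 ht)
        · have : G.X K s t = 1 := Units.ext (by simp [ChevalleyDatum.x, hs])
          rw [this]; exact one_mem _
      par := fun r hr t ht => (hf' t).2 ((hP r hr t).1 ht) }
  haveI := hE
  have hF : {x : K | f' x = x}.Finite := by
    refine (Set.toFinite (E : Set K)).subset ?_
    intro x hx'
    exact (hf' x).1 hx'
  exact S.all_fixed O (p := p) hx hF hg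

/-- An element outside the fixed points of an endomorphism. -/
theorem exists_root_notFixed (hD : D ∈ [chevG2, chevB2, chevD4, chevF4, chevE6, chevE7, chevE8])
    (f : K →+* K) {t : K} (ht : f t ≠ t) :
    ∃ g ∈ D.group K, ¬ ∀ i j, f ((g : Matrix D.Idx D.Idx K) i j) = (g : Matrix D.Idx D.Idx K) i j := by
  obtain ⟨T, c, G, hc, -⟩ := exists_good_over_extra hD
  have hR := (overFacts hc).R_lt
  refine ⟨G.X K (topR D) t, G.X_mem_group hR t, fun h => ht (G.X_injective hR ?_)⟩
  rw [← G.gmap_X, (gmap_eq_iff f _).2 h]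

/-- The fixed field of a power map in an algebraically closed field. -/
theorem card_fix_closed [IsAlgClosed K] (p n : ℕ) [Fact p.Prime] [CharP K p] (hn : 0 < n) :
    Nat.card {x : K // x ^ (p ^ n) = x} = p ^ n := by
  classical
  have hq : 1 < p ^ n := Nat.one_lt_pow hn.ne' (Fact.out : p.Prime).one_lt
  set P : Polynomial K := Polynomial.X ^ p ^ n - Polynomial.X
  have hP0 : P ≠ 0 := FiniteField.X_pow_card_sub_X_ne_zero K hq
  have hsep : P.Separable := galois_poly_separable p (p ^ n) (dvd_pow_self p hn.ne')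
  have h := Polynomial.card_rootSet_eq_natDegree (K := K) hsep (IsAlgClosed.splits _)
  rw [FiniteField.X_pow_card_sub_X_natDegree_eq K hq, ← Nat.card_eq_fintype_card] at h
  refine (Nat.card_congr (Equiv.subtypeEquivRight fun x => ?_)).trans h
  rw [Polynomial.mem_rootSet_of_ne hP0]
  simp [P, sub_eq_zero]

/-- No field strictly between, for a prime degree. -/
theorem subfield_eq_top_of_prime_degree [Finite K] (F₀ E : Subfield K) {r : ℕ} (hr : r.Prime)
    (hcard : Nat.card K = Nat.card F₀ ^ r) (hle : F₀ ≤ E) (hne : F₀ ≠ E) : E = ⊤ := by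
  letI : Algebra F₀ E := (Subfield.inclusion hle).toAlgebra
  have hS : Nat.card E = Nat.card F₀ ^ Module.finrank F₀ E := Module.natCard_eq_pow_finrank
  have hF : Nat.card K = Nat.card E ^ Module.finrank E K := Module.natCard_eq_pow_finrank
  have h2 : 2 ≤ Nat.card F₀ := Finite.one_lt_card
  rw [hF, hS, ← pow_mul] at hcard
  rcases hr.eq_one_or_self_of_dvd _ (Dvd.intro _ (Nat.pow_right_injective h2 hcard)) with h | h
  · exfalso
    rw [h, pow_one] at hS
    exact hne (SetLike.coe_injective (Set.eq_of_subset_of_ncard_le hle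
      (by rw [← Nat.card_coe_set_eq, ← Nat.card_coe_set_eq]; exact hS.le) (Set.toFinite _)))
  · have h1 := Nat.pow_right_injective h2 hcard
    rw [h] at h1
    have h3 : Module.finrank E K = 1 := by
      have := hr.pos
      exact (Nat.mul_eq_left (by omega)).mp h1
    rw [h3, pow_one] at hF
    refine SetLike.coe_injective ?_
    rw [Subfield.coe_top]
    exact Set.eq_of_subset_of_ncard_le (Set.subset_univ _)
      (by rw [Set.ncard_univ, ← Nat.card_coe_set_eq]; exact hF.le) (Set.toFinite _)

end Cfsg.Agent.Lib.Chev
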