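import Cfsg.Agent.Lib.Chev.Over.TwoA

/-!
The overgroup consists of fixed elements.
-/

set_option autoImplicit false
set_option linter.unusedSectionVars false

namespace Cfsg.Agent.Lib.Chev

open Cfsg.Lie

variable {D : ChevalleyDatum} {T : Tables} {c : OCfg} {K : Type*} [Field K] {G : Good D T}
  {f : K →+* K} {H : Subgroup (GL D.Idx K)}

theorem mul_fix_cancel (f : K →+* K) {k x : K} (hk : f k = k) (hk0 : k ≠ 0) (h : f (k * x) = k * x) :
    f x = x := by
  rw [map_mul, hk] at h
  exact mul_left_cancel₀ hk0 h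

namespace OverH

variable (S : OverH G f H) (O : OverFacts D T c) {b : ℕ} (hb : PairFacts D T c b)
include S O hb

/-- Points of the lowest kind in the group are fixed, in the hard case. -/
theorem twoA_fixed (ha2 : c.a2 = true) (h2 : (2 : K) = 0) [Finite H] (hF : {x : K | f x = x}.Finite)
    {v : GL D.Idx K} (hv : v ∈ G.USub K (flipSet D T c.lR)) {C : K} (hC : C ≠ 0)
    (hy : ∀ k, f k = k → v * G.X K (ng D (topR D)) (k * C) * v⁻¹ ∈ H) :
    gmap f (v * G.X K (ng D (topR D)) C * v⁻¹) = v * G.X K (ng D (topR D)) C * v⁻¹ := by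
  haveI hc2 : CharP K 2 := CharTwo.of_one_ne_zero_of_two_eq_zero one_ne_zero h2
  have hR := O.R_lt
  have hRp := O.R_pos G
  have ha := G.sim_lt O.a0
  have hap := G.sim_pos O.a0
  obtain ⟨N, hN, hNabs⟩ := hb.pair
  rw [if_pos ha2] at hNabs
  have hN1 := natAbs_one_cast_two hNabs h2
  have hy1 : v * G.X K (ng D (topR D)) C * v⁻¹ ∈ H := by simpa using hy 1 (map_one f)
  obtain ⟨t, u, hu, rfl⟩ := O.split_alpha G hb hv
  by_cases ht : f t = t
  · exact S.route_a O hb ha2 hu ht hy1
  obtain ⟨E, hE, hCE, hmem, hcard⟩ := S.field_of_coord O hb ha2 h2 hF hu ht hC rfl hy1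
  -- normalise so that `t C` is not fixed
  suffices main : ∀ (v : GL D.Idx K) (t : K) (u : GL D.Idx K), u ∈ G.USub K (flipRest D T c) →
      v = u * G.X K (sim D c.a0) t → f t ≠ t → f (t * C) ≠ t * C →
      (∀ k, f k = k → v * G.X K (ng D (topR D)) (k * C) * v⁻¹ ∈ H) →
      gmap f (v * G.X K (ng D (topR D)) C * v⁻¹) = v * G.X K (ng D (topR D)) C * v⁻¹ by
    by_cases htC : f (t * C) = t * C
    · set A := G.X K (sim D c.a0) (1 : K) with hA
      have hAf : gmap f A = A := gmap_X_fix (G := G) (map_one f)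
      have e : A * (u * G.X K (sim D c.a0) t) = (A * u * A⁻¹) * G.X K (sim D c.a0) (1 + t) := by
        rw [← G.X_add, hA]; group
      have hm := main (A * (u * G.X K (sim D c.a0) t)) (1 + t) (A * u * A⁻¹)
        (O.rest_normal G hb hu) e
        (fun h => ht (by rw [map_add, map_one, add_right_inj] at h; exact h))
        (fun h => by
          rw [add_mul, one_mul, map_add, htC, add_left_inj] at h
          exact ht (mul_fix_cancel f h hC (by rw [mul_comm]; exact htC)))
        (fun k hk => by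
          have := mul_mem (mul_mem (S.mem_X_one (G := G) (sim D c.a0)) (hy k hk))
            (inv_mem (S.mem_X_one (G := G) (sim D c.a0)))
          rw [show A * (u * G.X K (sim D c.a0) t) * G.X K (ng D (topR D)) (k * C) *
            (A * (u * G.X K (sim D c.a0) t))⁻¹ = A * (u * G.X K (sim D c.a0) t *
              G.X K (ng D (topR D)) (k * C) * (u * G.X K (sim D c.a0) t)⁻¹) * A⁻¹ by group]
          exact this)
      rw [show A * (u * G.X K (sim D c.a0) t) * G.X K (ng D (topR D)) C *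
        (A * (u * G.X K (sim D c.a0) t))⁻¹ = A * (u * G.X K (sim D c.a0) t *
          G.X K (ng D (topR D)) C * (u * G.X K (sim D c.a0) t)⁻¹) * A⁻¹ by group,
        map_mul, map_mul, map_inv, hAf, mul_left_inj, mul_right_inj] at hm
      exact hm
    · exact main _ t u hu rfl ht htC hy
  clear hu hy hy1 hv hE hCE hmem hcard E ht u t
  intro v t u hu hv ht htC hy
  have hy1 : v * G.X K (ng D (topR D)) C * v⁻¹ ∈ H := by simpa using hy 1 (map_one f)
  obtain ⟨E, hE, hCE, hmem, hcard⟩ := S.field_of_coord O hb ha2 h2 hF hu ht hC hv hy1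
  have hvf : v ∈ G.USub K (flipSet D T c.lR) := by
    rw [hv]
    exact mul_mem (O.rest_le_flip G hb hu)
      (G.X_mem_USub (S := flipSet D T c.lR) ha hap O.a0_flip t)
  have hvp := G.USub_le_pos _ hvf
  -- the partner coordinate
  set N0 := G.nl K c.n0
  have hN0 : N0 ∈ Good.fixX (D := D) K f := G.nl_mem_fixX f O.n0
  set v0 := N0⁻¹ * v * N0 with hv0
  have hv0f : v0 ∈ G.USub K (flipSet D T c.lR) := O.flip_conj_nl G hb O.n0 O.n0_top hvf
  obtain ⟨t0, u0, hu0, hv0e⟩ := O.split_alpha G hb hv0f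
  have hel : ∀ r, ((el T c.n0 r : ℤ) : K) = 1 := fun r => natAbs_one_cast_two
    (by rcases el_eq_or (T := T) c.n0 r with h | h <;> simp [h]) h2
  have hNX : ∀ r < D.nroots, ∀ x : K, N0 * G.X K r x * N0⁻¹ = G.X K (wl T c.n0 r) x := by
    intro r hr x; rw [G.nl_conj_X O.n0 hr, hel, one_mul]
  have hNlow : ∀ x : K, N0⁻¹ * G.X K (ng D (topR D)) x * N0 = G.X K (ng D (topR D)) x := by
    intro x
    have h := hNX (ng D (topR D)) (G.ng_lt hR) x
    rw [G.wl_ng O.n0 hR, O.n0_top] at h
    conv_lhs => rw [← h]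
    group
  have hw0 : ∀ x, N0⁻¹ * (v * G.X K (ng D (topR D)) x * v⁻¹) * N0 =
      v0 * G.X K (ng D (topR D)) x * v0⁻¹ := by
    intro x
    conv_rhs => rw [← hNlow x]
    rw [hv0]; group
  have hy0 : v0 * G.X K (ng D (topR D)) C * v0⁻¹ ∈ H := by
    rw [← hw0]
    exact mul_mem (mul_mem (inv_mem (S.fix_le hN0)) hy1) (S.fix_le hN0)
  by_cases ht0 : f t0 = t0
  · have h := S.route_a O hb ha2 hu0 ht0 (hv0e ▸ hy0)
    rw [← hv0e, ← hw0, map_mul, map_mul, map_inv, G.fixX_fixed f hN0, mul_left_inj, mul_right_inj] at h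
    exact h
  obtain ⟨E0, hE0, -, hmem0, hcard0⟩ := S.field_of_coord O hb ha2 h2 hF hu0 ht0 hC hv0e hy0
  have hEE : E0 = E := subfield_eq_of_card (hcard0.trans hcard.symm)
  have ht0E : t0 ∈ E := hEE ▸ (hmem0 t0).2 ⟨0, 1, map_zero f, map_one f, by ring⟩
  obtain ⟨b0, b1, hb0, hb1, et0⟩ := (hmem t0).1 ht0E
  have htE : t ∈ E := (hmem t).2 ⟨0, 1, map_zero f, map_one f, by ring⟩
  have htC0 : t * C ≠ 0 := fun h => htC (by rw [h, map_zero])
  obtain ⟨s0, s1, hs0, hs1, es⟩ := (hmem (t * C)⁻¹).1 (E.inv_mem (E.mul_mem htE hCE))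
  have hs1n : s1 ≠ 0 := by
    intro h
    subst h
    rw [mul_zero, add_zero] at es
    apply htC
    rw [← inv_inv (t * C), es, map_inv₀, hs0]
  have hb1n : b1 ≠ 0 := by
    intro h
    subst h
    rw [mul_zero, add_zero] at et0
    exact ht0 (et0 ▸ hb0)
  set k := s1 / b1 with hk
  have hkf : f k = k := by rw [hk, map_div₀, hs1, hb1]
  have hk0 : k ≠ 0 := div_ne_zero hs1n hb1n
  set C' := k * C with hC'
  have hC'0 : C' ≠ 0 := mul_ne_zero hk0 hC
  have ht00 : t ≠ 0 := left_ne_zero_of_mul htC0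
  set e := C'⁻¹ with he
  set sv := (t * C')⁻¹ with hsv
  set a' := t * C' * C' with ha'
  set yk := v * G.X K (ng D (topR D)) C' * v⁻¹ with hyk
  have hykH : yk ∈ H := hy k hkf
  set w := yk * G.X K b 1 * yk⁻¹ with hw
  have hwH : w ∈ H := mul_mem (mul_mem hykH (S.mem_X_one b)) (inv_mem hykH)
  have hco := O.coef_of_split G hb hN (t := t) hu
  rw [← hv, hN1, one_mul] at hco
  set v' := v * G.X K b sv * G.X K (topR D) e with hv'
  -- the rewriting of the new element
  have hwe : w = v' * G.X K (ng D (topR D)) a' * v'⁻¹ := by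
    have hrep := S.vv_rep O hb ha2 h2
    have h1 : v⁻¹ * G.X K b 1 * v = G.X K b 1 * G.X K (topR D) t := by rw [hco 1, one_mul]
    have hbV : ∀ x : K, G.X K b x = vv G c b x 0 := fun x => by simp [vv, G.X_zero]
    have hL : G.X K (ng D (topR D)) C' = G.phi O.R_lt (sl C') := (G.phi_sl hR C').symm
    have hRt : ∀ x, G.X K (topR D) x = G.phi O.R_lt (su x) := fun x => (G.phi_su hR x).symm
    have eq1 : G.X K (ng D (topR D)) C' * (G.X K b 1 * G.X K (topR D) t) *
        (G.X K (ng D (topR D)) C')⁻¹ = vv G c b 1 C' * G.phi O.R_lt (sl C' * su t * (sl C')⁻¹) := by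
      rw [hL, hRt, hbV, map_mul, map_mul, map_inv]
      calc G.phi O.R_lt (sl C') * (vv G c b 1 0 * G.phi O.R_lt (su t)) * (G.phi O.R_lt (sl C'))⁻¹
          = (G.phi O.R_lt (sl C') * vv G c b 1 0 * (G.phi O.R_lt (sl C'))⁻¹) *
            (G.phi O.R_lt (sl C') * G.phi O.R_lt (su t) * (G.phi O.R_lt (sl C'))⁻¹) := by group
        _ = _ := by rw [hrep]; simp [sl]
    have hm : sl C' * su t * (sl C')⁻¹ = su e * sl a' * su e := by
      have hi : (sl C')⁻¹ = sl C' := inv_eq_of_mul_eq_one_right (by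
        rw [sl_add, CharTwo.add_self_eq_zero]
        refine Subtype.ext ?_
        simp [sl, Matrix.one_fin_two])
      rw [hi]
      refine Subtype.ext ?_
      simp only [Matrix.SpecialLinearGroup.coe_mul]
      ext i j
      fin_cases i <;> fin_cases j <;>
        simp [su, sl, Matrix.mul_apply, Fin.sum_univ_two, he, ha'] <;> field_simp <;>
        first | ring1 | linear_combination (0 : K) * h2 | linear_combination h2 | linear_combination -h2 |
          linear_combination C' * h2 | linear_combination (t * C') * h2 | linear_combination -(t * C') * h2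
    have eq2 : G.X K b sv * G.X K (topR D) e * G.X K (ng D (topR D)) a' *
        (G.X K b sv * G.X K (topR D) e)⁻¹ = vv G c b 1 C' * G.phi O.R_lt (su e * sl a' * su e) := by
      have hi : (G.X K (topR D) e)⁻¹ = G.phi O.R_lt (su e) := by
        rw [G.X_inv, CharTwo.neg_eq, hRt]
      have hib : (G.X K b sv)⁻¹ = vv G c b sv 0 := by rw [G.X_inv, CharTwo.neg_eq, hbV]
      rw [mul_inv_rev, hi, hib, hbV, hRt, show G.X K (ng D (topR D)) a' = G.phi O.R_lt (sl a') from
        (G.phi_sl hR a').symm]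
      calc vv G c b sv 0 * G.phi O.R_lt (su e) * G.phi O.R_lt (sl a') *
            (G.phi O.R_lt (su e) * vv G c b sv 0)
          = vv G c b sv 0 * (G.phi O.R_lt (su e * sl a' * su e) * vv G c b sv 0 *
              (G.phi O.R_lt (su e * sl a' * su e))⁻¹) * G.phi O.R_lt (su e * sl a' * su e) := by
            rw [map_mul, map_mul]; group
        _ = _ := by
            rw [hrep, S.vv_add O hb ha2 h2]
            have h00 : ((su e * sl a' * su e : Matrix.SpecialLinearGroup (Fin 2) K) :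
                Matrix (Fin 2) (Fin 2) K) 0 0 = 1 + e * a' := by
              simp only [Matrix.SpecialLinearGroup.coe_mul]
              simp [su, sl, Matrix.mul_apply, Fin.sum_univ_two]
            have h10 : ((su e * sl a' * su e : Matrix.SpecialLinearGroup (Fin 2) K) :
                Matrix (Fin 2) (Fin 2) K) 1 0 = a' := by
              simp only [Matrix.SpecialLinearGroup.coe_mul]
              simp [su, sl, Matrix.mul_apply, Fin.sum_univ_two]
            rw [h00, h10, mul_zero, add_zero, mul_zero, add_zero, zero_add]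
            congr 2 <;> rw [hsv, ha'] <;> (try rw [he]) <;> field_simp <;>
              first | ring1 | linear_combination h2
    calc w = v * (G.X K (ng D (topR D)) C' * (v⁻¹ * G.X K b 1 * v) * (G.X K (ng D (topR D)) C')⁻¹) *
          v⁻¹ := by rw [hw, hyk]; group
      _ = v * (vv G c b 1 C' * G.phi O.R_lt (su e * sl a' * su e)) * v⁻¹ := by rw [h1, eq1, hm]
      _ = _ := by rw [← eq2, hv']; group
  -- move it by the Weyl element
  have hv'f : v' ∈ G.USub K (flipSet D T c.lR) :=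
    mul_mem (mul_mem hvf (G.X_mem_USub (S := flipSet D T c.lR) hb.b_lt hb.b_pos hb.b_flip sv))
      (G.X_mem_USub (S := flipSet D T c.lR) hR hRp (O.R_flip G) e)
  set v'' := N0⁻¹ * v' * N0 with hv''
  obtain ⟨t2, u2, hu2, hv2e⟩ := O.split_alpha G hb (O.flip_conj_nl G hb O.n0 O.n0_top hv'f)
  rw [← hv''] at hv2e
  have hco0 := O.coef_of_split G hb hN (t := t0) hu0
  rw [← hv0e, hN1, one_mul] at hco0
  have hco2 := O.coef_of_split G hb hN (t := t2) hu2
  rw [← hv2e, hN1, one_mul] at hco2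
  -- the coordinate at the fundamental root
  have hA : ∀ j : K, v⁻¹ * G.X K (sim D c.a0) j * v = G.X K (sim D c.a0) j * G.X K (topR D) (j * t0) := by
    intro j
    have e1 := congrArg (fun z => N0 * z * N0⁻¹) (hco0 j)
    rw [show N0 * (v0⁻¹ * G.X K b j * v0) * N0⁻¹ = v⁻¹ * (N0 * G.X K b j * N0⁻¹) * v by rw [hv0]; group,
      show N0 * (G.X K b j * G.X K (topR D) (j * t0)) * N0⁻¹ = (N0 * G.X K b j * N0⁻¹) *
        (N0 * G.X K (topR D) (j * t0) * N0⁻¹) by group, hNX b hb.b_lt, hNX _ hR, hb.n0_b, O.n0_top] at e1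
    exact e1
  have hA' : ∀ j : K, v'⁻¹ * G.X K (sim D c.a0) j * v' =
      G.X K (sim D c.a0) j * G.X K (topR D) (j * (t0 + sv)) := by
    intro j
    have hu1 : Coef G (1 * G.X K (sim D c.a0) j) b ((N : K) * j) :=
      O.coef_of_split G hb hN (one_mem _)
    have e2 := hu1 sv
    rw [hN1, one_mul, one_mul] at e2
    have hRA := (O.commute_top G (G.X_mem_posUnipotent ha hap j) (j * t0 + sv * j))
    have hRe := (O.commute_top G (mul_mem (G.X_mem_posUnipotent ha hap j)
      (G.X_mem_posUnipotent hR hRp (j * t0 + sv * j))) e).eq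
    have hib : (G.X K b sv)⁻¹ = G.X K b sv := by rw [G.X_inv, CharTwo.neg_eq]
    have e3 : (G.X K b sv)⁻¹ * G.X K (sim D c.a0) j * G.X K b sv =
        G.X K (sim D c.a0) j * G.X K (topR D) (sv * j) := by
      have e4 : G.X K b sv * G.X K (sim D c.a0) j =
          G.X K (sim D c.a0) j * (G.X K b sv * G.X K (topR D) (sv * j)) := by
        rw [← e2]; group
      rw [hib, e4]
      have hb2 : Commute (G.X K (topR D) (sv * j)) (G.X K b sv) :=
        (O.commute_top G (G.X_mem_posUnipotent hb.b_lt hb.b_pos sv) (sv * j)).symm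
      calc G.X K (sim D c.a0) j * (G.X K b sv * G.X K (topR D) (sv * j)) * G.X K b sv
          = G.X K (sim D c.a0) j * (G.X K b sv * G.X K b sv) * G.X K (topR D) (sv * j) := by
            rw [mul_assoc, mul_assoc, hb2.eq]; group
        _ = _ := by rw [G.X_add, CharTwo.add_self_eq_zero, G.X_zero, mul_one]
    have hbR := (O.commute_top G (G.X_mem_posUnipotent hb.b_lt hb.b_pos sv) (j * t0)).eq
    calc v'⁻¹ * G.X K (sim D c.a0) j * v'
        = (G.X K (topR D) e)⁻¹ * ((G.X K b sv)⁻¹ * (v⁻¹ * G.X K (sim D c.a0) j * v) * G.X K b sv) *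
            G.X K (topR D) e := by rw [hv']; group
      _ = (G.X K (topR D) e)⁻¹ * ((G.X K b sv)⁻¹ * G.X K (sim D c.a0) j *
            (G.X K b sv * G.X K (topR D) (j * t0))) * G.X K (topR D) e := by rw [hA, hbR]; group
      _ = (G.X K (topR D) e)⁻¹ * (G.X K (sim D c.a0) j * G.X K (topR D) (j * t0 + sv * j)) *
            G.X K (topR D) e := by
          rw [← mul_assoc ((G.X K b sv)⁻¹ * G.X K (sim D c.a0) j), e3, mul_assoc (G.X K (sim D c.a0) j),
            G.X_add, add_comm (sv * j)]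
      _ = _ := by
          rw [mul_assoc, hRe, inv_mul_cancel_left]
          congr 2
          ring
  have ht2e : t2 = t0 + sv := by
    refine OverFacts.coef_unique G hR hco2 ?_
    intro j
    have e1 := congrArg (fun z => N0⁻¹ * z * N0) (hA' j)
    have hNA : N0⁻¹ * G.X K (sim D c.a0) j * N0 = G.X K b j := by
      rw [← hb.n0_b, ← hNX b hb.b_lt]; group
    have hNR : ∀ x, N0⁻¹ * G.X K (topR D) x * N0 = G.X K (topR D) x := by
      intro x
      conv_lhs => rw [← O.n0_top, ← hNX _ hR]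
      group
    rw [show N0⁻¹ * (v'⁻¹ * G.X K (sim D c.a0) j * v') * N0 =
      v''⁻¹ * (N0⁻¹ * G.X K (sim D c.a0) j * N0) * v'' by rw [hv'']; group,
      show N0⁻¹ * (G.X K (sim D c.a0) j * G.X K (topR D) (j * (t0 + sv))) * N0 =
        (N0⁻¹ * G.X K (sim D c.a0) j * N0) * (N0⁻¹ * G.X K (topR D) (j * (t0 + sv)) * N0) by group,
      hNA, hNR] at e1
    exact e1
  have ht2f : f t2 = t2 := by
    have e3 : t2 = b0 + s0 / k := by
      have esv : sv = (s0 + t * s1) / k := by
        rw [← es, hsv, hC']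
        field_simp
      rw [ht2e, et0, esv, hk]
      field_simp
      linear_combination (t * s1 * b1) * h2
    rw [e3, map_add, map_div₀, hb0, hs0, hkf]
  have hw2 : N0⁻¹ * w * N0 = v'' * G.X K (ng D (topR D)) a' * v''⁻¹ := by
    rw [hwe]
    conv_rhs => rw [← hNlow a']
    rw [hv'']; group
  have hw2H : v'' * G.X K (ng D (topR D)) a' * v''⁻¹ ∈ H := by
    rw [← hw2]; exact mul_mem (mul_mem (inv_mem (S.fix_le hN0)) hwH) (S.fix_le hN0)
  have hw2f := S.route_a O hb ha2 hu2 ht2f (hv2e ▸ hw2H)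
  rw [← hv2e, ← hw2, map_mul, map_mul, map_inv, G.fixX_fixed f hN0, mul_left_inj, mul_right_inj] at hw2f
  obtain ⟨hwb, -⟩ := hb.typeA ha2
  have hbX : G.X K b 1 = G.ni K c.a0 * G.X K (topR D) (T.eta c.a0 (topR D) : K) * (G.ni K c.a0)⁻¹ := by
    rw [G.ni_conj_X O.a0 hR, show T.w c.a0 (topR D) = b by rw [← hwb, G.w_w O.a0 hb.b_lt],
      ← Int.cast_mul, Tables.eta_mul_self, Int.cast_one]
  have hni : G.ni K c.a0 ∈ Good.fixX (D := D) K f := by
    rw [← G.nl_single]; exact G.nl_mem_fixX f (isW_single O.a0)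
  have hykf := S.fix_of_root_conj O hykH hni (T.eta_eq_or c.a0 (topR D)) (by rw [← hbX]; exact hw2f)
  rw [hyk, map_mul, map_mul, map_inv, G.gmap_X] at hykf
  obtain ⟨e1, e2⟩ := O.low_unique G (G.gmap_USub f hvf) hvf ((map_ne_zero f).2 hC'0) hC'0 hykf
  rw [map_mul, map_mul, map_inv, e1, G.gmap_X, mul_fix_cancel f hkf hk0 e2]

omit hb in
/-- A finite group with no further root elements consists of fixed elements. -/
theorem all_fixed {p : ℕ} [Fact p.Prime] [CharP K p] (hx : chkExtra D T c = true) [Finite H] (hF : {x : K | f x = x}.Finite)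
    {g : GL D.Idx K} (hg : g ∈ H) : gmap f g = g := by
  obtain ⟨b, hb⟩ := O.pair
  have hR := O.R_lt
  obtain ⟨m, hm, v, hv, C, hC, e⟩ := O.descend_top G f (S.le hg) (one_ne_zero (α := K))
  set g' := m * g with hg'
  have hg'H : g' ∈ H := mul_mem (S.fix_le hm) hg
  have e' : g' * G.X K (topR D) 1 * g'⁻¹ = v * G.X K (ng D (topR D)) C * v⁻¹ := by
    rw [hg', ← e]; group
  -- the whole one parameter group follows
  have hlin : ∀ k : K, g' * G.X K (topR D) k * g'⁻¹ = v * G.X K (ng D (topR D)) (k * C) * v⁻¹ := by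
    set n := G.nl K c.lR
    obtain ⟨y, hy⟩ : ∃ y, n⁻¹ * G.X K (ng D (topR D)) C * n = G.X K (topR D) y := by
      obtain ⟨y, hy⟩ := G.act_inv_X (G.rep_nl O.lR) (G.ng_lt hR) C
      exact ⟨y, by rw [hy, ← O.lR_top, G.wl_reverse_wl O.lR hR]⟩
    have hn : n ∈ D.group K := G.monomial_le_group (G.nl_mem_monomial (F := K) O.lR)
    have hw1 : (v * n)⁻¹ * g' * G.X K (topR D) 1 * ((v * n)⁻¹ * g')⁻¹ = G.X K (topR D) y := by
      rw [show (v * n)⁻¹ * g' * G.X K (topR D) 1 * ((v * n)⁻¹ * g')⁻¹ =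
        n⁻¹ * (v⁻¹ * (g' * G.X K (topR D) 1 * g'⁻¹) * v) * n by group, e', ← hy]
      group
    have hwG : (v * n)⁻¹ * g' ∈ D.group K :=
      mul_mem (inv_mem (mul_mem (G.borel_le_group (Subgroup.mem_sup_left (G.USub_le_pos _ hv))) hn)) (S.le hg'H)
    obtain ⟨bb, hbb, nn, l, hl, uu, huu, hwe⟩ := G.exists_normal_form hwG
    obtain ⟨hlt, d, hd, ed⟩ := G.rep_act hl _ hR
    obtain ⟨z, hz, ez⟩ := O.borel_top G (inv_mem hbb)
    have hlR' : wl T l (topR D) = topR D := by
      refine G.X_root_inj hlt hR (t := d * 1) (u := z * y) (by simpa using hd) ?_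
      rw [← ed, ← ez, ← hw1, hwe, inv_inv, mul_assoc _ uu (G.X K (topR D) 1),
        (O.commute_top G (G.USub_le_pos _ huu) 1).eq]
      group
    obtain ⟨z', hz', ez'⟩ := O.borel_top G hbb
    have hall : ∀ k, (v * n)⁻¹ * g' * G.X K (topR D) k * ((v * n)⁻¹ * g')⁻¹ =
        G.X K (topR D) (z' * (d * k)) := by
      intro k
      rw [hwe, ← ez', ← hlR', ← ed, hlR', show bb * nn * uu * G.X K (topR D) k * (bb * nn * uu)⁻¹ =
        bb * (nn * (uu * G.X K (topR D) k * uu⁻¹) * nn⁻¹) * bb⁻¹ by group,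
        (O.commute_top G (G.USub_le_pos _ huu) k).eq, mul_inv_cancel_right]
    have hyv : z' * (d * 1) = y := G.X_injective hR ((hall 1).symm.trans hw1)
    intro k
    have h1 := congrArg (fun x => v * n * x * (v * n)⁻¹) (hall k)
    rw [show v * n * ((v * n)⁻¹ * g' * G.X K (topR D) k * ((v * n)⁻¹ * g')⁻¹) * (v * n)⁻¹ =
      g' * G.X K (topR D) k * g'⁻¹ by group, show z' * (d * k) = k * y by rw [← hyv]; ring] at h1
    rw [h1, show v * n * G.X K (topR D) (k * y) * (v * n)⁻¹ = v * (n * G.X K (topR D) (k * y) * n⁻¹) * v⁻¹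
      by group, G.nl_conj_X O.lR hR, O.lR_top]
    congr 2
    have h2 : n * G.X K (topR D) y * n⁻¹ = G.X K (ng D (topR D)) C := by rw [← hy]; group
    rw [G.nl_conj_X O.lR hR, O.lR_top] at h2
    congr 1
    rw [← G.X_injective (G.ng_lt hR) h2]
    ring
  have hyH : ∀ k, f k = k → v * G.X K (ng D (topR D)) (k * C) * v⁻¹ ∈ H := fun k hk => by
    rw [← hlin]; exact mul_mem (mul_mem hg'H (S.mem_X hk)) (inv_mem hg'H)
  have hy1 : v * G.X K (ng D (topR D)) C * v⁻¹ ∈ H := by simpa using hyH 1 (map_one f)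
  suffices hfix : gmap f (v * G.X K (ng D (topR D)) C * v⁻¹) = v * G.X K (ng D (topR D)) C * v⁻¹ by
    have h1 := S.fix_of_fix_root O hg'H (by rw [e']; exact hfix)
    rw [hg', map_mul, G.fixX_fixed f hm, mul_right_inj] at h1
    exact h1
  by_cases h2 : (2 : K) = 0
  · cases ha : c.a2 with
    | true => exact S.twoA_fixed O hb ha h2 hF hv hC hyH
    | false =>
      obtain ⟨t, u, hu, hvu⟩ := O.split_alpha G hb hv
      exact S.route O hb hx hu (S.twoB_coord O hb h2 hx ha hu hC hvu hy1) hvu hy1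
  · obtain ⟨t, u, hu, hvu⟩ := O.split_alpha G hb hv
    have hp : p ≠ 2 := fun h => h2 (by subst h; exact_mod_cast CharP.cast_eq_zero K 2)
    exact S.route O hb hx hu (S.odd_coord O hb hp hu hC hvu hy1) hvu hy1

end OverH

end Cfsg.Agent.Lib.Chev
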