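import Cfsg.Agent.Lib.Chev.Over.Coef

/-!
A finite group between the subfield group and the whole group, with no further root elements,
consists of fixed elements.
-/

set_option autoImplicit false
set_option linter.unusedSectionVars false

namespace Cfsg.Agent.Lib.Chev

open Cfsg.Lie

variable {D : ChevalleyDatum} {T : Tables} {c : OCfg} {K : Type*} [Field K] {G : Good D T}
  {f : K →+* K} {H : Subgroup (GL D.Idx K)}

theorem natAbs_one_cast_two {C : ℤ} (h : C.natAbs = 1) (h2 : (2 : K) = 0) : (C : K) = 1 := by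
  haveI : CharP K 2 := CharTwo.of_one_ne_zero_of_two_eq_zero one_ne_zero h2
  rcases Int.natAbs_eq_iff.1 h with e | e <;> simp [e, CharTwo.neg_eq]

/-- Two finite subfields with the same number of elements are equal. -/
theorem subfield_eq_of_card {S S' : Subfield K} [Finite S] [Finite S']
    (h : Nat.card S = Nat.card S') : S = S' := by
  classical
  haveI := Fintype.ofFinite S
  haveI := Fintype.ofFinite S'
  set n := Nat.card S with hn
  have hn1 : 1 < n := Finite.one_lt_card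
  have hP : (Polynomial.X ^ n - Polynomial.X : Polynomial K) ≠ 0 := FiniteField.X_pow_card_sub_X_ne_zero K hn1
  set Z := (Polynomial.X ^ n - Polynomial.X : Polynomial K).roots.toFinset
  have hZ : Z.card ≤ n := (Multiset.toFinset_card_le _).trans ((Polynomial.card_roots' _).trans
    (le_of_eq (FiniteField.X_pow_card_sub_X_natDegree_eq K hn1)))
  have hsub : ∀ (U : Subfield K) [Fintype U], Nat.card U = n → (U : Set K) = ↑Z := by
    intro U _ hU
    refine Set.eq_of_subset_of_ncard_le (fun x hx => ?_) ?_ Z.finite_toSet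
    · have e := congrArg Subtype.val (FiniteField.pow_card (⟨x, hx⟩ : U))
      rw [← Nat.card_eq_fintype_card, hU] at e
      simp only [SubmonoidClass.coe_pow] at e
      rw [Finset.mem_coe, Multiset.mem_toFinset, Polynomial.mem_roots hP]
      simp [e]
    · rw [Set.ncard_coe_finset, ← Nat.card_coe_set_eq]
      exact hZ.trans hU.ge
  exact SetLike.coe_injective ((hsub S rfl).trans (hsub S' h.symm).symm)

namespace OverH

variable (S : OverH G f H) (O : OverFacts D T c)
include S O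

/-- An element carrying a fixed conjugate of a highest root element to a fixed one is fixed. -/
theorem fix_of_root_conj {y k : GL D.Idx K} (hy : y ∈ H) (hk : k ∈ Good.fixX (D := D) K f) {ε : ℤ}
    (hε : ε = 1 ∨ ε = -1)
    (h : gmap f (y * (k * G.X K (topR D) (ε : K) * k⁻¹) * y⁻¹) =
      y * (k * G.X K (topR D) (ε : K) * k⁻¹) * y⁻¹) : gmap f y = y := by
  have e : y * (k * G.X K (topR D) (ε : K) * k⁻¹) * y⁻¹ =
      y * k * G.X K (topR D) (ε : K) * (y * k)⁻¹ := by group
  rw [e] at h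
  have h1 : gmap f (y * k * G.X K (topR D) 1 * (y * k)⁻¹) = y * k * G.X K (topR D) 1 * (y * k)⁻¹ := by
    rcases hε with rfl | rfl
    · simpa using h
    · rw [Int.cast_neg, Int.cast_one, ← G.X_inv, ← conj_inv, map_inv, inv_inj] at h
      exact h
  have h2 := S.fix_of_fix_root O (mul_mem hy (S.fix_le hk)) h1
  rw [map_mul, G.fixX_fixed f hk] at h2
  exact mul_right_cancel h2

variable {b : ℕ} (hb : PairFacts D T c b)
include hb

theorem route_a (ha2 : c.a2 = true) {u : GL D.Idx K} (hu : u ∈ G.USub K (flipRest D T c)) {t : K}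
    (ht : f t = t) {C : K}
    (hy : u * G.X K (sim D c.a0) t * G.X K (ng D (topR D)) C * (u * G.X K (sim D c.a0) t)⁻¹ ∈ H) :
    gmap f (u * G.X K (sim D c.a0) t * G.X K (ng D (topR D)) C * (u * G.X K (sim D c.a0) t)⁻¹) =
      u * G.X K (sim D c.a0) t * G.X K (ng D (topR D)) C * (u * G.X K (sim D c.a0) t)⁻¹ := by
  obtain ⟨hwb, ⟨M, hM, -⟩, hcb, hbne, hcn⟩ := hb.typeA ha2
  have ha := G.sim_lt O.a0
  have hap := G.sim_pos O.a0
  have hR := O.R_lt
  have hRp := O.R_pos G
  have hn := G.even_n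
  set A := G.X K (sim D c.a0) t
  set u' := A⁻¹ * u * A with hu'
  have hu'm : u' ∈ G.USub K (flipRest D T c) := by
    have := O.rest_normal G hb (s := -t) hu
    rwa [← G.X_inv, inv_inv] at this
  set v := u * A
  set X' := A * G.X K b 1 * A⁻¹ with hX'
  have hv : v * G.X K b 1 * v⁻¹ = X' := by
    rw [show v = A * u' by simp [v, hu', mul_assoc],
      show A * u' * G.X K b 1 * (A * u')⁻¹ = A * (u' * G.X K b 1 * u'⁻¹) * A⁻¹ by group,
      (O.rest_commute_b G hb hu'm 1).eq, mul_inv_cancel_right]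
  have hw2 : T.w c.a0 (topR D) = b := by rw [← hwb, G.w_w O.a0 hb.b_lt]
  have hbX : G.X K b 1 = G.ni K c.a0 * G.X K (topR D) (T.eta c.a0 (topR D) : K) * (G.ni K c.a0)⁻¹ := by
    rw [G.ni_conj_X O.a0 hR, hw2, ← Int.cast_mul, Tables.eta_mul_self, Int.cast_one]
  have hni : G.ni K c.a0 ∈ Good.fixX (D := D) K f := by
    rw [← G.nl_single]; exact G.nl_mem_fixX f (isW_single O.a0)
  have hAX : A ∈ Good.fixX (D := D) K f := G.X_mem_fixX f ht
  have hX'fix : X' ∈ Good.fixX (D := D) K f :=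
    mul_mem (mul_mem hAX (G.X_mem_fixX f (map_one f))) (inv_mem hAX)
  set y := v * G.X K (ng D (topR D)) C * v⁻¹ with hyd
  refine S.fix_of_root_conj O hy (k := A * G.ni K c.a0) (mul_mem hAX hni)
    (T.eta_eq_or c.a0 (topR D)) ?_
  have eX : A * G.ni K c.a0 * G.X K (topR D) (T.eta c.a0 (topR D) : K) * (A * G.ni K c.a0)⁻¹ = X' := by
    rw [hX', hbX]; group
  rw [eX]
  set z := y * X' * y⁻¹ with hz
  set W := G.X K (ng D (topR D)) C * G.X K b 1 * (G.X K (ng D (topR D)) C)⁻¹ with hW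
  have hzW : z = v * W * v⁻¹ := by rw [hz, hyd, ← hv, hW]; group
  obtain ⟨m, hWm⟩ : ∃ m, W = G.X K b 1 * G.X K (ng D (sim D c.a0)) m := by
    refine ⟨(M : K) * C, ?_⟩
    have hne1 : b ≠ ng D (topR D) := by have := hb.b_pos; unfold ng; omega
    have hne2 : b ≠ ng D (ng D (topR D)) := by rw [G.ng_ng hR]; exact hb.b_ne_top
    have hc := G.commAt (F := K) (ng D (topR D)) b (G.ng_lt hR) hb.b_lt hne1 hne2 C 1
    have hword : (G.wordG (Good.cw T (ng D (topR D)) b C 1))⁻¹ =
        G.X K (ng D (sim D c.a0)) ((M : K) * C) := by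
      simp [Good.cw, hM, Good.wordG, G.X_inv]
    have hab := O.alpha_ne_top G hb
    have hcm : Commute (G.X K (ng D (sim D c.a0)) ((M : K) * C)) (G.X K (ng D (topR D)) C) :=
      G.commute_of_terms (G.ng_lt ha) (G.ng_lt hR) (by unfold ng; omega)
        (by rw [G.ng_ng ha]; unfold ng; omega) hcn _ _
    set w0 := G.wordG (Good.cw T (ng D (topR D)) b C 1)
    calc W = G.X K (ng D (topR D)) C * G.X K b 1 * w0 * w0⁻¹ * (G.X K (ng D (topR D)) C)⁻¹ := by
          rw [hW]; group
      _ = G.X K b 1 * (G.X K (ng D (topR D)) C * w0⁻¹ * (G.X K (ng D (topR D)) C)⁻¹) := by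
          rw [← hc]; group
      _ = _ := by rw [hword, ← hcm.eq, mul_inv_cancel_right]
  set k1 := G.ni K c.a0 * A⁻¹
  have hk1 : k1 ∈ Good.fixX (D := D) K f := mul_mem hni (inv_mem hAX)
  have hpos : k1 * z * k1⁻¹ ∈ D.posUnipotent K := by
    have e : k1 * z * k1⁻¹ = (G.ni K c.a0 * u' * (G.ni K c.a0)⁻¹) *
        ((G.ni K c.a0 * G.X K b 1 * (G.ni K c.a0)⁻¹) *
          (G.ni K c.a0 * G.X K (ng D (sim D c.a0)) m * (G.ni K c.a0)⁻¹)) *
        (G.ni K c.a0 * u' * (G.ni K c.a0)⁻¹)⁻¹ := by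
      rw [hzW, hWm, hu']; simp only [k1, v]; group
    have h1 : G.ni K c.a0 * u' * (G.ni K c.a0)⁻¹ ∈ D.posUnipotent K :=
      G.USub_le_pos _ (G.ni_conj_up O.a0 (G.USub_mono (fun _ _ _ h => h.2) hu'm))
    rw [e, G.ni_conj_X O.a0 hb.b_lt, hwb, G.ni_conj_X O.a0 (G.ng_lt ha), G.w_ng O.a0 ha,
      G.w_sim O.a0, G.ng_ng ha]
    exact mul_mem (mul_mem h1 (mul_mem (G.X_mem_posUnipotent hR hRp _)
      (G.X_mem_posUnipotent ha hap _))) (inv_mem h1)
  have hzH : k1 * z * k1⁻¹ ∈ H :=
    mul_mem (mul_mem (S.fix_le hk1) (mul_mem (mul_mem hy (S.fix_le hX'fix)) (inv_mem hy)))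
      (inv_mem (S.fix_le hk1))
  have h := S.pos_fixed O hzH hpos
  rw [map_mul, map_mul, map_inv, G.fixX_fixed f hk1, mul_left_inj, mul_right_inj] at h
  exact h

theorem route_b (hx : chkExtra D T c = true) (ha2 : c.a2 = false) {u : GL D.Idx K}
    (hu : u ∈ G.USub K (flipRest D T c)) {t : K} (ht : f t = t) {C : K}
    (hy : u * G.X K (sim D c.a0) t * G.X K (ng D (topR D)) C * (u * G.X K (sim D c.a0) t)⁻¹ ∈ H) :
    gmap f (u * G.X K (sim D c.a0) t * G.X K (ng D (topR D)) C * (u * G.X K (sim D c.a0) t)⁻¹) =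
      u * G.X K (sim D c.a0) t * G.X K (ng D (topR D)) C * (u * G.X K (sim D c.a0) t)⁻¹ := by
  obtain ⟨ib, hib, hkeep, -, -⟩ := hb.typeB ha2
  have hm := moreFacts hx ha2 hib hkeep
  have ha := G.sim_lt O.a0
  have hs := G.sim_lt hib
  have hsp := G.sim_pos hib
  have hR := O.R_lt
  have hRp := O.R_pos G
  have hn := G.even_n
  set A := G.X K (sim D c.a0) t
  set u' := A⁻¹ * u * A with hu'
  have hu'm : u' ∈ G.USub K (flipRest D T c) := by
    have := O.rest_normal G hb (s := -t) hu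
    rwa [← G.X_inv, inv_inv] at this
  have hcu : Commute u' (G.X K (sim D ib) 1) := by
    have hle : G.USub K (flipRest D T c) ≤ Subgroup.centralizer {G.X K (sim D ib) (1 : K)} := by
      refine G.USub_le_of fun q hq hp hqS s => Subgroup.mem_centralizer_singleton_iff.2 ?_
      have hne : q ≠ sim D ib := fun e => by
        have h' : wl T c.lR q < npos D := hqS.1
        rw [e] at h'; omega
      exact (G.commute_of_terms hs hq hne (by unfold ng; omega)
        (hm.comm_flip q hq hp hqS.1 ((G.keep_single_iff O.a0 hq hp).1 hqS.2)) 1 s).symm.eq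
    exact Subgroup.mem_centralizer_singleton_iff.1 (hle hu'm)
  set v := u * A
  set X' := A * G.X K (sim D ib) 1 * A⁻¹ with hX'
  have hv : v * G.X K (sim D ib) 1 * v⁻¹ = X' := by
    rw [show v = A * u' by simp [v, hu', mul_assoc],
      show A * u' * G.X K (sim D ib) 1 * (A * u')⁻¹ = A * (u' * G.X K (sim D ib) 1 * u'⁻¹) * A⁻¹ by
        group, hcu.eq, mul_inv_cancel_right]
  have hw2 : T.w c.a0 (topR D) = sim D ib := by rw [← hm.w_ib, G.w_w O.a0 hs]
  have hbX : G.X K (sim D ib) 1 =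
      G.ni K c.a0 * G.X K (topR D) (T.eta c.a0 (topR D) : K) * (G.ni K c.a0)⁻¹ := by
    rw [G.ni_conj_X O.a0 hR, hw2, ← Int.cast_mul, Tables.eta_mul_self, Int.cast_one]
  have hni : G.ni K c.a0 ∈ Good.fixX (D := D) K f := by
    rw [← G.nl_single]; exact G.nl_mem_fixX f (isW_single O.a0)
  have hAX : A ∈ Good.fixX (D := D) K f := G.X_mem_fixX f ht
  refine S.fix_of_root_conj O hy (k := A * G.ni K c.a0) (mul_mem hAX hni)
    (T.eta_eq_or c.a0 (topR D)) ?_
  have eX : A * G.ni K c.a0 * G.X K (topR D) (T.eta c.a0 (topR D) : K) * (A * G.ni K c.a0)⁻¹ = X' := by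
    rw [hX', hbX]; group
  rw [eX]
  have hcm : Commute (G.X K (sim D ib) (1 : K)) (G.X K (ng D (topR D)) C) := by
    obtain ⟨h1, h2⟩ := O.keep_comm _ hs hsp hkeep
    exact G.commute_of_terms hs (G.ng_lt hR) (by unfold ng; omega) (by unfold ng; omega) h1 1 C
  have e : v * G.X K (ng D (topR D)) C * v⁻¹ * X' * (v * G.X K (ng D (topR D)) C * v⁻¹)⁻¹ = X' := by
    rw [← hv, show v * G.X K (ng D (topR D)) C * v⁻¹ * (v * G.X K (sim D ib) 1 * v⁻¹) *
      (v * G.X K (ng D (topR D)) C * v⁻¹)⁻¹ =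
      v * (G.X K (ng D (topR D)) C * G.X K (sim D ib) 1 * (G.X K (ng D (topR D)) C)⁻¹) * v⁻¹ by group,
      ← hcm.eq, mul_inv_cancel_right]
  rw [e]
  exact G.fixX_fixed f (mul_mem (mul_mem hAX (G.X_mem_fixX f (map_one f))) (inv_mem hAX))

/-- A fixed coordinate at the fundamental root makes the element fixed. -/
theorem route (hx : chkExtra D T c = true) {u : GL D.Idx K} (hu : u ∈ G.USub K (flipRest D T c))
    {t : K} (ht : f t = t) {C : K} {v : GL D.Idx K} (hv : v = u * G.X K (sim D c.a0) t)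
    (hy : v * G.X K (ng D (topR D)) C * v⁻¹ ∈ H) :
    gmap f (v * G.X K (ng D (topR D)) C * v⁻¹) = v * G.X K (ng D (topR D)) C * v⁻¹ := by
  subst hv
  cases h : c.a2 with
  | true => exact S.route_a O hb h hu ht hy
  | false => exact S.route_b O hb hx h hu ht hy

/-- In odd characteristic the coordinate at the fundamental root is fixed. -/
theorem odd_coord {p : ℕ} [Fact p.Prime] [CharP K p] (hp2 : p ≠ 2) [Finite H] {u : GL D.Idx K}
    (hu : u ∈ G.USub K (flipRest D T c)) {t : K} {C : K} (hC : C ≠ 0) {v : GL D.Idx K}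
    (hv : v = u * G.X K (sim D c.a0) t) (hy : v * G.X K (ng D (topR D)) C * v⁻¹ ∈ H) :
    f t = t := by
  obtain ⟨N, hN, hNabs⟩ := hb.pair
  have hR := O.R_lt
  have h2 : (2 : K) ≠ 0 := fun h => hp2 (by
    have := (CharP.cast_eq_zero_iff K p 2).mp (by exact_mod_cast h)
    exact (Nat.prime_dvd_prime_iff_eq Fact.out Nat.prime_two).mp this)
  have hvp : v ∈ D.posUnipotent K := by
    rw [hv]
    exact mul_mem (G.USub_le_pos _ hu) (G.X_mem_posUnipotent (G.sim_lt O.a0) (G.sim_pos O.a0) t)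
  set J := H.comap (MulAut.conj v).toMonoidHom
  haveI : Finite J := Finite.of_injective (fun x : J => (⟨_, x.2⟩ : H)) fun a b h => by
    have h' := congrArg Subtype.val h
    exact Subtype.ext ((MulAut.conj v).injective h')
  have hneg : (-1 : Matrix.SpecialLinearGroup (Fin 2) K) ∈ J.comap (G.phi hR) := by
    refine neg_one_mem_of_transvections (p := p) hp2
      (fun d hd => O.finOrder_of_phi G J hd) hC ?_ ?_
    · show v * G.phi hR (sl C) * v⁻¹ ∈ H
      rw [G.phi_sl hR]; exact hy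
    · show v * G.phi hR (su 1) * v⁻¹ ∈ H
      rw [G.phi_su hR, (O.commute_top G hvp 1).eq, mul_inv_cancel_right]
      exact S.mem_X_one _
  have hh : v * G.Hg K (topR D) (-1) * v⁻¹ ∈ H := by
    rw [← O.phi_neg_one G]; exact hneg
  have hco := O.coef_of_split G hb hN (t := t) hu
  rw [← hv] at hco
  set a := (N : K) * t with hadef
  set η := G.Hg K (topR D) (-1 : K)
  have e1 : η * G.X K b 1 * η⁻¹ = G.X K b (-1) := by
    rw [G.Hg_conj_X hR hb.b_lt (neg_ne_zero.2 one_ne_zero), (O.P_pair G hb).2, zpow_one, mul_one]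
  have e2 : η * G.X K (topR D) a * η⁻¹ = G.X K (topR D) a := by
    rw [G.Hg_conj_X hR hR (neg_ne_zero.2 one_ne_zero), G.P_self hR, zpow_two, neg_mul_neg, one_mul,
      one_mul]
  have hprod := mul_mem (mul_mem hh (S.mem_X_one b)) (inv_mem hh)
  have e3 : v * η * v⁻¹ * G.X K b 1 * (v * η * v⁻¹)⁻¹ =
      (v * G.X K b (-1) * v⁻¹) * (v * G.X K (topR D) a * v⁻¹) := by
    have e4 := hco 1
    rw [one_mul] at e4
    calc v * η * v⁻¹ * G.X K b 1 * (v * η * v⁻¹)⁻¹
        = v * (η * (v⁻¹ * G.X K b 1 * v) * η⁻¹) * v⁻¹ := by group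
      _ = v * ((η * G.X K b 1 * η⁻¹) * (η * G.X K (topR D) a * η⁻¹)) * v⁻¹ := by rw [e4]; group
      _ = _ := by rw [e1, e2]; group
  rw [e3, O.coef_inv G hb hvp hco, (O.commute_top G hvp a).eq, mul_inv_cancel_right, mul_assoc,
    G.X_add] at hprod
  have hfin := mul_mem (S.mem_X_one (G := G) b) hprod
  rw [← mul_assoc, G.X_add, add_neg_cancel, G.X_zero, one_mul] at hfin
  have hpar := S.par _ hR _ hfin
  have h2a : f a = a := by
    rw [show -(-1 * a) + a = 2 * a by ring, map_mul, map_ofNat] at hpar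
    exact mul_left_cancel₀ h2 hpar
  have hN0 : (N : K) ≠ 0 := by
    rcases Int.natAbs_eq N with e | e <;> rw [e, hNabs] <;> cases c.a2 <;> simp [h2]
  rw [hadef, map_mul, map_intCast] at h2a
  exact mul_left_cancel₀ hN0 h2a

/-- In characteristic two in the special rank two case the coordinate is fixed. -/
theorem twoB_coord (h2 : (2 : K) = 0) (hx : chkExtra D T c = true) (ha2 : c.a2 = false)
    {u : GL D.Idx K} (hu : u ∈ G.USub K (flipRest D T c)) {t : K} {C : K} (hC : C ≠ 0)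
    {v : GL D.Idx K} (hv : v = u * G.X K (sim D c.a0) t)
    (hy : v * G.X K (ng D (topR D)) C * v⁻¹ ∈ H) : f t = t := by
  haveI : CharP K 2 := CharTwo.of_one_ne_zero_of_two_eq_zero one_ne_zero h2
  obtain ⟨ib, hib, hkeep, ⟨C1, C2, hT1, hC1, hC2⟩, M, M', hT2, hM, hM'⟩ := hb.typeB ha2
  have hm := moreFacts hx ha2 hib hkeep
  obtain ⟨x0, M1, M1', hT3, hM1, hM1'⟩ := hm.neg_top
  obtain ⟨Cn, restn, hTn, -, hrn⟩ := hb.neg_top
  have hrel : x0 = b ∧ sim D ib < b ∧ T.terms (sim D ib) b = [] := by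
    rw [hT3] at hTn
    simp only [List.cons.injEq, Prod.mk.injEq] at hTn
    obtain ⟨⟨rfl, -⟩, rfl⟩ := hTn
    simp only [ha2, Bool.false_eq_true, if_false] at hrn
    obtain ⟨k, M0, x, y, hk, hkb, -, hcm0⟩ := hrn
    simp only [List.cons.injEq, Prod.mk.injEq, and_true] at hk
    exact ⟨rfl, hk.1 ▸ hkb, hk.1 ▸ hcm0⟩
  obtain ⟨rfl, hibb, hibc⟩ := hrel
  obtain ⟨N, hN, hNabs⟩ := hb.pair
  have hN0 : (N : K) = 0 := by
    rcases Int.natAbs_eq N with e | e <;> rw [e, hNabs] <;> simp [ha2, h2]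
  have ha := G.sim_lt O.a0
  have hap := G.sim_pos O.a0
  have hs := G.sim_lt hib
  have hsp := G.sim_pos hib
  have hR := O.R_lt
  have hRp := O.R_pos G
  have hn := G.even_n
  have hab := O.alpha_ne_top G hb
  set A := G.X K (sim D c.a0) t
  have hvp : v ∈ D.posUnipotent K := by
    rw [hv]; exact mul_mem (G.USub_le_pos _ hu) (G.X_mem_posUnipotent ha hap t)
  have hco := O.coef_of_split G hb hN (t := t) hu
  rw [← hv, hN0, zero_mul] at hco
  have hcb : v * G.X K x0 1 * v⁻¹ = G.X K x0 1 := by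
    rw [O.coef_inv G hb hvp hco, mul_zero, neg_zero, G.X_zero, mul_one]
  set L := G.X K (ng D (topR D)) C
  set W := G.X K (sim D ib) C * G.X K (ng D (sim D c.a0)) C with hW
  have hne1 : x0 ≠ ng D (topR D) := by have := hb.b_pos; unfold ng; omega
  have hne2 : x0 ≠ ng D (ng D (topR D)) := by rw [G.ng_ng hR]; exact hb.b_ne_top
  have hLb : L * G.X K x0 1 = G.X K x0 1 * L * W := by
    have hc := G.commAt (F := K) (ng D (topR D)) x0 (G.ng_lt hR) hb.b_lt hne1 hne2 C 1
    have hw0 : (G.wordG (Good.cw T (ng D (topR D)) x0 C 1))⁻¹ = W := by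
      rw [hW]
      simp [Good.cw, hT2, Good.wordG, natAbs_one_cast_two hM h2, natAbs_one_cast_two hM' h2,
        CharTwo.neg_eq, G.X_inv, L]
    rw [← hw0, eq_mul_inv_iff_mul_eq]
    exact hc.symm
  have hLW : Commute L W := by
    obtain ⟨h1, -⟩ := O.keep_comm _ hs hsp hkeep
    refine Commute.mul_right ?_ ?_
    · exact (G.commute_of_terms hs (G.ng_lt hR) (by unfold ng; omega) (by have := (O.keep_comm _ hs hsp hkeep).2; unfold ng; omega) h1 C C).symm
    · exact (G.commute_of_terms (G.ng_lt ha) (G.ng_lt hR) (by unfold ng; omega)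
        (by rw [G.ng_ng ha]; unfold ng; omega) hm.neg_neg C C).symm
  have hq1 : v * W * v⁻¹ ∈ H := by
    have h1 := mul_mem (mul_mem hy (S.mem_X_one x0)) (inv_mem hy)
    have e : v * L * v⁻¹ * G.X K x0 1 * (v * L * v⁻¹)⁻¹ = G.X K x0 1 * (v * W * v⁻¹) := by
      conv_lhs => rw [← hcb]
      conv_rhs => rw [← hcb]
      calc v * L * v⁻¹ * (v * G.X K x0 1 * v⁻¹) * (v * L * v⁻¹)⁻¹
          = v * (L * G.X K x0 1) * L⁻¹ * v⁻¹ := by group
        _ = v * G.X K x0 1 * (L * W) * L⁻¹ * v⁻¹ := by rw [hLb]; group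
        _ = v * G.X K x0 1 * W * v⁻¹ := by rw [hLW.eq]; group
        _ = _ := by group
    rw [e] at h1
    exact (Subgroup.mul_mem_cancel_left H (S.mem_X_one x0)).1 h1
  have hsne : sim D ib ≠ topR D := (O.keep_comm _ hs hsp hkeep).2
  have e5 : v * W * v⁻¹ * G.X K (topR D) 1 * (v * W * v⁻¹)⁻¹ =
      G.X K (topR D) 1 * (v * G.X K (sim D ib) (C * C) * v⁻¹ * G.X K x0 C) := by
    have hcR : Commute (G.X K (sim D ib) C) (G.X K (topR D) (1 : K)) :=
      (O.commute_top G (G.X_mem_posUnipotent hs hsp C) 1)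
    have hc := G.commAt (F := K) (ng D (sim D c.a0)) (topR D) (G.ng_lt ha) hR
      (by unfold ng; omega) (by rw [G.ng_ng ha]; exact Ne.symm hab) (-C) 1
    have hcb2 : Commute (G.X K (sim D ib) (C * C)) (G.X K x0 C) :=
      G.commute_of_terms hs hb.b_lt (by omega) (by unfold ng; omega) hibc _ _
    have hcb3 : Commute (G.X K (sim D ib) C) (G.X K x0 C) :=
      G.commute_of_terms hs hb.b_lt (by omega) (by unfold ng; omega) hibc _ _
    have hcs : Commute (G.X K (sim D ib) C) (G.X K (sim D ib) (C * C)) := by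
      show _ * _ = _ * _
      rw [G.X_add, G.X_add, add_comm]
    have hword : G.wordG (Good.cw T (ng D (sim D c.a0)) (topR D) (-C) 1) =
        G.X K x0 C * G.X K (sim D ib) (C * C) := by
      simp [Good.cw, hT3, Good.wordG, natAbs_one_cast_two hM1 h2, natAbs_one_cast_two hM1' h2,
        CharTwo.neg_eq, pow_two]
    rw [hword, ← hcb2.eq] at hc
    have e6 : G.X K (ng D (sim D c.a0)) C * G.X K (topR D) 1 * (G.X K (ng D (sim D c.a0)) C)⁻¹ =
        G.X K (topR D) 1 * (G.X K (sim D ib) (C * C) * G.X K x0 C) := by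
      rw [G.X_inv, mul_assoc, hc]
      simp only [← mul_assoc]
      rw [G.X_add, add_neg_cancel, G.X_zero, one_mul]
    have hvR := (O.commute_top G hvp (1 : K)).eq
    have hvb : v * G.X K x0 C * v⁻¹ = G.X K x0 C := by
      rw [O.coef_inv G hb hvp hco, mul_zero, neg_zero, G.X_zero, mul_one]
    calc v * W * v⁻¹ * G.X K (topR D) 1 * (v * W * v⁻¹)⁻¹
        = v * (W * (v⁻¹ * G.X K (topR D) 1 * v) * W⁻¹) * v⁻¹ := by group
      _ = v * (W * G.X K (topR D) 1 * W⁻¹) * v⁻¹ := by
          rw [mul_assoc v⁻¹, ← hvR, inv_mul_cancel_left]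
      _ = v * (G.X K (sim D ib) C * (G.X K (ng D (sim D c.a0)) C * G.X K (topR D) 1 *
            (G.X K (ng D (sim D c.a0)) C)⁻¹) * (G.X K (sim D ib) C)⁻¹) * v⁻¹ := by rw [hW]; group
      _ = v * (G.X K (topR D) 1 * (G.X K (sim D ib) (C * C) * G.X K x0 C)) * v⁻¹ := by
          rw [e6, (hcR.mul_right (hcs.mul_right hcb3)).eq, mul_inv_cancel_right]
      _ = (v * G.X K (topR D) 1) * (G.X K (sim D ib) (C * C) * G.X K x0 C) * v⁻¹ := by group
      _ = G.X K (topR D) 1 * (v * G.X K (sim D ib) (C * C) * v⁻¹ * (v * G.X K x0 C * v⁻¹)) := by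
          rw [hvR]; group
      _ = _ := by rw [hvb]
  have h6 := mul_mem (mul_mem hq1 (S.mem_X_one (topR D))) (inv_mem hq1)
  rw [e5, Subgroup.mul_mem_cancel_left H (S.mem_X_one (topR D))] at h6
  set u' := A⁻¹ * u * A with hu'
  have hu'm : u' ∈ G.USub K (flipRest D T c) := by
    have := O.rest_normal G hb (s := -t) hu
    rwa [← G.X_inv, inv_inv] at this
  have hcu : Commute u' (G.X K (sim D ib) (C * C)) := by
    have hle : G.USub K (flipRest D T c) ≤ Subgroup.centralizer {G.X K (sim D ib) (C * C)} := by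
      refine G.USub_le_of fun q hq hp hqS s => Subgroup.mem_centralizer_singleton_iff.2 ?_
      have hne : q ≠ sim D ib := fun e => by
        have h' : wl T c.lR q < npos D := hqS.1
        rw [e] at h'; omega
      exact (G.commute_of_terms hs hq hne (by unfold ng; omega)
        (hm.comm_flip q hq hp hqS.1 ((G.keep_single_iff O.a0 hq hp).1 hqS.2)) _ s).symm.eq
    exact Subgroup.mem_centralizer_singleton_iff.1 (hle hu'm)
  have hne3 : sim D ib ≠ sim D c.a0 := fun e => by
    have := O.a0_flip; rw [← e] at this; omega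
  have e7 : v * G.X K (sim D ib) (C * C) * v⁻¹ =
      G.X K (sim D ib) (C * C) * (G.X K x0 (t * (C * C)) * G.X K (topR D) (t * t * (C * C))) := by
    rw [show v = A * u' by simp [hv, hu', mul_assoc],
      show A * u' * G.X K (sim D ib) (C * C) * (A * u')⁻¹ =
        A * (u' * G.X K (sim D ib) (C * C) * u'⁻¹) * A⁻¹ by group, hcu.eq, mul_inv_cancel_right]
    have hc := G.commAt (F := K) (sim D c.a0) (sim D ib) ha hs (by exact hne3)
      (by unfold ng; omega) (-t) (C * C)
    have hword : G.wordG (Good.cw T (sim D c.a0) (sim D ib) (-t) (C * C)) =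
        G.X K x0 (t * (C * C)) * G.X K (topR D) (t * t * (C * C)) := by
      simp [Good.cw, hT1, Good.wordG, natAbs_one_cast_two hC1 h2, natAbs_one_cast_two hC2 h2,
        CharTwo.neg_eq, pow_two]
    rw [hword] at hc
    rw [G.X_inv, mul_assoc, hc]
    simp only [← mul_assoc]
    rw [G.X_add, add_neg_cancel, G.X_zero, one_mul]
  rw [e7] at h6
  have hbR : x0 < topR D := by
    have := hb.b_lt; have := hb.b_ne_top; unfold topR at *; omega
  rw [show G.X K (sim D ib) (C * C) * (G.X K x0 (t * (C * C)) * G.X K (topR D) (t * t * (C * C))) *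
      G.X K x0 C = G.X K (sim D ib) (C * C) * (G.X K x0 (t * (C * C)) *
        (G.X K (topR D) (t * t * (C * C)) * G.X K x0 C)) by group,
    ← (O.commute_top G (G.X_mem_posUnipotent hb.b_lt hb.b_pos C) (t * t * (C * C))).eq,
    ← mul_assoc (G.X K x0 (t * (C * C))), G.X_add] at h6
  have hCC : f (C * C) = C * C := S.coord_fixed O hs hsp
    (mul_mem (G.X_mem_tail hb.b_lt hb.b_pos (by omega) _) (G.X_mem_tail hR hRp (by omega) _)) h6
  have h7 := (Subgroup.mul_mem_cancel_left H (S.mem_X (r := sim D ib) hCC)).1 h6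
  have h8 := S.coord_fixed O hb.b_lt hb.b_pos (G.X_mem_tail hR hRp (by omega) _) h7
  have hfC : f C = C := by
    rw [map_mul] at hCC
    have : (f C - C) * (f C - C) = 0 := by linear_combination hCC + (C * C - f C * C) * h2
    exact sub_eq_zero.1 (mul_self_eq_zero.1 this)
  rw [map_add, map_mul, hCC, hfC, add_left_inj] at h8
  exact mul_right_cancel₀ (mul_ne_zero hC hC) h8

end OverH

end Cfsg.Agent.Lib.Chev
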