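import Cfsg.Agent.Lib.Chev.Over.Unip
import Cfsg.Agent.Lib.Chev.RootsCent

/-!
An element of the overgroup carrying the highest root element to a fixed element is fixed.
-/

set_option autoImplicit false
set_option linter.unusedSectionVars false

namespace Cfsg.Agent.Lib.Chev

open Cfsg.Lie

variable {D : ChevalleyDatum} {T : Tables} {c : OCfg} {K : Type*} [Field K]

namespace Good

variable (G : Good D T)
include G

theorem fixX_fixed (f : K →+* K) {g : GL D.Idx K} (hg : g ∈ fixX (D := D) K f) : gmap f g = g := by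
  induction hg using Subgroup.closure_induction with
  | mem x hx =>
    obtain ⟨s, t, ht, e⟩ := hx
    rw [G.eq_X_of_val e, G.gmap_X, ht]
  | one => exact map_one _
  | mul x y _ _ hx hy => rw [map_mul, hx, hy]
  | inv x _ hx => rw [map_inv, hx]

theorem P_lin {R r s k : ℕ} {a b : ℤ} (hr : r < D.nroots) (hs : s < D.nroots) (hk : k < D.nroots)
    (h : ∀ i < D.rank, T.k i k = a * T.k i r + b * T.k i s) :
    P D T R k = a * P D T R r + b * P D T R s := by
  unfold P
  rw [Finset.mul_sum, Finset.mul_sum, ← Finset.sum_add_distrib]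
  refine Finset.sum_congr rfl fun j hj => ?_
  have hj' := Finset.mem_range.1 hj
  have hA : T.A j k = a * T.A j r + b * T.A j s := by
    rw [G.A_linear hj' hk, G.A_linear hj' hr, G.A_linear hj' hs, Finset.mul_sum, Finset.mul_sum,
      ← Finset.sum_add_distrib]
    refine Finset.sum_congr rfl fun m hm => ?_
    rw [h m (Finset.mem_range.1 hm)]; ring
  rw [hA]; ring

end Good

variable {G : Good D T} (O : OverFacts D T c)

namespace OverFacts

include O

theorem R_lt : topR D < D.nroots := by have := O.rs_lt; unfold topR; omega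

theorem R_pos (G : Good D T) : npos D ≤ topR D := by
  have := O.npos_pos; have := G.even_n; unfold topR; omega

theorem R_flip (G : Good D T) : wl T c.lR (topR D) < npos D := by
  rw [O.lR_top]; have := O.R_pos G; have := G.even_n; have := O.R_lt; unfold ng; omega

theorem Ng_rep (G : Good D T) {t : K} (ht : t ≠ 0) : G.Rep K (G.Ng K (topR D) t) c.lR := by
  obtain ⟨d, i, hi, hd, hlR, hd'⟩ := O.refR
  have hε : ((el T d (sim D i) : ℤ) : K) * ((el T d (sim D i) : ℤ) : K) = 1 := by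
    rw [← Int.cast_mul, el_mul_self, Int.cast_one]
  have e : G.Ng K (topR D) t =
      G.nl K d * G.Ng K (sim D i) ((el T d (sim D i) : K) * t) * (G.nl K d)⁻¹ := by
    rw [G.nl_conj_Ng hd (G.sim_lt hi), hd', ← mul_assoc, hε, one_mul]
  have hmid : G.Rep K (G.Ng K (sim D i) ((el T d (sim D i) : K) * t)) [i] := by
    rw [G.Ng_sim_eq hi]
    simpa using G.rep_mul (G.rep_diag (G.Hg_mem (G.sim_lt hi)
      (mul_ne_zero (left_ne_zero_of_mul_eq_one hε) ht))) (G.rep_ni hi)
  rw [e, hlR]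
  simpa using G.rep_mul (G.rep_mul (G.rep_nl hd) hmid) (G.rep_nl_inv hd)

/-- Positive unipotent elements centralise the highest root group. -/
theorem commute_top (G : Good D T) {u : GL D.Idx K} (hu : u ∈ D.posUnipotent K) (t : K) :
    Commute u (G.X K (topR D) t) := by
  have hle : D.posUnipotent K ≤ Subgroup.centralizer {G.X K (topR D) t} := by
    refine G.posUnipotent_le_of fun q hq hp s => ?_
    rw [Subgroup.mem_centralizer_singleton_iff]
    by_cases e : q = topR D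
    · subst e; rw [G.X_add, G.X_add, add_comm]
    have hne : topR D ≠ ng D q := by
      have := O.R_pos G; have := G.even_n; unfold ng; omega
    exact (G.commute_of_terms hq O.R_lt (Ne.symm e) hne (O.top_comm q hq hp e).1 s t).eq
  exact Subgroup.mem_centralizer_singleton_iff.1 (hle hu)

theorem borel_top (G : Good D T) {b : GL D.Idx K} (hb : b ∈ D.borelSubgroup K) :
    ∃ x : K, x ≠ 0 ∧ ∀ t, b * G.X K (topR D) t * b⁻¹ = G.X K (topR D) (x * t) := by
  obtain ⟨v, hv, h, hh, rfl⟩ := G.mem_borel.1 hb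
  obtain ⟨-, x, hx, e⟩ := G.act_diag hh _ O.R_lt
  refine ⟨x, hx, fun t => ?_⟩
  have e' := e t
  simp only [id_eq] at e'
  rw [show v * h * G.X K (topR D) t * (v * h)⁻¹ = v * (h * G.X K (topR D) t * h⁻¹) * v⁻¹ by group,
    e', (O.commute_top G hv _).eq, mul_inv_cancel_right]

theorem long_wl (G : Good D T) : ∀ {l : List ℕ}, IsW D l → lng D T c (wl T l (topR D)) = true := by
  intro l
  induction l with
  | nil => intro _; exact O.long_top
  | cons i l ih =>
    intro hl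
    show lng D T c (T.w i (wl T l (topR D))) = true
    rw [← O.long_w _ (G.wl_lt hl.tail.2 O.R_lt) i hl.tail.1]
    exact ih hl.tail.2

/-- Every conjugate of a root group of a long root moves to the lowest position by a fixed element. -/
theorem descend (G : Good D T) (f : K →+* K) : ∀ γ < D.nroots, lng D T c γ = true →
    ∀ v ∈ D.posUnipotent K, ∀ x : K, x ≠ 0 → ∃ m ∈ Good.fixX (D := D) K f,
      ∃ v' ∈ D.posUnipotent K, ∃ x' : K, x' ≠ 0 ∧
        m * (v * G.X K γ x * v⁻¹) * m⁻¹ = v' * G.X K (ng D (topR D)) x' * v'⁻¹ := by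
  intro γ
  induction γ using Nat.strong_induction_on with
  | _ γ ih =>
    intro hγ hl v hv x hx
    by_cases e : γ = ng D (topR D)
    · subst e
      exact ⟨1, one_mem _, v, hv, x, hx, by group⟩
    obtain ⟨i, hi, hlt, hcase⟩ := O.descent γ hγ hl e
    obtain ⟨a, ha, t, rfl⟩ := G.exists_keep_X hi hv
    have hcm : Commute (G.X K (sim D i) t) (G.X K γ x) := by
      rcases hcase with h | ⟨h1, h2⟩
      · subst h
        show _ * _ = _ * _
        rw [G.X_add, G.X_add, add_comm]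
      by_cases e' : γ = sim D i
      · subst e'
        show _ * _ = _ * _
        rw [G.X_add, G.X_add, add_comm]
      exact G.commute_of_terms (G.sim_lt hi) hγ e' h1 h2 t x
    have hkey : G.ni K i * (a * G.X K (sim D i) t * G.X K γ x * (a * G.X K (sim D i) t)⁻¹) *
        (G.ni K i)⁻¹ = (G.ni K i * a * (G.ni K i)⁻¹) *
          G.X K (T.w i γ) ((T.eta i γ : K) * x) * (G.ni K i * a * (G.ni K i)⁻¹)⁻¹ := by
      rw [mul_assoc a (G.X K (sim D i) t), hcm.eq, ← G.ni_conj_X hi hγ]; group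
    obtain ⟨m, hm, v', hv', x', hx', e2⟩ := ih (T.w i γ) hlt (G.w_lt hi hγ)
      ((O.long_w γ hγ i hi).symm.trans hl) _ (G.USub_le_pos _ (G.ni_conj_up hi ha))
      ((T.eta i γ : K) * x) (mul_ne_zero (by rcases T.eta_eq_or i γ with h | h <;> simp [h]) hx)
    refine ⟨m * G.ni K i, mul_mem hm ?_, v', hv', x', hx', ?_⟩
    · have := G.nl_mem_fixX f (l := [i]) (isW_single hi)
      rwa [G.nl_single] at this
    · rw [← e2, ← hkey]; group

/-- A conjugate of the highest root element, moved and written with a short unipotent part. -/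
theorem descend_top (G : Good D T) (f : K →+* K) {g : GL D.Idx K} (hg : g ∈ D.group K) {t : K}
    (ht : t ≠ 0) : ∃ m ∈ Good.fixX (D := D) K f, ∃ v ∈ G.USub K (flipSet D T c.lR),
      ∃ x : K, x ≠ 0 ∧ m * (g * G.X K (topR D) t * g⁻¹) * m⁻¹ =
        v * G.X K (ng D (topR D)) x * v⁻¹ := by
  obtain ⟨b, hb, n, l, hl, u, hu, rfl⟩ := G.exists_normal_form hg
  obtain ⟨hlt, d, hd, e⟩ := G.rep_act hl _ O.R_lt
  obtain ⟨w, hw, h, hh, rfl⟩ := G.mem_borel.1 hb
  obtain ⟨-, χ, hχ, e'⟩ := G.act_diag hh _ hlt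
  have e1 : w * h * n * u * G.X K (topR D) t * (w * h * n * u)⁻¹ =
      w * G.X K (wl T l (topR D)) (χ * (d * t)) * w⁻¹ := by
    have e'' := e' (d * t)
    simp only [id_eq] at e''
    rw [← e'', ← e t, mul_assoc _ u (G.X K (topR D) t),
      (O.commute_top G (G.USub_le_pos _ hu) t).eq]
    group
  obtain ⟨m, hm, v, hv, x, hx, e2⟩ := O.descend G f _ hlt (O.long_wl G hl.1) w hw _
    (mul_ne_zero hχ (mul_ne_zero hd ht))
  obtain ⟨a, ha, b', hb', e3⟩ := G.exists_split_pos c.lR (inv_mem hv)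
  refine ⟨m, hm, b'⁻¹, inv_mem hb', x, hx, ?_⟩
  rw [e1, e2]
  have hv' : v = b'⁻¹ * a⁻¹ := by rw [← mul_inv_rev, ← e3, inv_inv]
  have hle : G.USub K (keepSet D T c.lR) ≤
      Subgroup.centralizer {G.X K (ng D (topR D)) x} := by
    refine G.USub_le_of fun q hq hp hk s => ?_
    rw [Subgroup.mem_centralizer_singleton_iff]
    obtain ⟨h1, h2⟩ := O.keep_comm q hq hp hk
    have := O.R_lt; have := O.R_pos G; have := G.even_n
    exact (G.commute_of_terms hq (G.ng_lt O.R_lt) (by unfold ng; omega)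
      (fun e' => h2 (by have := congrArg (ng D) e'; rw [G.ng_ng O.R_lt, G.ng_ng hq] at this; omega))
      h1 s x).eq
  have hc := Subgroup.mem_centralizer_singleton_iff.1 (hle (inv_mem ha))
  rw [hv', mul_assoc b'⁻¹ a⁻¹, hc]
  group

/-- The lowest position determines the unipotent part. -/
theorem low_unique (G : Good D T) {v v' : GL D.Idx K} (hv : v ∈ G.USub K (flipSet D T c.lR))
    (hv' : v' ∈ G.USub K (flipSet D T c.lR)) {x x' : K} (hx : x ≠ 0) (hx' : x' ≠ 0)
    (h : v * G.X K (ng D (topR D)) x * v⁻¹ = v' * G.X K (ng D (topR D)) x' * v'⁻¹) :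
    v = v' ∧ x = x' := by
  have hR := O.R_lt
  have hRp := O.R_pos G
  have hform : ∀ (w : GL D.Idx K) (y : K), y ≠ 0 → w * G.X K (ng D (topR D)) y * w⁻¹ =
      (w * G.X K (topR D) y⁻¹ * (G.Ng K (topR D) (-y⁻¹) * (G.nl K c.lR)⁻¹)) * G.nl K c.lR *
        (G.X K (topR D) y⁻¹ * w⁻¹) := by
    intro w y _
    rw [Good.Ng, show -(-y⁻¹)⁻¹ = y by rw [inv_neg, inv_inv, neg_neg]]
    rw [show G.X K (topR D) y⁻¹ = (G.X K (topR D) (-y⁻¹))⁻¹ by rw [G.X_inv, neg_neg]]
    group
  rw [hform v x hx, hform v' x' hx'] at h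
  have hd : ∀ y : K, y ≠ 0 → G.Ng K (topR D) (-y⁻¹) * (G.nl K c.lR)⁻¹ ∈ D.diagonalSubgroup K :=
    fun y hy => (O.Ng_rep G (neg_ne_zero.2 (inv_ne_zero hy))).2
  have hb : ∀ (w : GL D.Idx K), w ∈ G.USub K (flipSet D T c.lR) → ∀ y : K, y ≠ 0 →
      w * G.X K (topR D) y⁻¹ * (G.Ng K (topR D) (-y⁻¹) * (G.nl K c.lR)⁻¹) ∈ D.borelSubgroup K :=
    fun w hw y hy => mul_mem (Subgroup.mem_sup_left (mul_mem (G.USub_le_pos _ hw)
      (G.X_mem_posUnipotent hR hRp _))) (Subgroup.mem_sup_right (hd y hy))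
  have hu : ∀ (w : GL D.Idx K), w ∈ G.USub K (flipSet D T c.lR) → ∀ y : K,
      G.X K (topR D) y * w⁻¹ ∈ G.USub K (flipSet D T c.lR) :=
    fun w hw y => mul_mem (G.X_mem_USub hR hRp (O.R_flip G) _) (inv_mem hw)
  obtain ⟨e1, e2⟩ := G.normal_form_unique (G.rep_nl O.lR) (hb v hv x hx) (hb v' hv' x' hx')
    (hu v hv _) (hu v' hv' _) h
  have hw : v' = v * G.X K (topR D) (x'⁻¹ - x⁻¹) := by
    have e3 := congrArg (fun z => z⁻¹) e2
    simp only [mul_inv_rev, inv_inv, G.X_inv] at e3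
    calc v' = v' * G.X K (topR D) (-x'⁻¹) * G.X K (topR D) x'⁻¹ := by
          rw [mul_assoc, G.X_add, neg_add_cancel, G.X_zero, mul_one]
      _ = _ := by rw [← e3, mul_assoc, G.X_add]; congr 2; ring
  subst hw
  set N := G.Ng K (topR D) (-x⁻¹) * (G.nl K c.lR)⁻¹ with hN
  set N' := G.Ng K (topR D) (-x'⁻¹) * (G.nl K c.lR)⁻¹ with hN'
  have e4 : G.X K (topR D) (x⁻¹ - (x'⁻¹ - x⁻¹ + x'⁻¹)) = N' * N⁻¹ := by
    rw [eq_mul_inv_iff_mul_eq]
    have e5 : G.X K (topR D) x⁻¹ * N = G.X K (topR D) (x'⁻¹ - x⁻¹ + x'⁻¹) * N' := by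
      have := e1
      simp only [mul_assoc] at this
      rw [mul_right_inj] at this
      simp only [← mul_assoc, G.X_add] at this
      exact this
    calc G.X K (topR D) (x⁻¹ - (x'⁻¹ - x⁻¹ + x'⁻¹)) * N
        = G.X K (topR D) (-(x'⁻¹ - x⁻¹ + x'⁻¹)) * (G.X K (topR D) x⁻¹ * N) := by
          rw [← mul_assoc (G.X K (topR D) (-(x'⁻¹ - x⁻¹ + x'⁻¹))) (G.X K (topR D) x⁻¹) N, G.X_add]
          congr 2; ring
      _ = _ := by
          rw [e5, ← mul_assoc (G.X K (topR D) (-(x'⁻¹ - x⁻¹ + x'⁻¹)))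
            (G.X K (topR D) (x'⁻¹ - x⁻¹ + x'⁻¹)) N', G.X_add, neg_add_cancel, G.X_zero, one_mul]
  have hdd : G.X K (topR D) (x⁻¹ - (x'⁻¹ - x⁻¹ + x'⁻¹)) ∈ D.diagonalSubgroup K := by
    rw [e4]; exact mul_mem (hd x' hx') (inv_mem (hd x hx))
  have h1 := Subgroup.mem_bot.1 (G.pos_inf_diag (F := K) ▸
    Subgroup.mem_inf.2 ⟨G.X_mem_posUnipotent hR hRp _, hdd⟩)
  have h1' := (G.X_eq_one_iff hR _).1 h1
  have hNN : N = N' := by
    have := e4.symm.trans h1
    exact (mul_inv_eq_one.1 this).symm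
  have hT : G.Hg K (topR D) (-x⁻¹) = G.Hg K (topR D) (-x'⁻¹) := by
    have := mul_right_cancel hNN
    rw [G.Ng_eq_Hg_mul, G.Ng_eq_Hg_mul (topR D) (-x'⁻¹)] at this
    exact mul_right_cancel this
  have h2 := G.Hg_conj_X hR hR (neg_ne_zero.2 (inv_ne_zero hx)) (1 : K)
  rw [hT, G.Hg_conj_X hR hR (neg_ne_zero.2 (inv_ne_zero hx')), G.P_self hR] at h2
  have h3 := G.X_injective hR h2
  simp only [mul_one] at h3
  simp [zpow_two] at h3
  have h4 : x'⁻¹ * x'⁻¹ = x⁻¹ * x⁻¹ := by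
    rw [← mul_inv, ← mul_inv]; congr 1; linear_combination h3
  have hxx : x⁻¹ = x'⁻¹ := by
    by_cases h2 : (2 : K) = 0
    · have : (x⁻¹ - x'⁻¹) * (x⁻¹ - x'⁻¹) = 0 := by
        linear_combination h4 * (-1 : K) + (x'⁻¹ * x'⁻¹ - x⁻¹ * x'⁻¹) * h2
      exact sub_eq_zero.1 (mul_self_eq_zero.1 this)
    · have : (2 : K) * (x⁻¹ - x'⁻¹) = 0 := by linear_combination h1'
      exact sub_eq_zero.1 ((mul_eq_zero.1 this).resolve_left h2)
  exact ⟨by rw [hxx, sub_self, G.X_zero, mul_one], inv_injective hxx⟩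

end OverFacts

end Cfsg.Agent.Lib.Chev
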