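import Cfsg.Agent.Lib.Chev.Over.Borel

/-!
An element of the overgroup carrying the highest root element to a fixed element is fixed.
-/

set_option autoImplicit false
set_option linter.unusedSectionVars false

namespace Cfsg.Agent.Lib.Chev

open Cfsg.Lie

variable {D : ChevalleyDatum} {T : Tables} {c : OCfg} {K : Type*} [Field K] {G : Good D T}
  {f : K →+* K} {H : Subgroup (GL D.Idx K)}

/-- Positive roots moved by the reflection in the highest root, from a given index on. -/
def flipFrom (D : ChevalleyDatum) (T : Tables) (c : OCfg) (k : ℕ) : Set ℕ :=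
  flipSet D T c.lR ∩ {q | k ≤ q}

namespace OverFacts

variable (O : OverFacts D T c)
include O

theorem flip_term (G : Good D T) {p q : ℕ} (hp : p < D.nroots) (hpp : npos D ≤ p)
    (hq : q < D.nroots) (hpq : npos D ≤ q) (hqf : wl T c.lR q < npos D)
    {x : ℕ × ℤ × ℕ × ℕ} (hx : x ∈ T.terms p q) : x.1 ∈ flipFrom D T c (q + 1) := by
  obtain ⟨k, C, a, b⟩ := x
  obtain ⟨hk, ha, hb, hlin⟩ := G.mem_terms hp hq hx
  obtain ⟨-, -, hgt⟩ := G.terms_gt hp hq hpp hpq hx
  refine ⟨?_, (show q + 1 ≤ k by omega)⟩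
  have hPk := G.P_lin (R := topR D) hp hq hk hlin
  have hPq := (O.flip_iff q hq).2 ⟨hpq, hqf⟩
  have hPp : 0 ≤ P D T (topR D) p := by
    by_cases hf : wl T c.lR p < npos D
    · exact ((O.flip_iff p hp).2 ⟨hpp, hf⟩).le
    · have h : P D T (topR D) p = 0 := by_contra fun h => hf ((O.keep_P p hp hpp).1 h)
      rw [h]
  have ha' : (1 : ℤ) ≤ (a : ℤ) := by exact_mod_cast ha
  have hb' : (1 : ℤ) ≤ (b : ℤ) := by exact_mod_cast hb
  have h0 : 0 < P D T (topR D) k := by rw [hPk]; nlinarith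
  exact ((O.flip_iff k hk).1 h0).2

theorem flipFrom_normal (G : Good D T) (k : ℕ) {x g : GL D.Idx K} (hx : x ∈ D.posUnipotent K)
    (hg : g ∈ G.USub K (flipFrom D T c k)) : x * g * x⁻¹ ∈ G.USub K (flipFrom D T c k) := by
  have gen : ∀ p, p < D.nroots → npos D ≤ p → ∀ t : K, ∀ y ∈ G.USub K (flipFrom D T c k),
      G.X K p t * y * (G.X K p t)⁻¹ ∈ G.USub K (flipFrom D T c k) := by
    intro p hp hpp t y hy
    have h : G.USub K (flipFrom D T c k) ≤
        (G.USub K (flipFrom D T c k)).comap (MulAut.conj (G.X K p t)).toMonoidHom := by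
      refine G.USub_le_of fun q hq hpq hqS v => ?_
      show G.X K p t * G.X K q v * (G.X K p t)⁻¹ ∈ G.USub K (flipFrom D T c k)
      by_cases e : q = p
      · subst e
        rw [G.X_add, G.X_inv, G.X_add, add_comm t v, add_neg_cancel_right]
        exact G.X_mem_USub hq hpq hqS v
      have hne : q ≠ ng D p := by have := G.even_n; unfold ng; omega
      have hc := G.commAt (F := K) p q hp hq e hne (-t) v
      have e2 : G.X K p t * G.X K q v * (G.X K p t)⁻¹ =
          G.X K q v * G.wordG (Good.cw T p q (-t) v) := by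
        rw [G.X_inv, mul_assoc, hc, ← mul_assoc, ← mul_assoc, G.X_add, add_neg_cancel, G.X_zero,
          one_mul]
      rw [e2]
      refine mul_mem (G.X_mem_USub hq hpq hqS v) (G.wordG_mem fun w hw => ?_)
      simp only [Good.cw, List.mem_map] at hw
      obtain ⟨x, hx', rfl⟩ := hw
      have hS := O.flip_term G hp hpp hq hpq hqS.1 hx'
      obtain ⟨hj, -, h2⟩ := G.terms_gt (k := x.1) (C := x.2.1) (a := x.2.2.1) (b := x.2.2.2)
        hp hq hpp hpq hx'
      have h3 : k ≤ q := hqS.2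
      exact G.X_mem_USub (S := flipSet D T c.lR ∩ {q | k ≤ q}) hj (by omega)
        ⟨hS.1, (show k ≤ x.1 by omega)⟩ _
    exact h hy
  rw [← G.tail_npos] at hx
  revert g
  induction hx using Subgroup.closure_induction_left with
  | one => intro g hg; simpa using hg
  | mul_left a ha b _ ih =>
    intro g hg
    obtain ⟨p, t, hp, hpp, -, rfl⟩ := ha
    have := gen p hp hpp t _ (ih hg)
    simpa [mul_assoc] using this
  | inv_mul_cancel a ha b _ ih =>
    intro g hg
    obtain ⟨p, t, hp, hpp, -, rfl⟩ := ha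
    have := gen p hp hpp (-t) _ (ih hg)
    rw [G.X_inv]
    simpa [mul_assoc, G.X_inv] using this

/-- Conjugating a root element of a flipped root by a positive element. -/
theorem flip_conj_eq (G : Good D T) {δ : ℕ} (hδ : δ < D.nroots) (hpδ : npos D ≤ δ)
    (hf : wl T c.lR δ < npos D) (t : K) {u : GL D.Idx K} (hu : u ∈ D.posUnipotent K) :
    ∃ w ∈ G.USub K (flipFrom D T c (δ + 1)), u * G.X K δ t * u⁻¹ = G.X K δ t * w := by
  rw [← G.tail_npos] at hu
  induction hu using Subgroup.closure_induction_left with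
  | one => exact ⟨1, one_mem _, by group⟩
  | mul_left a ha b _ ih =>
    obtain ⟨p, s, hp, hpp, -, rfl⟩ := ha
    obtain ⟨w, hw, e⟩ := ih
    by_cases e1 : δ = p
    · subst e1
      refine ⟨G.X K δ s * w * (G.X K δ s)⁻¹, O.flipFrom_normal G _ (G.X_mem_posUnipotent hδ hpδ s) hw, ?_⟩
      rw [show G.X K δ s * b * G.X K δ t * (G.X K δ s * b)⁻¹ =
        G.X K δ s * (b * G.X K δ t * b⁻¹) * (G.X K δ s)⁻¹ by group, e, ← mul_assoc, G.X_add,
        ← mul_assoc, ← mul_assoc, G.X_add, add_comm s t]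
    have hne : δ ≠ ng D p := by have := G.even_n; unfold ng; omega
    have hc := G.commAt (F := K) p δ hp hδ e1 hne (-s) t
    refine ⟨G.wordG (Good.cw T p δ (-s) t) * (G.X K p s * w * (G.X K p s)⁻¹), mul_mem
      (G.wordG_mem fun z hz => ?_) (O.flipFrom_normal G _ (G.X_mem_posUnipotent hp hpp s) hw), ?_⟩
    · simp only [Good.cw, List.mem_map] at hz
      obtain ⟨x, hx, rfl⟩ := hz
      obtain ⟨hj, -, h2⟩ := G.terms_gt (k := x.1) (C := x.2.1) (a := x.2.2.1) (b := x.2.2.2)
        hp hδ hpp hpδ hx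
      exact G.X_mem_USub hj (by omega) (O.flip_term G hp hpp hδ hpδ hf hx) _
    · have e2 : G.X K p s * G.X K δ t * (G.X K p s)⁻¹ =
          G.X K δ t * G.wordG (Good.cw T p δ (-s) t) := by
        rw [G.X_inv, mul_assoc, hc, ← mul_assoc, ← mul_assoc, G.X_add, add_neg_cancel, G.X_zero,
          one_mul]
      rw [show G.X K p s * b * G.X K δ t * (G.X K p s * b)⁻¹ =
        G.X K p s * (b * G.X K δ t * b⁻¹) * (G.X K p s)⁻¹ by group, e, ← mul_assoc (G.X K δ t),
        ← e2]
      group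
  | inv_mul_cancel a ha b _ ih =>
    obtain ⟨p, s, hp, hpp, -, rfl⟩ := ha
    obtain ⟨w, hw, e⟩ := ih
    rw [G.X_inv]
    by_cases e1 : δ = p
    · subst e1
      refine ⟨G.X K δ (-s) * w * (G.X K δ (-s))⁻¹,
        O.flipFrom_normal G _ (G.X_mem_posUnipotent hδ hpδ _) hw, ?_⟩
      rw [show G.X K δ (-s) * b * G.X K δ t * (G.X K δ (-s) * b)⁻¹ =
        G.X K δ (-s) * (b * G.X K δ t * b⁻¹) * (G.X K δ (-s))⁻¹ by group, e, ← mul_assoc, G.X_add,
        ← mul_assoc, ← mul_assoc, G.X_add, add_comm (-s) t]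
    have hne : δ ≠ ng D p := by have := G.even_n; unfold ng; omega
    have hc := G.commAt (F := K) p δ hp hδ e1 hne s t
    refine ⟨G.wordG (Good.cw T p δ s t) * (G.X K p (-s) * w * (G.X K p (-s))⁻¹), mul_mem
      (G.wordG_mem fun z hz => ?_) (O.flipFrom_normal G _ (G.X_mem_posUnipotent hp hpp _) hw), ?_⟩
    · simp only [Good.cw, List.mem_map] at hz
      obtain ⟨x, hx, rfl⟩ := hz
      obtain ⟨hj, -, h2⟩ := G.terms_gt (k := x.1) (C := x.2.1) (a := x.2.2.1) (b := x.2.2.2)
        hp hδ hpp hpδ hx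
      exact G.X_mem_USub hj (by omega) (O.flip_term G hp hpp hδ hpδ hf hx) _
    · have e2 : G.X K p (-s) * G.X K δ t * (G.X K p (-s))⁻¹ =
          G.X K δ t * G.wordG (Good.cw T p δ s t) := by
        rw [G.X_inv, neg_neg, mul_assoc, hc, ← mul_assoc, ← mul_assoc, G.X_add, neg_add_cancel,
          G.X_zero, one_mul]
      rw [show G.X K p (-s) * b * G.X K δ t * (G.X K p (-s) * b)⁻¹ =
        G.X K p (-s) * (b * G.X K δ t * b⁻¹) * (G.X K p (-s))⁻¹ by group, e,
        ← mul_assoc (G.X K δ t), ← e2]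
      group

end OverFacts

namespace OverH

variable (S : OverH G f H) (O : OverFacts D T c)
include S O

/-- An element of the overgroup fixing the highest root group is fixed. -/
theorem stab_fixed {g : GL D.Idx K} (hg : g ∈ H) {x : K}
    (h : g * G.X K (topR D) 1 * g⁻¹ = G.X K (topR D) x) : gmap f g = g := by
  have hR := S.topR_lt O
  have hRp := S.topR_pos O
  obtain ⟨b, hb, n, l, hl, u, hu, hgd⟩ := G.exists_normal_form (S.le hg)
  -- the Weyl part fixes the highest root
  have hfixR : ∀ {b n u : GL D.Idx K} {l : List ℕ}, b ∈ D.borelSubgroup K → G.Rep K n l →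
      u ∈ G.USub K (flipSet D T l) → (∃ y : K, b * n * u * G.X K (topR D) 1 * (b * n * u)⁻¹ =
        G.X K (topR D) y) → wl T l (topR D) = topR D := by
    intro b n u l hb hl hu ⟨y, hy⟩
    obtain ⟨hlt, d, hd, e⟩ := G.rep_act hl _ hR
    obtain ⟨z, hz, e'⟩ := O.borel_top G (inv_mem hb)
    refine G.X_root_inj hlt hR (t := d * 1) (u := z * y) (by simpa using hd) ?_
    rw [← e, ← e', ← hy, inv_inv, mul_assoc _ u (G.X K (topR D) 1),
      (O.commute_top G (G.USub_le_pos _ hu) 1).eq]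
    group
  have hlR := hfixR hb hl hu ⟨x, hgd ▸ h⟩
  -- conjugates of the radical are positive, hence fixed
  have hflip : ∀ {l : List ℕ}, IsW D l → wl T l (topR D) = topR D → ∀ q < D.nroots, npos D ≤ q →
      wl T c.lR q < npos D →
      wl T l q < D.nroots ∧ npos D ≤ wl T l q ∧ wl T c.lR (wl T l q) < npos D := by
    intro l hl hlR q hq hpq hqf
    have h1 := G.wl_lt hl hq
    have h2 : 0 < P D T (topR D) (wl T l q) := by
      rw [← hlR, G.P_wl hl hR hq]
      exact (O.flip_iff q hq).2 ⟨hpq, hqf⟩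
    exact ⟨h1, ((O.flip_iff _ h1).1 h2)⟩
  have hconjfix : ∀ δ < D.nroots, npos D ≤ δ → wl T c.lR δ < npos D →
      gmap f (g * G.X K δ 1 * g⁻¹) = g * G.X K δ 1 * g⁻¹ := by
    intro δ hδ hpδ hfδ
    refine S.pos_fixed O (mul_mem (mul_mem hg (S.mem_X_one δ)) (inv_mem hg)) ?_
    obtain ⟨w, hw, e⟩ := O.flip_conj_eq G hδ hpδ hfδ (1 : K) (G.USub_le_pos _ hu)
    have h1 : n * (G.X K δ 1 * w) * n⁻¹ ∈ D.posUnipotent K := by
      have hle : G.USub K (flipFrom D T c δ) ≤ (D.posUnipotent K).comap (MulAut.conj n).toMonoidHom := by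
        refine G.USub_le_of fun q hq hpq hqS v => ?_
        show n * G.X K q v * n⁻¹ ∈ D.posUnipotent K
        obtain ⟨-, d, hd, e⟩ := G.rep_act hl q hq
        rw [e]
        obtain ⟨h1, h2, -⟩ := hflip hl.1 hlR q hq hpq hqS.1
        exact G.X_mem_posUnipotent h1 h2 _
      refine hle (mul_mem (G.X_mem_USub (S := flipSet D T c.lR ∩ {q | δ ≤ q}) hδ hpδ
        ⟨hfδ, (le_refl δ : δ ≤ δ)⟩ 1) ?_)
      exact G.USub_mono (S' := flipSet D T c.lR ∩ {q | δ ≤ q})
        (fun q _ _ hq => ⟨hq.1, (Nat.le_of_succ_le hq.2 : δ ≤ q)⟩) hw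
    obtain ⟨v, hv, t, ht, rfl⟩ := G.mem_borel.1 hb
    have h2 := (Subgroup.mem_normalizer_iff.1 (G.diag_normalizes_pos ht) _).1 h1
    rw [hgd, show v * t * n * u * G.X K δ 1 * (v * t * n * u)⁻¹ =
      v * (t * (n * (u * G.X K δ 1 * u⁻¹) * n⁻¹) * t⁻¹) * v⁻¹ by group, e]
    exact mul_mem (mul_mem hv h2) (inv_mem hv)
  set a := g⁻¹ * gmap f g with ha
  have hag : a ∈ D.group K := mul_mem (inv_mem (S.le hg)) (G.gmap_group f (S.le hg))
  have hac : ∀ δ < D.nroots, npos D ≤ δ → wl T c.lR δ < npos D →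
      a * G.X K δ 1 * a⁻¹ = G.X K δ 1 := by
    intro δ hδ hpδ hfδ
    have h1 := hconjfix δ hδ hpδ hfδ
    rw [map_mul, map_mul, map_inv, G.gmap_X, map_one] at h1
    rw [ha, show g⁻¹ * gmap f g * G.X K δ 1 * (g⁻¹ * gmap f g)⁻¹ =
      g⁻¹ * (gmap f g * G.X K δ 1 * (gmap f g)⁻¹) * g by group, h1]
    group
  -- so the error term is in the Borel subgroup
  have haB : a ∈ D.borelSubgroup K := by
    obtain ⟨b', hb', n', l', hl', u', hu', e'⟩ := G.exists_normal_form hag
    have hlR' := hfixR hb' hl' hu' ⟨1, e' ▸ hac _ hR hRp (O.R_flip G)⟩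
    have htop : ∀ k δ, δ + k = D.nroots → δ < D.nroots → npos D ≤ δ → wl T c.lR δ < npos D →
        wl T l' δ = δ := by
      intro k
      induction k using Nat.strong_induction_on with
      | _ k ih =>
        intro δ hk hδ hpδ hfδ
        have ih' : ∀ q, δ < q → q < D.nroots → wl T c.lR q < npos D → wl T l' q = q :=
          fun q h1 h2 h3 => ih (D.nroots - q) (by omega) q (by omega) h2 (by omega) h3
        obtain ⟨h1, h2, h3⟩ := hflip hl'.1 hlR' δ hδ hpδ hfδ
        rcases Nat.lt_trichotomy (wl T l' δ) δ with hlt | heq | hgt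
        · exfalso
          obtain ⟨w, hw, e⟩ := O.flip_conj_eq G hδ hpδ hfδ (1 : K) (G.USub_le_pos _ hu')
          obtain ⟨-, d, hd, ed⟩ := G.rep_act hl' δ hδ
          have hwt : n' * w * n'⁻¹ ∈ G.tailU K (δ + 1) := by
            have hle : G.USub K (flipFrom D T c (δ + 1)) ≤
                (G.tailU K (δ + 1)).comap (MulAut.conj n').toMonoidHom := by
              refine G.USub_le_of fun q hq hpq hqS v => ?_
              show n' * G.X K q v * n'⁻¹ ∈ G.tailU K (δ + 1)
              obtain ⟨-, d', -, ed'⟩ := G.rep_act hl' q hq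
              have hq2 : δ + 1 ≤ q := hqS.2
              rw [ed', ih' q (by omega) hq hqS.1]
              exact G.X_mem_tail hq hpq hq2 _
            exact hle hw
          obtain ⟨v, hv, t, ht, rfl⟩ := G.mem_borel.1 hb'
          have h4 := hac δ hδ hpδ hfδ
          rw [e', show v * t * n' * u' * G.X K δ 1 * (v * t * n' * u')⁻¹ =
            v * t * (n' * (u' * G.X K δ 1 * u'⁻¹) * n'⁻¹) * (v * t)⁻¹ by group, e,
            show n' * (G.X K δ 1 * w) * n'⁻¹ = (n' * G.X K δ 1 * n'⁻¹) * (n' * w * n'⁻¹) by group,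
            ed] at h4
          have h5 : (n' * G.X K δ 1 * n'⁻¹) ∈ G.tailU K δ := by
            have h6 : G.X K (wl T l' δ) (d * 1) * (n' * w * n'⁻¹) =
                t⁻¹ * (v⁻¹ * G.X K δ 1 * v) * t := by rw [← h4]; group
            have h7 : t⁻¹ * (v⁻¹ * G.X K δ 1 * v) * t ∈ G.tailU K δ := by
              have h8 := G.tail_normal δ (inv_mem hv) (G.X_mem_tail hδ hpδ le_rfl (1 : K))
              rw [inv_inv] at h8
              have hle : G.tailU K δ ≤ (G.tailU K δ).comap (MulAut.conj t⁻¹).toMonoidHom := by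
                refine (Subgroup.closure_le _).2 ?_
                rintro z ⟨q, s, hq, hpq, hkq, rfl⟩
                show t⁻¹ * G.X K q s * t⁻¹⁻¹ ∈ G.tailU K δ
                obtain ⟨-, d', -, ed'⟩ := G.act_diag (inv_mem ht) q hq
                rw [ed']
                exact G.X_mem_tail hq hpq hkq _
              simpa using hle h8
            rw [← h6] at h7
            rw [ed]
            have := mul_mem h7 (inv_mem (G.tail_anti (by omega) hwt))
            rwa [mul_inv_cancel_right] at this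
          rw [ed] at h5
          have := G.X_tail_eq_zero h1 h2 (G.tail_anti (by omega) h5)
          simp at this
          exact hd this
        · exact heq
        · have h4 := ih' _ hgt h1 h3
          have h5 := congrArg (wl T l'.reverse) h4
          rw [G.wl_reverse_wl hl'.1 h1, G.wl_reverse_wl hl'.1 hδ] at h5
          exact h5
    have hpos : ∀ i < D.rank, npos D ≤ wl T l' (sim D i) := by
      intro i hi
      rcases O.spans i hi with hf | ⟨d, hd, hpd, hfd, d', hd', hpd', hfd', hk⟩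
      · rw [htop (D.nroots - sim D i) _ (by have := G.sim_lt hi; omega) (G.sim_lt hi) (G.sim_pos hi) hf]
        exact G.sim_pos hi
      · have h1 := G.k_wl_lin hl'.1 hd (G.sim_lt hi) hd' (a := 1) (b := 1)
          (fun m hm => by rw [hk m hm]; ring)
        rw [htop (D.nroots - d') _ (by omega) hd' hpd' hfd', htop (D.nroots - d) _ (by omega) hd hpd hfd] at h1
        have h2 : wl T l' (sim D i) = sim D i := G.eq_of_k_eq (T := T) (G.wl_lt hl'.1 (G.sim_lt hi))
          (G.sim_lt hi) fun m hm => by have := h1 m hm; rw [hk m hm] at this; linear_combination -this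
        rw [h2]; exact G.sim_pos hi
    have hd := mul_mem hl'.2 (G.nl_mem_diag_of_pos (F := K) _ rfl hl'.1 hpos)
    rw [inv_mul_cancel_right] at hd
    rw [e']
    exact mul_mem (mul_mem hb' (Subgroup.mem_sup_right hd))
      (Subgroup.mem_sup_left (G.USub_le_pos _ hu'))
  -- descend to the Borel subgroup
  obtain ⟨b₁, hb₁, n₁, l₁, hl₁, u₁, hu₁, e₁⟩ := G.exists_normal_form (S.le (inv_mem hg))
  set b₂ := b₁ * (n₁ * (G.nl K l₁)⁻¹)
  have hb₂ : b₂ ∈ D.borelSubgroup K := mul_mem hb₁ (Subgroup.mem_sup_right hl₁.2)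
  have e₂ : g⁻¹ = b₂ * G.nl K l₁ * u₁ := by rw [e₁]; simp only [b₂]; group
  have hnf : gmap f b₂ * G.nl K l₁ * gmap f u₁ = a⁻¹ * b₂ * G.nl K l₁ * u₁ := by
    have := congrArg (gmap f) e₂
    rw [map_inv, map_mul, map_mul, G.gmap_nl] at this
    rw [← this, ha, show (g⁻¹ * gmap f g)⁻¹ * b₂ * G.nl K l₁ * u₁ =
      (gmap f g)⁻¹ * g * (b₂ * G.nl K l₁ * u₁) by group, ← e₂]
    group
  have hgb : gmap f b₂ ∈ D.borelSubgroup K := by
    obtain ⟨v, hv, t, ht, e⟩ := G.mem_borel.1 hb₂
    rw [e, map_mul]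
    exact mul_mem (Subgroup.mem_sup_left (G.gmap_pos f hv)) (Subgroup.mem_sup_right (G.gmap_diag f ht))
  obtain ⟨-, hu₂⟩ := G.normal_form_unique (G.rep_nl hl₁.1) hgb (mul_mem (inv_mem haB) hb₂)
    (G.gmap_USub f hu₁) hu₁ hnf
  have huH := S.fix_le (G.pos_fix_mem_fixX f (G.USub_le_pos _ hu₁) hu₂)
  have hbH : b₂ ∈ H := by
    have := mul_mem (mul_mem (inv_mem hg) (inv_mem huH)) (inv_mem (S.mem_nl hl₁.1))
    rwa [e₂, mul_inv_cancel_right, mul_inv_cancel_right] at this
  have hb₂f := S.borel_fixed O hbH hb₂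
  have := congrArg (gmap f) e₂
  rw [map_inv, map_mul, map_mul, G.gmap_nl, hb₂f, hu₂, ← e₂] at this
  exact inv_injective this

/-- An element of the overgroup carrying a fixed scalar multiple of the highest root element to a
fixed element is fixed. -/
theorem fix_of_fix_root {g : GL D.Idx K} (hg : g ∈ H)
    (hy : gmap f (g * G.X K (topR D) 1 * g⁻¹) = g * G.X K (topR D) 1 * g⁻¹) : gmap f g = g := by
  obtain ⟨m, hm, v, hv, x, hx, e⟩ := O.descend_top G f (S.le hg) (one_ne_zero (α := K))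
  have hmf := G.fixX_fixed f hm
  have h1 := congrArg (gmap f) e
  rw [map_mul, map_mul, map_inv, hmf, hy, e, map_mul, map_mul, map_inv, G.gmap_X] at h1
  obtain ⟨hvf, -⟩ := O.low_unique G (G.gmap_USub f hv) hv ((map_ne_zero f).2 hx) hx h1.symm
  set k := v * G.nl K c.lR with hk
  have hkX : k ∈ Good.fixX (D := D) K f :=
    mul_mem (G.pos_fix_mem_fixX f (G.USub_le_pos _ hv) hvf) (G.nl_mem_fixX f O.lR)
  have hR := S.topR_lt O
  have e2 : ∃ y : K, k⁻¹ * m * g * G.X K (topR D) 1 * (k⁻¹ * m * g)⁻¹ = G.X K (topR D) y := by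
    have e3 : k⁻¹ * m * g * G.X K (topR D) 1 * (k⁻¹ * m * g)⁻¹ =
        (G.nl K c.lR)⁻¹ * G.X K (ng D (topR D)) x * G.nl K c.lR := by
      rw [show k⁻¹ * m * g * G.X K (topR D) 1 * (k⁻¹ * m * g)⁻¹ =
        k⁻¹ * (m * (g * G.X K (topR D) 1 * g⁻¹) * m⁻¹) * k by group, e, hk]
      group
    obtain ⟨y, hy'⟩ := G.act_inv_X (G.rep_nl O.lR) (G.ng_lt hR) x
    refine ⟨y, ?_⟩
    rw [e3, hy', ← O.lR_top, G.wl_reverse_wl O.lR hR]
  obtain ⟨y, hy'⟩ := e2
  have hkg := S.stab_fixed O (mul_mem (mul_mem (inv_mem (S.fix_le hkX)) (S.fix_le hm)) hg) hy'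
  rw [map_mul, map_mul, map_inv, G.fixX_fixed f hkX, hmf, mul_right_inj] at hkg
  exact hkg

end OverH

end Cfsg.Agent.Lib.Chev
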