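import Cfsg.Agent.Lib.Chev.Over.Main

/-!
Characteristic two with a long fundamental root next to the highest root.
-/

set_option autoImplicit false
set_option linter.unusedSectionVars false

namespace Cfsg.Agent.Lib.Chev

open Cfsg.Lie

variable {D : ChevalleyDatum} {T : Tables} {c : OCfg} {K : Type*} [Field K] {G : Good D T}
  {f : K →+* K} {H : Subgroup (GL D.Idx K)}

/-- The two dimensional module of the rank one group at the highest root. -/
noncomputable def vv (G : Good D T) (c : OCfg) (b : ℕ) (x z : K) : GL D.Idx K :=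
  G.X K b x * G.X K (ng D (sim D c.a0)) z

/-- The additive group fixed by the endomorphism. -/
def fixAdd (f : K →+* K) : AddSubgroup K where
  carrier := {x | f x = x}
  add_mem' := fun {x y} hx hy => by show f (x + y) = x + y; rw [map_add, hx, hy]
  zero_mem' := map_zero f
  neg_mem' := fun {x} hx => by show f (-x) = -x; rw [map_neg, hx]

namespace OverH

variable (S : OverH G f H) (O : OverFacts D T c) {b : ℕ} (hb : PairFacts D T c b)
  (ha2 : c.a2 = true) (h2 : (2 : K) = 0)
include S O hb ha2 h2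

theorem vv_commute (x z : K) : Commute (G.X K b x) (G.X K (ng D (sim D c.a0)) z) := by
  obtain ⟨-, -, hcb, hne, -⟩ := hb.typeA ha2
  have ha := G.sim_lt O.a0
  refine G.commute_of_terms hb.b_lt (G.ng_lt ha) (Ne.symm hne) ?_ hcb x z
  have := G.even_n; have := hb.b_pos; have := G.sim_pos O.a0; have := hb.b_lt; have := hb.b_ne
  unfold ng; omega

theorem vv_add (x z x' z' : K) : vv G c b x z * vv G c b x' z' = vv G c b (x + x') (z + z') := by
  unfold vv
  rw [← G.X_add, ← G.X_add, mul_assoc (G.X K b x),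
    ← mul_assoc (G.X K (ng D (sim D c.a0)) z), ← (S.vv_commute O hb ha2 h2 x' z).eq]
  group

theorem vv_eq_one {x z : K} (h : vv G c b x z = 1) : x = 0 ∧ z = 0 := by
  have ha := G.sim_lt O.a0
  have hn : ng D (sim D c.a0) < npos D := by
    have := G.even_n; have := G.sim_pos O.a0; unfold ng; omega
  have h1 : G.X K b x = (G.X K (ng D (sim D c.a0)) z)⁻¹ := eq_inv_of_mul_eq_one_left h
  have h3 := Subgroup.mem_bot.1 (G.borel_inf_neg (F := K) ▸ Subgroup.mem_inf.2
    ⟨Subgroup.mem_sup_left (G.X_mem_posUnipotent hb.b_lt hb.b_pos x),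
      h1 ▸ inv_mem (G.X_mem_negUnipotent (G.ng_lt ha) hn z)⟩)
  have h4 := h
  rw [vv, h3, one_mul] at h4
  exact ⟨(G.X_eq_one_iff hb.b_lt x).1 h3, (G.X_eq_one_iff (G.ng_lt ha) z).1 h4⟩

/-- Conjugation of the highest root element by the negative fundamental one. -/
theorem alpha_top (z τ : K) : G.X K (ng D (sim D c.a0)) z * G.X K (topR D) τ =
    G.X K (topR D) τ * G.X K b (z * τ) * G.X K (ng D (sim D c.a0)) z := by
  haveI : CharP K 2 := CharTwo.of_one_ne_zero_of_two_eq_zero one_ne_zero h2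
  obtain ⟨N, rest, hT, hN, hrest⟩ := hb.neg_top
  rw [if_pos ha2] at hrest
  subst hrest
  have ha := G.sim_lt O.a0
  have hR := O.R_lt
  have := G.even_n; have := G.sim_pos O.a0; have := O.R_pos G; have := O.alpha_ne_top G hb
  have hc := G.commAt (F := K) (ng D (sim D c.a0)) (topR D) (G.ng_lt ha) hR (by unfold ng; omega)
    (by rw [G.ng_ng ha]; omega) z τ
  have hw : G.wordG (Good.cw T (ng D (sim D c.a0)) (topR D) z τ) = G.X K b (z * τ) := by
    simp [Good.cw, hT, Good.wordG, natAbs_one_cast_two hN h2, CharTwo.neg_eq]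
  rw [hw] at hc
  have hcm : Commute (G.X K b (z * τ)) (G.X K (topR D) τ) :=
    (O.commute_top G (G.X_mem_posUnipotent hb.b_lt hb.b_pos _) τ)
  have hi : (G.X K b (z * τ))⁻¹ = G.X K b (z * τ) := by rw [G.X_inv, CharTwo.neg_eq]
  calc G.X K (ng D (sim D c.a0)) z * G.X K (topR D) τ
      = G.X K (ng D (sim D c.a0)) z * G.X K (topR D) τ * G.X K b (z * τ) * (G.X K b (z * τ))⁻¹ := by group
    _ = G.X K (topR D) τ * G.X K (ng D (sim D c.a0)) z * (G.X K b (z * τ))⁻¹ := by rw [← hc]
    _ = G.X K (topR D) τ * (G.X K (ng D (sim D c.a0)) z * G.X K b (z * τ)) := by rw [hi, mul_assoc]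
    _ = _ := by rw [← (S.vv_commute O hb ha2 h2 (z * τ) z).eq, ← mul_assoc]

/-- The lowest root element on the module. -/
theorem low_b (w x : K) : G.X K (ng D (topR D)) w * G.X K b x * (G.X K (ng D (topR D)) w)⁻¹ =
    vv G c b x (w * x) := by
  haveI : CharP K 2 := CharTwo.of_one_ne_zero_of_two_eq_zero one_ne_zero h2
  obtain ⟨-, ⟨M, hM, hM1⟩, -, -, hcn⟩ := hb.typeA ha2
  have ha := G.sim_lt O.a0
  have hR := O.R_lt
  have := G.even_n; have := G.sim_pos O.a0; have := O.R_pos G; have := O.alpha_ne_top G hb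
  have := hb.b_pos
  have hne2 : b ≠ ng D (ng D (topR D)) := by rw [G.ng_ng hR]; exact hb.b_ne_top
  have hc := G.commAt (F := K) (ng D (topR D)) b (G.ng_lt hR) hb.b_lt (by unfold ng; omega) hne2 w x
  set m := G.X K (ng D (sim D c.a0)) (w * x) with hm
  have hw : G.wordG (Good.cw T (ng D (topR D)) b w x) = m := by
    simp [hm, Good.cw, hM, Good.wordG, natAbs_one_cast_two hM1 h2, CharTwo.neg_eq]
  rw [hw] at hc
  have hi : m⁻¹ = m := by rw [hm, G.X_inv, CharTwo.neg_eq]
  have hcm : Commute m (G.X K (ng D (topR D)) w) :=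
    G.commute_of_terms (G.ng_lt ha) (G.ng_lt hR) (by unfold ng; omega)
      (by rw [G.ng_ng ha]; unfold ng; omega) hcn _ _
  calc G.X K (ng D (topR D)) w * G.X K b x * (G.X K (ng D (topR D)) w)⁻¹
      = G.X K (ng D (topR D)) w * G.X K b x * m * m⁻¹ * (G.X K (ng D (topR D)) w)⁻¹ := by group
    _ = G.X K b x * (G.X K (ng D (topR D)) w * m⁻¹ * (G.X K (ng D (topR D)) w)⁻¹) := by
        rw [← hc]; group
    _ = _ := by rw [hi, ← hcm.eq, mul_inv_cancel_right]; rfl

/-- The module is the natural one. -/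
theorem vv_rep (d : Matrix.SpecialLinearGroup (Fin 2) K) (x z : K) :
    G.phi O.R_lt d * vv G c b x z * (G.phi O.R_lt d)⁻¹ =
      vv G c b (d.1 0 0 * x + d.1 0 1 * z) (d.1 1 0 * x + d.1 1 1 * z) := by
  have ha := G.sim_lt O.a0
  have hR := O.R_lt
  let P : Subgroup (Matrix.SpecialLinearGroup (Fin 2) K) :=
    { carrier := {d | ∀ x z, G.phi O.R_lt d * vv G c b x z * (G.phi O.R_lt d)⁻¹ =
        vv G c b (d.1 0 0 * x + d.1 0 1 * z) (d.1 1 0 * x + d.1 1 1 * z)}
      one_mem' := fun x z => by simp [vv, G.X_zero]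
      mul_mem' := fun {d e} hd he x z => by
        rw [map_mul, show G.phi O.R_lt d * G.phi O.R_lt e * vv G c b x z *
          (G.phi O.R_lt d * G.phi O.R_lt e)⁻¹ = G.phi O.R_lt d *
          (G.phi O.R_lt e * vv G c b x z * (G.phi O.R_lt e)⁻¹) * (G.phi O.R_lt d)⁻¹ by group, he, hd]
        congr 1 <;> simp [Matrix.SpecialLinearGroup.coe_mul, Matrix.mul_apply, Fin.sum_univ_two] <;> ring
      inv_mem' := fun {d} hd x z => by
        have e := hd (d.1 1 1 * x - d.1 0 1 * z) (-d.1 1 0 * x + d.1 0 0 * z)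
        have hdet : d.1 0 0 * d.1 1 1 - d.1 0 1 * d.1 1 0 = 1 := by
          rw [← Matrix.det_fin_two]; exact d.2
        rw [show d.1 0 0 * (d.1 1 1 * x - d.1 0 1 * z) + d.1 0 1 * (-d.1 1 0 * x + d.1 0 0 * z) = x by
          linear_combination x * hdet,
          show d.1 1 0 * (d.1 1 1 * x - d.1 0 1 * z) + d.1 1 1 * (-d.1 1 0 * x + d.1 0 0 * z) = z by
          linear_combination z * hdet] at e
        rw [← e, map_inv, inv_inv]
        simp only [Matrix.SpecialLinearGroup.coe_inv, Matrix.adjugate_fin_two, Matrix.of_apply,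
          Matrix.cons_val', Matrix.cons_val_zero, Matrix.cons_val_one, Matrix.empty_val',
          Matrix.cons_val_fin_one]
        group
         }
  have hP : P = ⊤ := by
    refine Cfsg.Agent.Lib.Geometry.Dickson.eq_top_of_upper_lower (fun τ => ?_) (fun w => ?_)
    · intro x z
      show G.phi O.R_lt (su τ) * vv G c b x z * (G.phi O.R_lt (su τ))⁻¹ = _
      rw [G.phi_su hR]
      have hcb : Commute (G.X K b x) (G.X K (topR D) τ) :=
        O.commute_top G (G.X_mem_posUnipotent hb.b_lt hb.b_pos _) τ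
      have hcb2 : Commute (G.X K b (z * τ)) (G.X K (ng D (sim D c.a0)) z) :=
        S.vv_commute O hb ha2 h2 _ _
      have e := S.alpha_top O hb ha2 h2 z τ
      have e2 : G.X K (topR D) τ * G.X K (ng D (sim D c.a0)) z * (G.X K (topR D) τ)⁻¹ =
          G.X K b (z * τ) * G.X K (ng D (sim D c.a0)) z := by
        haveI : CharP K 2 := CharTwo.of_one_ne_zero_of_two_eq_zero one_ne_zero h2
        have hcb3 : Commute (G.X K b (z * τ)) (G.X K (topR D) τ) :=
          O.commute_top G (G.X_mem_posUnipotent hb.b_lt hb.b_pos _) τ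
        have hi : (G.X K b (z * τ))⁻¹ = G.X K b (z * τ) := by rw [G.X_inv, CharTwo.neg_eq]
        calc G.X K (topR D) τ * G.X K (ng D (sim D c.a0)) z * (G.X K (topR D) τ)⁻¹
            = (G.X K b (z * τ))⁻¹ * (G.X K b (z * τ) * G.X K (topR D) τ * G.X K (ng D (sim D c.a0)) z) *
              (G.X K (topR D) τ)⁻¹ := by group
          _ = _ := by rw [hcb3.eq, ← e, hi, mul_assoc, mul_inv_cancel_right]
      rw [vv, show G.X K (topR D) τ * (G.X K b x * G.X K (ng D (sim D c.a0)) z) * (G.X K (topR D) τ)⁻¹ =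
        (G.X K (topR D) τ * G.X K b x * (G.X K (topR D) τ)⁻¹) *
        (G.X K (topR D) τ * G.X K (ng D (sim D c.a0)) z * (G.X K (topR D) τ)⁻¹) by group, e2,
        ← hcb.eq, mul_inv_cancel_right, ← mul_assoc, G.X_add]
      simp [vv, Cfsg.Agent.Lib.Geometry.Dickson.upper, mul_comm z τ]
    · intro x z
      show G.phi O.R_lt (sl w) * vv G c b x z * (G.phi O.R_lt (sl w))⁻¹ = _
      rw [G.phi_sl hR]
      obtain ⟨-, -, -, -, hcn⟩ := hb.typeA ha2
      have := G.even_n; have := G.sim_pos O.a0; have := O.R_pos G; have := O.alpha_ne_top G hb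
      have hcm : Commute (G.X K (ng D (sim D c.a0)) z) (G.X K (ng D (topR D)) w) :=
        G.commute_of_terms (G.ng_lt ha) (G.ng_lt hR) (by unfold ng; omega)
          (by rw [G.ng_ng ha]; unfold ng; omega) hcn _ _
      have e3 := S.low_b O hb ha2 h2 w x
      rw [vv] at e3
      rw [vv, show G.X K (ng D (topR D)) w * (G.X K b x * G.X K (ng D (sim D c.a0)) z) *
        (G.X K (ng D (topR D)) w)⁻¹ = (G.X K (ng D (topR D)) w * G.X K b x * (G.X K (ng D (topR D)) w)⁻¹) *
          (G.X K (ng D (topR D)) w * G.X K (ng D (sim D c.a0)) z * (G.X K (ng D (topR D)) w)⁻¹) by group,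
        e3, ← hcm.eq, mul_inv_cancel_right, mul_assoc, G.X_add]
      simp [vv, Cfsg.Agent.Lib.Geometry.Dickson.lower]
  exact (show d ∈ P from hP ▸ Subgroup.mem_top d) x z

/-- The image of `SL₂` meets the module trivially. -/
theorem vv_faithful {d : Matrix.SpecialLinearGroup (Fin 2) K} {x z : K}
    (h : G.phi O.R_lt d = vv G c b x z) : d = 1 := by
  have key : ∀ x' z', vv G c b (d.1 0 0 * x' + d.1 0 1 * z') (d.1 1 0 * x' + d.1 1 1 * z') =
      vv G c b x' z' := by
    intro x' z'
    rw [← S.vv_rep O hb ha2 h2, h, S.vv_add O hb ha2 h2, add_comm x x', add_comm z z',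
      ← S.vv_add O hb ha2 h2, mul_inv_cancel_right]
  have hinj : ∀ {p q p' q' : K}, vv G c b p q = vv G c b p' q' → p = p' ∧ q = q' := by
    intro p q p' q' e
    have e' : vv G c b (p - p') (q - q') = 1 := by
      have h1 := S.vv_add O hb ha2 h2 (p - p') (q - q') p' q'
      rw [sub_add_cancel, sub_add_cancel, e] at h1
      exact mul_eq_right.1 h1
    obtain ⟨e1, e2⟩ := S.vv_eq_one O hb ha2 h2 e'
    exact ⟨sub_eq_zero.1 e1, sub_eq_zero.1 e2⟩
  obtain ⟨a00, a10⟩ := hinj (key 1 0)
  obtain ⟨a01, a11⟩ := hinj (key 0 1)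
  refine Subtype.ext ?_
  simp only [mul_one, mul_zero, add_zero, zero_add] at a00 a10 a01 a11
  ext i j
  fin_cases i <;> fin_cases j <;> simp [a00, a10, a01, a11]

variable [Finite H]

/-- The fixed field with the coordinate is a subfield containing the lowest parameter. -/
theorem field_of_coord (hF : {x : K | f x = x}.Finite) {u : GL D.Idx K}
    (hu : u ∈ G.USub K (flipRest D T c)) {t : K} (ht : f t ≠ t) {C : K} (hC : C ≠ 0) {v : GL D.Idx K}
    (hv : v = u * G.X K (sim D c.a0) t) (hy : v * G.X K (ng D (topR D)) C * v⁻¹ ∈ H) :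
    ∃ E : Subfield K, Finite E ∧ C ∈ E ∧ (∀ x, x ∈ E ↔ ∃ i j, f i = i ∧ f j = j ∧ x = i + t * j) ∧
      Nat.card E = Nat.card (fixAdd f) * Nat.card (fixAdd f) := by
  haveI hc2 : CharP K 2 := CharTwo.of_one_ne_zero_of_two_eq_zero one_ne_zero h2
  haveI : Fact (Nat.Prime 2) := ⟨Nat.prime_two⟩
  obtain ⟨N, hN, hNabs⟩ := hb.pair
  rw [if_pos ha2] at hNabs
  have hR := O.R_lt
  have hRp := O.R_pos G
  have ha := G.sim_lt O.a0
  have hvp : v ∈ D.posUnipotent K := by
    rw [hv]; exact mul_mem (G.USub_le_pos _ hu) (G.X_mem_posUnipotent ha (G.sim_pos O.a0) t)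
  have hco := O.coef_of_split G hb hN (t := t) hu
  rw [← hv, natAbs_one_cast_two hNabs h2, one_mul] at hco
  set J := H.comap (MulAut.conj v).toMonoidHom with hJ
  haveI : Finite J := Finite.of_injective (fun x : J => (⟨_, x.2⟩ : H)) fun p q h => by
    have h' := congrArg Subtype.val h
    exact Subtype.ext ((MulAut.conj v).injective h')
  have hJi : ∀ g, g ∈ J ↔ v * g * v⁻¹ ∈ H := fun g => Iff.rfl
  let E0 : Subgroup (Matrix.SpecialLinearGroup (Fin 2) K) :=
    { carrier := {d | ∃ x z, G.phi O.R_lt d * vv G c b x z ∈ J}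
      one_mem' := ⟨0, 0, by simp [vv, G.X_zero]⟩
      mul_mem' := by
        rintro d e ⟨x, z, h⟩ ⟨x', z', h'⟩
        obtain ⟨X', Z', hXZ⟩ : ∃ X' Z', (G.phi O.R_lt e)⁻¹ * vv G c b x z * G.phi O.R_lt e =
            vv G c b X' Z' := ⟨_, _, by
          have := S.vv_rep O hb ha2 h2 e⁻¹ x z
          rwa [map_inv, inv_inv] at this⟩
        refine ⟨X' + x', Z' + z', ?_⟩
        have := mul_mem h h'
        rw [← S.vv_add O hb ha2 h2, ← hXZ, map_mul]
        simpa [mul_assoc] using this
      inv_mem' := by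
        rintro d ⟨x, z, h⟩
        refine ⟨d.1 0 0 * x + d.1 0 1 * z, d.1 1 0 * x + d.1 1 1 * z, ?_⟩
        have h1 := inv_mem h
        have hi : (vv G c b x z)⁻¹ = vv G c b x z := inv_eq_of_mul_eq_one_right (by
          rw [S.vv_add O hb ha2 h2, CharTwo.add_self_eq_zero, CharTwo.add_self_eq_zero]; simp [vv, G.X_zero])
        rw [mul_inv_rev, hi] at h1
        rw [map_inv, ← S.vv_rep O hb ha2 h2]
        simpa [mul_assoc] using h1 }
  have hord : ∀ d ∈ E0, IsOfFinOrder d := by
    rintro d ⟨x, z, h⟩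
    have hp : ∀ n : ℕ, ∃ x' z', (G.phi O.R_lt d * vv G c b x z) ^ n =
        G.phi O.R_lt (d ^ n) * vv G c b x' z' := by
      intro n
      induction n with
      | zero => exact ⟨0, 0, by simp [vv, G.X_zero]⟩
      | succ n ih =>
        obtain ⟨x', z', e⟩ := ih
        obtain ⟨X', Z', hXZ⟩ : ∃ X' Z', (G.phi O.R_lt d)⁻¹ * vv G c b x' z' * G.phi O.R_lt d =
            vv G c b X' Z' := ⟨_, _, by
          have := S.vv_rep O hb ha2 h2 d⁻¹ x' z'
          rwa [map_inv, inv_inv] at this⟩
        refine ⟨X' + x, Z' + z, ?_⟩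
        rw [pow_succ, e, ← S.vv_add O hb ha2 h2, ← hXZ, pow_succ d, map_mul]
        group
    obtain ⟨x', z', e⟩ := hp (Nat.card J)
    have h1 : (⟨_, h⟩ : J) ^ Nat.card J = 1 := pow_card_eq_one'
    have h1' : (G.phi O.R_lt d * vv G c b x z) ^ Nat.card J = 1 := congrArg Subtype.val h1
    rw [h1'] at e
    have hi : (vv G c b x' z')⁻¹ = vv G c b x' z' := inv_eq_of_mul_eq_one_right (by
      rw [S.vv_add O hb ha2 h2, CharTwo.add_self_eq_zero, CharTwo.add_self_eq_zero]; simp [vv, G.X_zero])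
    have h3 : G.phi O.R_lt (d ^ Nat.card J) = vv G c b x' z' := by
      rw [← hi]; exact eq_inv_of_mul_eq_one_left e.symm
    exact isOfFinOrder_iff_pow_eq_one.2 ⟨_, Nat.card_pos, S.vv_faithful O hb ha2 h2 h3⟩
  have hXb : ∀ {g : GL D.Idx K}, g ∈ D.posUnipotent K → v * g * v⁻¹ ∈ H →
      gmap f (v * g * v⁻¹) = v * g * v⁻¹ := fun hg hm =>
    S.pos_fixed O hm (mul_mem (mul_mem hvp hg) (inv_mem hvp))
  -- the parameters in the upper group
  have hup : ∀ τ, Cfsg.Agent.Lib.Geometry.Dickson.upper τ ∈ E0 ↔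
      ∃ i j, f i = i ∧ f j = j ∧ τ = i + t * j := by
    intro τ
    constructor
    · rintro ⟨x, z, h⟩
      have hphi : G.phi O.R_lt (Cfsg.Agent.Lib.Geometry.Dickson.upper τ) = G.X K (topR D) τ :=
        G.phi_su hR τ
      rw [hphi] at h
      have h1 := mul_mem (mul_mem h ((hJi _).2 (by
        rw [(O.commute_top G hvp 1).eq, mul_inv_cancel_right]; exact S.mem_X_one (topR D)) :
          G.X K (topR D) 1 ∈ J)) (inv_mem h)
      have e1 : G.X K (topR D) τ * vv G c b x z * G.X K (topR D) 1 *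
          (G.X K (topR D) τ * vv G c b x z)⁻¹ = G.X K b z * G.X K (topR D) 1 := by
        have hA := S.alpha_top O hb ha2 h2 z 1
        rw [mul_one] at hA
        have hxR : Commute (G.X K b x) (G.X K (topR D) 1) :=
          O.commute_top G (G.X_mem_posUnipotent hb.b_lt hb.b_pos _) 1
        have hzR : Commute (G.X K b z) (G.X K (topR D) 1) :=
          O.commute_top G (G.X_mem_posUnipotent hb.b_lt hb.b_pos _) 1
        have hzt : Commute (G.X K b z) (G.X K (topR D) τ) :=
          O.commute_top G (G.X_mem_posUnipotent hb.b_lt hb.b_pos _) τ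
        have htt : Commute (G.X K (topR D) τ) (G.X K (topR D) (1 : K)) := by
          show _ * _ = _ * _
          rw [G.X_add, G.X_add, add_comm]
        have hxz : Commute (G.X K b x) (G.X K b z) := by
          show _ * _ = _ * _
          rw [G.X_add, G.X_add, add_comm]
        calc G.X K (topR D) τ * vv G c b x z * G.X K (topR D) 1 * (G.X K (topR D) τ * vv G c b x z)⁻¹
            = G.X K (topR D) τ * (G.X K b x * (G.X K (ng D (sim D c.a0)) z * G.X K (topR D) 1 *
                (G.X K (ng D (sim D c.a0)) z)⁻¹) * (G.X K b x)⁻¹) * (G.X K (topR D) τ)⁻¹ := by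
              rw [vv]; group
          _ = G.X K (topR D) τ * (G.X K b x * (G.X K (topR D) 1 * G.X K b z) * (G.X K b x)⁻¹) *
                (G.X K (topR D) τ)⁻¹ := by rw [hA]; group
          _ = G.X K (topR D) τ * (G.X K (topR D) 1 * G.X K b z) * (G.X K (topR D) τ)⁻¹ := by
              rw [(hxR.mul_right hxz).eq, mul_inv_cancel_right]
          _ = G.X K (topR D) 1 * G.X K b z := by rw [(htt.mul_right hzt.symm).eq, mul_inv_cancel_right]
          _ = _ := hzR.symm.eq
      rw [e1] at h1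
      have h2' : G.X K b z * G.X K (topR D) (-(z * t) + 1) ∈ H := by
        have e2 : v * (G.X K b z * G.X K (topR D) 1) * v⁻¹ =
            G.X K b z * G.X K (topR D) (-(z * t) + 1) := by
          rw [show v * (G.X K b z * G.X K (topR D) 1) * v⁻¹ =
            v * G.X K b z * v⁻¹ * (v * G.X K (topR D) 1 * v⁻¹) by group, O.coef_inv G hb hvp hco,
            (O.commute_top G hvp 1).eq, mul_inv_cancel_right, mul_assoc, G.X_add]
        rw [← e2]; exact h1
      have hbR : b < topR D := by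
        have := hb.b_lt; have := hb.b_ne_top; unfold topR at *; omega
      have hz := S.coord_fixed O hb.b_lt hb.b_pos (G.X_mem_tail hR hRp (by omega) _) h2'
      have h3 := S.par _ hR _ ((Subgroup.mul_mem_cancel_left H (S.mem_X (r := b) hz)).1 h2')
      rw [map_add, map_one, map_neg, map_mul, hz, add_left_inj, neg_inj] at h3
      have hz0 : z = 0 := by
        by_contra hz0
        exact ht (mul_left_cancel₀ hz0 h3)
      subst hz0
      have h4 : v * (G.X K (topR D) τ * G.X K b x) * v⁻¹ ∈ H := by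
        have h' := h
        rw [vv, G.X_zero, mul_one] at h'
        exact h'
      have e3 : v * (G.X K (topR D) τ * G.X K b x) * v⁻¹ = G.X K b x * G.X K (topR D) (-(x * t) + τ) := by
        rw [show G.X K (topR D) τ * G.X K b x = G.X K b x * G.X K (topR D) τ from
          (O.commute_top G (G.X_mem_posUnipotent hb.b_lt hb.b_pos x) τ).eq.symm,
          show v * (G.X K b x * G.X K (topR D) τ) * v⁻¹ =
            v * G.X K b x * v⁻¹ * (v * G.X K (topR D) τ * v⁻¹) by group, O.coef_inv G hb hvp hco,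
          (O.commute_top G hvp τ).eq, mul_inv_cancel_right, mul_assoc, G.X_add]
      rw [e3] at h4
      have hx := S.coord_fixed O hb.b_lt hb.b_pos (G.X_mem_tail hR hRp (by omega) _) h4
      have h5 := S.par _ hR _ ((Subgroup.mul_mem_cancel_left H (S.mem_X (r := b) hx)).1 h4)
      exact ⟨-(x * t) + τ, x, h5, hx, by linear_combination (0 : K) * h2⟩
    · rintro ⟨i, j, hi, hj, rfl⟩
      refine ⟨j, 0, ?_⟩
      rw [show G.phi O.R_lt (Cfsg.Agent.Lib.Geometry.Dickson.upper (i + t * j)) =
        G.X K (topR D) (i + t * j) from G.phi_su hR _, vv, G.X_zero, mul_one, hJi]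
      have e : v * (G.X K (topR D) (i + t * j) * G.X K b j) * v⁻¹ = G.X K b j * G.X K (topR D) i := by
        rw [← (O.commute_top G (G.X_mem_posUnipotent hb.b_lt hb.b_pos j) _).eq,
          show v * (G.X K b j * G.X K (topR D) (i + t * j)) * v⁻¹ =
            v * G.X K b j * v⁻¹ * (v * G.X K (topR D) (i + t * j) * v⁻¹) by group,
          O.coef_inv G hb hvp hco, (O.commute_top G hvp _).eq, mul_inv_cancel_right, mul_assoc, G.X_add]
        congr 2
        ring
      rw [e]
      exact mul_mem (S.mem_X hj) (S.mem_X hi)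
  have hcount : Nat.card (Cfsg.Agent.Lib.Geometry.Dickson.upperParams E0) =
      Nat.card (fixAdd f) * Nat.card (fixAdd f) := by
    rw [← Nat.card_prod]
    symm
    refine Nat.card_eq_of_bijective (fun p => ⟨p.1.1 + t * p.2.1, (hup _).2 ⟨_, _, p.1.2, p.2.2, rfl⟩⟩)
      ⟨?_, ?_⟩
    · rintro ⟨⟨i, hi⟩, ⟨j, hj⟩⟩ ⟨⟨i', hi'⟩, ⟨j', hj'⟩⟩ e
      have e' : i + t * j = i' + t * j' := congrArg Subtype.val e
      have hij : j = j' := by
        by_contra hne
        apply ht
        have et : t * (j - j') = i' - i := by linear_combination e'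
        have h1 : f (t * (j - j')) = t * (j - j') := by
          rw [et, map_sub, show f i' = i' from hi', show f i = i from hi]
        rw [map_mul, map_sub, show f j = j from hj, show f j' = j' from hj'] at h1
        exact mul_right_cancel₀ (sub_ne_zero.2 hne) h1
      subst hij
      have hii : i = i' := add_right_cancel e'
      subst hii
      rfl
    · rintro ⟨τ, hτ⟩
      obtain ⟨i, j, hi, hj, e⟩ := (hup τ).1 hτ
      exact ⟨(⟨i, hi⟩, ⟨j, hj⟩), Subtype.ext e.symm⟩
  haveI : Finite (fixAdd f) := hF.to_subtype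
  haveI : Finite (Cfsg.Agent.Lib.Geometry.Dickson.upperParams E0) := Nat.finite_of_card_ne_zero (by
    rw [hcount]; exact Nat.mul_ne_zero Nat.card_pos.ne' Nat.card_pos.ne')
  have h2d : 2 ∣ Nat.card (fixAdd f) := by
    have ho : addOrderOf (⟨1, map_one f⟩ : fixAdd f) = 2 := by
      refine addOrderOf_eq_prime (Subtype.ext ?_) (fun h => one_ne_zero (congrArg Subtype.val h))
      show (2 : ℕ) • (1 : K) = 0
      rw [nsmul_one, Nat.cast_ofNat, h2]
    rw [← ho]; exact addOrderOf_dvd_natCard _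
  have hlo : Cfsg.Agent.Lib.Geometry.Dickson.lower C ∈ E0 := by
    refine ⟨0, 0, ?_⟩
    rw [show G.phi O.R_lt (Cfsg.Agent.Lib.Geometry.Dickson.lower C) = G.X K (ng D (topR D)) C from
      G.phi_sl hR C, show vv G c b (0 : K) 0 = 1 by simp [vv, G.X_zero], mul_one, hJi]
    exact hy
  have hneg : (-1 : Matrix.SpecialLinearGroup (Fin 2) K) ∈ E0 := by
    have e : (-1 : Matrix.SpecialLinearGroup (Fin 2) K) = 1 := by
      refine Subtype.ext ?_
      ext i j
      fin_cases i <;> fin_cases j <;> simp [Matrix.SpecialLinearGroup.coe_neg, CharTwo.neg_eq]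
    rw [e]; exact one_mem _
  obtain ⟨E, hE, hCE, hu', -⟩ := exists_subfield_params (p := 2) hord hneg hC hlo
    ((hup 1).2 ⟨1, 0, map_one f, map_zero f, by ring⟩) (by
      rw [hcount, pow_two]; exact Nat.mul_dvd_mul h2d h2d)
  refine ⟨E, hE, hCE, fun x => (hu' x).symm.trans (hup x), ?_⟩
  rw [← hcount]
  exact Nat.card_congr (Equiv.subtypeEquivRight fun x => (hu' x).symm)

end OverH

end Cfsg.Agent.Lib.Chev
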