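import Cfsg.Agent.Lib.Chev.Over.Facts

/-!
The positive unipotent part of an overgroup of the subfield group is defined over the subfield.
-/

set_option autoImplicit false
set_option linter.unusedSectionVars false

namespace Cfsg.Agent.Lib.Chev

open Cfsg.Lie

variable {D : ChevalleyDatum} {T : Tables} {c : OCfg} {K : Type*} [Field K] {G : Good D T}
  {f : K →+* K} {H : Subgroup (GL D.Idx K)}

namespace OverH

variable (S : OverH G f H)
include S

theorem mem_X {r : ℕ} {t : K} (h : f t = t) : G.X K r t ∈ H := S.fix_le (G.X_mem_fixX f h)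

theorem mem_X_one (r : ℕ) : G.X K r 1 ∈ H := S.mem_X (map_one f)

theorem mem_nl {l : List ℕ} (hl : IsW D l) : G.nl K l ∈ H := S.fix_le (G.nl_mem_fixX f hl)

theorem mem_Ng {r : ℕ} {t : K} (h : f t = t) : G.Ng K r t ∈ H := by
  rw [Good.Ng]
  exact mul_mem (mul_mem (S.mem_X h) (S.mem_X (by simp [h]))) (S.mem_X h)

theorem mem_Hg {r : ℕ} {t : K} (h : f t = t) : G.Hg K r t ∈ H := by
  rw [Good.Hg]
  exact mul_mem (S.mem_Ng h) (S.mem_Ng (by simp))

omit S in
theorem fix_of_coeff {C C' : ℤ} (h : Nat.gcd C.natAbs C'.natAbs = 1) {t : K}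
    (h1 : f ((C : K) * t) = (C : K) * t) (h2 : f ((C' : K) * t) = (C' : K) * t) : f t = t := by
  have hb := Int.gcd_eq_gcd_ab C C'
  rw [show Int.gcd C C' = 1 from h, Nat.cast_one] at hb
  have e : t = (Int.gcdA C C' : K) * ((C : K) * t) + (Int.gcdB C C' : K) * ((C' : K) * t) := by
    have := congrArg (fun z : ℤ => (z : K) * t) hb
    simp only [Int.cast_one, one_mul, Int.cast_add, Int.cast_mul] at this
    linear_combination this
  rw [e, map_add, map_mul, map_mul f (Int.gcdB C C' : K), map_intCast, map_intCast, h1, h2]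

omit S in
theorem fix_of_unit {C : ℤ} (h : C.natAbs = 1) {t : K} (h1 : f ((C : K) * t) = (C : K) * t) :
    f t = t := fix_of_coeff (C' := 0) (by simp [h]) h1 (by simp)

omit S in
theorem gmap_X_fix {r : ℕ} {t : K} (h : f t = t) : gmap f (G.X K r t) = G.X K r t := by
  rw [G.gmap_X, h]

theorem kom_mem {γ : ℕ} {g : GL D.Idx K} (hg : g ∈ H) : G.kom γ 1 g ∈ H :=
  mul_mem (mul_mem (mul_mem (inv_mem (S.mem_X_one γ)) (inv_mem hg)) (S.mem_X_one γ)) hg

/-- The coordinate at `δ` times the coefficient of a step is fixed. -/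
theorem step_fix {γ δ k : ℕ} {C : ℤ} {rest : List (ℕ × ℤ × ℕ × ℕ)} (hγ : γ < D.nroots)
    (hpγ : npos D ≤ γ) (hδ : δ < D.nroots) (hpδ : npos D ≤ δ) (hne : γ ≠ δ)
    (hT : T.terms γ δ = (k, C, 1, 1) :: rest) {t : K} {d : GL D.Idx K}
    (hd : d ∈ G.tailU K (δ + 1)) (hm : G.kom γ 1 (G.X K δ t * d) ∈ H)
    (ih : ∀ k, δ < k → k < D.nroots → ∀ g ∈ H, g ∈ G.tailU K k → gmap f g = g) :
    f ((C : K) * t) = (C : K) * t := by
  obtain ⟨hk, hlt, h, hh, e⟩ := G.lead hγ hpγ hδ hpδ (Ne.symm hne) hT 1 t hd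
  rw [e, one_mul] at hm
  exact (G.fix_split f hk (by omega) hh (ih k hlt hk _ hm
    (mul_mem (G.X_mem_tail hk (by omega) le_rfl _) (G.tail_anti (by omega) hh)))).1

variable (O : OverFacts D T c)
include O

/-- The two element field case at the highest short root. -/
theorem special_two (hB : BFacts D T c) (h2 : (2 : K) = 0) (hF : ∀ x : K, f x = x → x = 0 ∨ x = 1)
    {s t : K} (hw : G.X K c.rs s * G.X K (topR D) t ∈ H) : f s = s := by
  obtain ⟨k1, C1, k2, C2, hT, hC1, hC2, e1, e2, w1, w2, w3, w4, heven, ⟨M1, M2, hT2, hM1, hM2⟩,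
    n1, n2, n3, n4, n5, n6, n7⟩ := hB.rel
  haveI : CharP K 2 := CharTwo.of_one_ne_zero_of_two_eq_zero one_ne_zero h2
  have hunit : ∀ C : ℤ, C.natAbs = 1 → (C : K) = 1 := by
    intro C hC
    rcases Int.natAbs_eq_iff.1 hC with h | h <;> simp [h, CharTwo.neg_eq]
  have heta : ∀ i r, (T.eta i r : K) = 1 := fun i r => hunit _ (by
    rcases T.eta_eq_or i r with h | h <;> simp [h])
  have ha := G.sim_lt hB.ia
  have hb := G.sim_lt hB.ib
  have hR : topR D < D.nroots := by have := O.rs_lt; unfold topR; omega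
  have hk1 : k1 < D.nroots := e1 ▸ G.wl_lt hB.lb O.rs_lt
  have hk2 : k2 < D.nroots := e2 ▸ G.wl_lt hB.lb hR
  set A := sim D c.ia
  set B := sim D c.ib
  -- move to the rank two pattern
  have hw1 : G.X K k1 s * G.X K k2 t ∈ H := by
    have h := mul_mem (mul_mem (S.mem_nl hB.lb) hw) (inv_mem (S.mem_nl hB.lb))
    rw [show G.nl K c.lb * (G.X K c.rs s * G.X K (topR D) t) * (G.nl K c.lb)⁻¹ =
      (G.nl K c.lb * G.X K c.rs s * (G.nl K c.lb)⁻¹) *
      (G.nl K c.lb * G.X K (topR D) t * (G.nl K c.lb)⁻¹) by group,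
      G.nl_conj_X hB.lb O.rs_lt, G.nl_conj_X hB.lb hR, e1, e2] at h
    have hel : ∀ r, (el T c.lb r : K) = 1 := fun r => hunit _ (by
      rcases el_eq_or (T := T) c.lb r with h | h <;> simp [h])
    rwa [hel, hel, one_mul, one_mul] at h
  have hni : ∀ i < D.rank, G.ni K i ∈ H := fun i hi => by
    rw [← G.nl_single]; exact S.mem_nl (isW_single hi)
  have hconj : ∀ i < D.rank, ∀ r r' : ℕ, r < D.nroots → r' < D.nroots → ∀ x y : K,
      G.X K r x * G.X K r' y ∈ H → G.X K (T.w i r) x * G.X K (T.w i r') y ∈ H := by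
    intro i hi r r' hr hr' x y h
    have h' := mul_mem (mul_mem (hni i hi) h) (inv_mem (hni i hi))
    rwa [show G.ni K i * (G.X K r x * G.X K r' y) * (G.ni K i)⁻¹ =
      (G.ni K i * G.X K r x * (G.ni K i)⁻¹) * (G.ni K i * G.X K r' y * (G.ni K i)⁻¹) by group,
      G.ni_conj_X hi hr, G.ni_conj_X hi hr', heta, heta, one_mul, one_mul] at h'
  have hcomm : ∀ x y : K, Commute (G.X K k1 x) (G.X K k2 y) :=
    G.commute_of_terms hk1 hk2 n4 n5 n3
  -- the coordinate at `k2` is the square of the one at `k1`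
  have claim : ∀ x y : K, G.X K k1 x * G.X K k2 y ∈ H → f (y - x * x) = y - x * x := by
    intro x y h
    have hxy := hconj c.ib hB.ib k1 k2 hk1 hk2 x y h
    rw [w1, w2] at hxy
    have hBA : B ≠ A := fun e => by
      rw [e] at hT
      simp [Tables.terms, Tables.chRoot, G.ch_self ha] at hT
    have hAB : B ≠ ng D A := by
      have := G.even_n; have := G.sim_pos hB.ia; have := G.sim_pos hB.ib; unfold ng; omega
    have hc := G.commAt (F := K) A B ha hb hBA hAB x 1
    have hword : G.wordG (Good.cw T A B x 1) = G.X K k1 x * G.X K k2 (x * x) := by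
      simp [Good.cw, hT, Good.wordG, hunit _ hC1, hunit _ hC2, CharTwo.neg_eq, pow_two]
    have hm : G.X K k1 x * G.X K k2 (x * x) ∈ H := by
      have hk := S.kom_mem (γ := B) hxy
      have hc2 : Commute (G.X K k2 y) (G.X K B 1) :=
        G.commute_of_terms hk2 hb (Ne.symm n6) (fun e' => n7 (by rw [e', G.ng_ng hk2])) n1 y 1
      have hc4 : Commute (G.X K k1 x * G.X K k2 (x * x)) (G.X K k2 y) :=
        (hcomm x y).mul_left (by
          show G.X K k2 (x * x) * G.X K k2 y = G.X K k2 y * G.X K k2 (x * x)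
          rw [G.X_add, G.X_add, add_comm])
      have e : G.kom B 1 (G.X K A x * G.X K k2 y) = G.X K k1 x * G.X K k2 (x * x) := by
        unfold Good.kom
        rw [show (G.X K B 1)⁻¹ * (G.X K A x * G.X K k2 y)⁻¹ * G.X K B 1 *
          (G.X K A x * G.X K k2 y) = (G.X K B 1)⁻¹ * (G.X K k2 y)⁻¹ * (G.X K A x)⁻¹ *
            (G.X K B 1 * G.X K A x) * G.X K k2 y by group, hc, hword,
          show (G.X K B 1)⁻¹ * (G.X K k2 y)⁻¹ * (G.X K A x)⁻¹ *
            (G.X K A x * G.X K B 1 * (G.X K k1 x * G.X K k2 (x * x))) * G.X K k2 y =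
            (G.X K B 1)⁻¹ * (G.X K k2 y)⁻¹ * G.X K B 1 *
              ((G.X K k1 x * G.X K k2 (x * x)) * G.X K k2 y) by group, hc4.eq,
          show (G.X K B 1)⁻¹ * (G.X K k2 y)⁻¹ * G.X K B 1 *
            (G.X K k2 y * (G.X K k1 x * G.X K k2 (x * x))) =
            (G.X K B 1)⁻¹ * (G.X K k2 y)⁻¹ * (G.X K B 1 * G.X K k2 y) *
              (G.X K k1 x * G.X K k2 (x * x)) by group, ← hc2.eq]
        group
      rwa [e] at hk
    have h3 : G.X K k2 (y - x * x) ∈ H := by
      have h4 := mul_mem h (inv_mem hm)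
      rwa [show G.X K k1 x * G.X K k2 y * (G.X K k1 x * G.X K k2 (x * x))⁻¹ =
        G.X K k1 x * (G.X K k2 y * (G.X K k2 (x * x))⁻¹) * (G.X K k1 x)⁻¹ by group,
        G.X_inv k2, G.X_add, (hcomm x _).eq, mul_inv_cancel_right, ← sub_eq_add_neg] at h4
    exact S.par k2 hk2 _ h3
  have hst := claim s t hw1
  -- a second element from the negative fundamental root
  have hA' := G.ng_lt ha
  have hnk1 : k1 ≠ ng D A := by
    intro e
    have := G.mem_terms ha hb (hT ▸ List.mem_cons_self)
    have h1 := G.terms_gt ha hb (G.sim_pos hB.ia) (G.sim_pos hB.ib) (hT ▸ List.mem_cons_self)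
    have := G.even_n; have := G.sim_pos hB.ia; unfold ng at e; omega
  have hgt := G.terms_gt ha hb (G.sim_pos hB.ia) (G.sim_pos hB.ib) (hT ▸ List.mem_cons_self)
  have hgt2 := G.terms_gt ha hb (G.sim_pos hB.ia) (G.sim_pos hB.ib)
    (hT ▸ List.mem_cons_of_mem _ List.mem_cons_self)
  have hp1 := G.sim_pos hB.ia
  have hn := G.even_n
  have hneg : ng D A < npos D := by unfold ng; omega
  have hc1 : ∀ x : K, G.X K k1 x * G.X K (ng D A) 1 = G.X K (ng D A) 1 * G.X K k1 x := by
    intro x
    have h := G.commAt (F := K) (ng D A) k1 hA' hk1 (by omega)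
      (by rw [G.ng_ng ha]; omega) 1 x
    rw [h, Good.wordG, List.prod_eq_one (fun z hz => ?_), mul_one]
    simp only [Good.cw, List.map_map, List.mem_map, Function.comp_apply] at hz
    obtain ⟨e, he, rfl⟩ := hz
    obtain ⟨q, hq⟩ := Int.dvd_of_emod_eq_zero (heven e he)
    rw [hq]; push_cast
    rw [h2, zero_mul, zero_mul, zero_mul, G.X_zero]
  have hm2 : G.X K k1 t * G.X K B t ∈ H := by
    have h := G.commAt (F := K) (ng D A) k2 hA' hk2 (by omega) (by rw [G.ng_ng ha]; omega) 1 t
    have hword : G.wordG (Good.cw T (ng D A) k2 1 t) = G.X K k1 t * G.X K B t := by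
      simp [Good.cw, hT2, Good.wordG, hunit _ hM1, hunit _ hM2, CharTwo.neg_eq]
    have hk := mul_mem (mul_mem (mul_mem (inv_mem hw1) (inv_mem (S.mem_X_one (ng D A)))) hw1)
      (S.mem_X_one (ng D A))
    rw [← hword]
    have e : G.wordG (Good.cw T (ng D A) k2 1 t) = (G.X K k1 s * G.X K k2 t)⁻¹ * (G.X K (ng D A) 1)⁻¹ *
        (G.X K k1 s * G.X K k2 t) * G.X K (ng D A) 1 := by
      rw [show (G.X K k1 s * G.X K k2 t)⁻¹ * (G.X K (ng D A) 1)⁻¹ *
        (G.X K k1 s * G.X K k2 t) * G.X K (ng D A) 1 = (G.X K k1 s * G.X K k2 t)⁻¹ *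
          (G.X K (ng D A) 1)⁻¹ * G.X K k1 s * (G.X K k2 t * G.X K (ng D A) 1) by group, h,
        show (G.X K k1 s * G.X K k2 t)⁻¹ * (G.X K (ng D A) 1)⁻¹ * G.X K k1 s *
          (G.X K (ng D A) 1 * G.X K k2 t * G.wordG (Good.cw T (ng D A) k2 1 t)) =
          (G.X K k1 s * G.X K k2 t)⁻¹ * (G.X K (ng D A) 1)⁻¹ * (G.X K k1 s * G.X K (ng D A) 1) *
            G.X K k2 t * G.wordG (Good.cw T (ng D A) k2 1 t) by group, hc1]
      group
    rwa [e]
  have hA2 := hconj c.ia hB.ia k1 B hk1 hb t t hm2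
  rw [w3, w4] at hA2
  have htt := claim t t hA2
  rcases hF _ htt with h0 | h1
  · -- `t` is fixed, so is `s`
    have ht : t = 0 ∨ t = 1 := by
      rcases mul_eq_zero.1 (show t * (t - 1) = 0 by linear_combination -h0) with h | h
      · exact Or.inl h
      · exact Or.inr (sub_eq_zero.1 h)
    have htf : f t = t := by rcases ht with h | h <;> simp [h]
    have hss : f (s * s) = s * s := by
      rw [map_sub, htf] at hst
      linear_combination -hst
    rw [map_mul] at hss
    have : (f s - s) * (f s - s) = 0 := by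
      linear_combination hss + (s * s - f s * s) * h2
    exact sub_eq_zero.1 (mul_self_eq_zero.1 this)
  exfalso
  have ht2 : t * t = t + 1 := by linear_combination -h1 + (-1) * h2
  have hBk : G.X K B t * G.X K k2 t ∈ H := by
    have hBk2 : Commute (G.X K k2 t) (G.X K B t) :=
      G.commute_of_terms hk2 hb (Ne.symm n6) (fun e' => n7 (by rw [e', G.ng_ng hk2])) n1 t t
    have h5 := mul_mem (inv_mem hm2) hA2
    rw [show (G.X K k1 t * G.X K B t)⁻¹ * (G.X K k1 t * G.X K k2 t) =
      (G.X K B t)⁻¹ * G.X K k2 t by group, G.X_inv, CharTwo.neg_eq] at h5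
    exact h5
  have hnB : G.X K (ng D B) t * G.X K k2 t ∈ H := by
    have := hconj c.ib hB.ib B k2 hb hk2 t t hBk
    rwa [G.w_sim hB.ib, w2] at this
  have hcB : Commute (G.X K k2 t) (G.X K (ng D B) t) :=
    G.commute_of_terms hk2 (G.ng_lt hb) (Ne.symm n7) (fun e' => n6 (by
      have := congrArg (ng D) e'; rwa [G.ng_ng hb, G.ng_ng hk2, eq_comm] at this)) n2 t t
  have hA3 : G.X K B t * G.X K (ng D B) t ∈ H := by
    have h6 := mul_mem hBk hnB
    rwa [show G.X K B t * G.X K k2 t * (G.X K (ng D B) t * G.X K k2 t) =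
      G.X K B t * (G.X K k2 t * G.X K (ng D B) t) * G.X K k2 t by group, hcB.eq,
      show G.X K B t * (G.X K (ng D B) t * G.X K k2 t) * G.X K k2 t =
      G.X K B t * G.X K (ng D B) t * (G.X K k2 t * G.X K k2 t) by group, G.X_add,
      CharTwo.add_self_eq_zero, G.X_zero, mul_one] at h6
  have hsl : (su (1 : K) * sl 1 * su 1) * ((su t * sl t) * (su t * sl t)) = su t := by
    refine Subtype.ext ?_
    simp only [Matrix.SpecialLinearGroup.coe_mul]
    ext i j
    fin_cases i <;> fin_cases j <;> simp [su, sl, Matrix.mul_apply, Fin.sum_univ_two] <;>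
      grobner
  have hX : G.X K B t ∈ H := by
    rw [← G.phi_su hb, ← hsl]
    simp only [map_mul, G.phi_su hb, G.phi_sl hb]
    exact mul_mem (mul_mem (mul_mem (S.mem_X_one _) (S.mem_X_one _)) (S.mem_X_one _))
      (mul_mem hA3 hA3)
  rcases hF _ (S.par B hb t hX) with h | h <;> subst h <;> simp at ht2

theorem topR_lt : topR D < D.nroots := by have := O.rs_lt; unfold topR; omega

theorem topR_pos : npos D ≤ topR D := by
  have := O.npos_pos; have := G.even_n; unfold topR; omega

theorem top_tail {d : GL D.Idx K} (hd : d ∈ G.tailU K (topR D + 1)) : d = 1 := by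
  have := O.rs_lt
  rw [G.tail_bot (by unfold topR; omega), Subgroup.mem_bot] at hd
  exact hd

/-- Elements `X_rs(t) d` of the group, with `d` later, reduce to `X_rs(t) X_R(s)`. -/
theorem strip_rs (hne : c.rs ≠ topR D) {t : K}
    (ih : ∀ k, c.rs < k → k < D.nroots → ∀ g ∈ H, g ∈ G.tailU K k → gmap f g = g) :
    ∀ (n e : ℕ), e + n = topR D → c.rs < e → ∀ d ∈ G.tailU K e, G.X K c.rs t * d ∈ H →
      ∃ s, G.X K c.rs t * G.X K (topR D) s ∈ H := by
  have hR := S.topR_lt O
  have hRp := S.topR_pos O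
  have hrs := O.rs_lt
  have hrp := O.rs_pos
  intro n
  induction n with
  | zero =>
    intro e he _ d hd hm
    rw [Nat.add_zero] at he; subst he
    obtain ⟨s, d', hd', rfl⟩ := G.tail_decomp hR hRp hd
    rw [S.top_tail O hd', mul_one] at hm
    exact ⟨s, hm⟩
  | succ n ihn =>
    intro e he hlt d hd hm
    obtain ⟨u, d', hd', rfl⟩ := G.tail_decomp (show e < D.nroots by omega) (by omega) hd
    have hu : f u = u := by
      obtain ⟨g, hg, hgp, hgd, k, C, rest, hT, hcase⟩ :=
        O.up e (by omega) (by omega) (by omega) (by omega)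
      rcases hcase with ⟨hC, h' | h' | hcm⟩ | ⟨h', -⟩
      · omega
      · exact absurd h' hne
      swap
      · omega
      refine fix_of_unit hC (S.step_fix hg hgp (by omega) (by omega) hgd hT hd' ?_
        (fun k hk hk' => ih k (by omega) hk'))
      have hk := S.kom_mem (γ := g) hm
      have h1 : G.kom g 1 (G.X K c.rs t) = 1 := by
        unfold Good.kom
        by_cases e' : c.rs = g
        · subst e'
          rw [G.X_inv, G.X_inv, G.X_add, G.X_add, G.X_add]
          rw [show -(1 : K) + -t + 1 + t = 0 by ring, G.X_zero]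
        · have hcm' : Commute (G.X K g (1 : K)) (G.X K c.rs t) :=
            G.commute_of_terms hg hrs e' (by have := G.even_n; unfold ng; omega) hcm 1 t
          rw [mul_assoc, hcm'.eq]; group
      rwa [G.kom_mul g 1 (G.X K c.rs t), h1, mul_one, inv_mul_cancel, mul_one] at hk
    refine ihn (e + 1) (by omega) (by omega)
      ((G.X K c.rs t)⁻¹ * G.X K e (-u) * G.X K c.rs t * G.X K e u * d') (mul_mem ?_ hd') ?_
    · have hne' : e ≠ ng D c.rs := by have := G.even_n; unfold ng; omega
      have hc := G.commAt (F := K) c.rs e hrs (by omega) (by omega) hne' t (-u)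
      rw [mul_assoc ((G.X K c.rs t)⁻¹), hc, mul_assoc (G.X K c.rs t), inv_mul_cancel_left]
      have hW : G.wordG (Good.cw T c.rs e t (-u)) ∈ G.tailU K (e + 1) := by
        refine G.wordG_mem fun w hw => ?_
        simp only [Good.cw, List.mem_map] at hw
        obtain ⟨⟨j, C, a, b⟩, hc', rfl⟩ := hw
        obtain ⟨hj, h1, h2⟩ := G.terms_gt hrs (by omega) hrp (by omega) hc'
        exact G.X_mem_tail hj (by omega) (by omega) _
      have := G.tail_normal (e + 1)
        (G.X_mem_posUnipotent (show e < D.nroots by omega) (by omega) (-u)) hW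
      rwa [G.X_inv, neg_neg] at this
    · have := mul_mem (S.mem_X (r := e) (show f (-u) = -u by rw [map_neg, hu])) hm
      rwa [show G.X K c.rs t * ((G.X K c.rs t)⁻¹ * G.X K e (-u) * G.X K c.rs t * G.X K e u * d') =
        G.X K e (-u) * (G.X K c.rs t * (G.X K e u * d')) by group]

/-- The coordinate at the highest short root. -/
theorem fix_rs (hne : c.rs ≠ topR D) (hd0 : DownFacts D T c) {t : K} {d : GL D.Idx K}
    (hd : d ∈ G.tailU K (c.rs + 1)) (hm : G.X K c.rs t * d ∈ H)
    (ih : ∀ k, c.rs < k → k < D.nroots → ∀ g ∈ H, g ∈ G.tailU K k → gmap f g = g) : f t = t := by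
  have hR := S.topR_lt O
  have hrs := O.rs_lt
  have hrp := O.rs_pos
  obtain ⟨g, hg, hgp, hgd, k₁, C, rest₁, k, C', rest, hT, -, -, -, -, h23⟩ := hd0.step
  have hC : f ((C : K) * t) = (C : K) * t :=
    S.step_fix hg hgp hrs hrp hgd hT hd (S.kom_mem hm) ih
  by_cases hC0 : (C : K) = 0
  swap
  · rw [map_mul, map_intCast] at hC
    exact mul_left_cancel₀ hC0 hC
  have hRlt : c.rs < topR D := by
    unfold topR at hne ⊢; omega
  obtain ⟨s, hs⟩ := S.strip_rs O hne ih (topR D - (c.rs + 1)) (c.rs + 1) (by omega) (by omega) d hd hm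
  by_cases hlam : ∃ lam : K, f lam = lam ∧ lam ≠ 0 ∧ lam ≠ 1
  · obtain ⟨lam, hl, hl0, hl1⟩ := hlam
    have hsj := G.sim_lt O.j_lt
    have hh := S.mem_Hg (r := sim D c.j) hl
    have h := mul_mem (mul_mem (mul_mem hh hs) (inv_mem hh)) (inv_mem hs)
    rw [show G.Hg K (sim D c.j) lam * (G.X K c.rs t * G.X K (topR D) s) *
      (G.Hg K (sim D c.j) lam)⁻¹ = (G.Hg K (sim D c.j) lam * G.X K c.rs t *
      (G.Hg K (sim D c.j) lam)⁻¹) * (G.Hg K (sim D c.j) lam * G.X K (topR D) s *
      (G.Hg K (sim D c.j) lam)⁻¹) by group, G.Hg_conj_X hsj hrs hl0, G.Hg_conj_X hsj hR hl0,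
      G.P_sim O.j_lt, G.P_sim O.j_lt, hd0.Aj_rs, hd0.Aj_top, zpow_one, zpow_zero, one_mul,
      mul_inv_rev, mul_assoc, mul_inv_cancel_left, G.X_inv, G.X_add] at h
    have h' := S.par _ hrs _ h
    rw [map_add, map_neg, map_mul, hl] at h'
    have : (lam - 1) * (f t - t) = 0 := by linear_combination h'
    exact sub_eq_zero.1 ((mul_eq_zero.1 this).resolve_left (sub_ne_zero.2 hl1))
  · push Not at hlam
    have hF : ∀ x : K, f x = x → x = 0 ∨ x = 1 := fun x hx => by
      by_cases h0 : x = 0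
      · exact Or.inl h0
      · exact Or.inr (hlam x hx h0)
    have h2 : (2 : K) = 0 := by
      rcases hF 2 (map_ofNat f 2) with h | h
      · exact h
      · exact absurd (show (1 : K) = 0 by linear_combination h) one_ne_zero
    rcases h23 with h3 | ⟨-, hB⟩
    · exfalso
      rcases Int.natAbs_eq_iff.1 h3 with e | e
      · rw [e] at hC0; push_cast at hC0
        exact one_ne_zero (α := K) (by linear_combination hC0 - h2)
      · rw [e] at hC0; push_cast at hC0
        exact one_ne_zero (α := K) (by linear_combination -hC0 - h2)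
    exact S.special_two O hB h2 hF hs

/-- The positive unipotent elements of the overgroup have all coordinates in the subfield. -/
theorem tail_fixed : ∀ (n δ : ℕ), δ + n = D.nroots → npos D ≤ δ → ∀ g ∈ H, g ∈ G.tailU K δ →
    gmap f g = g := by
  intro n
  induction n using Nat.strong_induction_on with
  | _ n ihn =>
    intro δ he hpδ g hgH hg
    rcases Nat.eq_zero_or_pos n with rfl | hn
    · rw [G.tail_bot (by omega), Subgroup.mem_bot] at hg
      rw [hg, map_one]
    obtain ⟨t, d, hd, rfl⟩ := G.tail_decomp (show δ < D.nroots by omega) hpδ hg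
    have ih : ∀ k, δ < k → k < D.nroots → ∀ g ∈ H, g ∈ G.tailU K k → gmap f g = g :=
      fun k hk hk' => ihn (D.nroots - k) (by omega) k (by omega) (by omega)
    suffices ht : f t = t by
      have hdH : d ∈ H := by
        have := mul_mem (inv_mem (S.mem_X (r := δ) ht)) hgH
        rwa [inv_mul_cancel_left] at this
      rw [map_mul, gmap_X_fix ht, ihn (n - 1) (by omega) (δ + 1) (by omega) (by omega) d hdH hd]
    by_cases hR : δ = topR D
    · subst hR
      rw [S.top_tail O hd, mul_one] at hgH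
      exact S.par _ (S.topR_lt O) t hgH
    by_cases hrs : δ = c.rs
    · subst hrs
      rcases O.down with h | h
      · exact absurd h hR
      · exact S.fix_rs O hR h hd hgH ih
    obtain ⟨γ, hγ, hγp, hne, k, C, rest, hT, hcase⟩ := O.up δ (by omega) hpδ hR hrs
    have h1 := S.step_fix hγ hγp (by omega) hpδ hne hT hd (S.kom_mem hgH) ih
    rcases hcase with ⟨hC, -⟩ | ⟨-, γ', hγ', hγp', hne', k', C', rest', hT', hgcd⟩
    · exact fix_of_unit hC h1
    · exact fix_of_coeff hgcd h1
        (S.step_fix hγ' hγp' (by omega) hpδ hne' hT' hd (S.kom_mem hgH) ih)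

theorem pos_fixed {g : GL D.Idx K} (hg : g ∈ H) (hU : g ∈ D.posUnipotent K) : gmap f g = g :=
  S.tail_fixed O (npos D) (npos D) (by have := G.even_n; omega) le_rfl g hg (by rw [G.tail_npos]; exact hU)

/-- Coordinates of positive unipotent elements of the overgroup. -/
theorem coord_fixed {k : ℕ} (hk : k < D.nroots) (hpk : npos D ≤ k) {t : K} {h : GL D.Idx K}
    (hh : h ∈ G.tailU K (k + 1)) (hm : G.X K k t * h ∈ H) : f t = t :=
  (G.fix_split f hk hpk hh (S.pos_fixed O hm
    (mul_mem (G.X_mem_posUnipotent hk hpk t) (G.tail_le_pos _ hh)))).1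

end OverH

end Cfsg.Agent.Lib.Chev
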